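import Groth.Agent.PerfC.PullRestrict
import Groth.Agent.Krr.H450.ConormalIso
import Groth.Agent.Dcoh.StalkFF
import Mathlib.AlgebraicGeometry.Morphisms.Flat

/-!
# Ranks of pullbacks of finite locally free modules

* `finrank_stalk`: rank of the stalk of a locally free module;
* `exists_rank_bound`: ranks of the stalks of all pullbacks of a finite locally free module on a quasi-compact
  scheme are bounded;
* `isFlatOver_of_isFinLocFree`.
-/

set_option autoImplicit false
universe u

open CategoryTheory CategoryTheory.Limits AlgebraicGeometry TopologicalSpace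

namespace K795.FibreRank

open Groth.Agent.Smoothlim.ConormalRes Groth.Agent.CycB.StalkExact
open Groth.Agent.Fdesc.PullbackStalk Groth.Agent.PerfC.FlatExact
open Groth.Agent.Grpsch.ConormalIso
open Groth.Agent.Dcoh.StalkRestrict Groth.Agent.Dcoh.FreeSec
open Groth.Agent.Krr.H450.ConormalIso
open Groth.Agent.PerfC.PullRestrict

variable {X : Scheme.{u}}

theorem exists_basis_stalk' {M : X.Modules} {U : X.Opens} {r : ℕ} (a : M.restrict U.ι ≅ FlatMod.freeMod (↑U) r)
    (x : X) (hx : x ∈ U) :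
    Nonempty (Module.Basis (Fin r) (X.presheaf.stalk x) (M.presheaf.stalk x)) := by
  let b : Module.Basis (Fin r) ((U : Scheme.{u}).presheaf.stalk (pt U hx))
      ((M.restrict U.ι).presheaf.stalk (pt U hx)) :=
    Module.Basis.ofEquivFun ((stalkLinEquiv a (pt U hx)).trans (stalkFree r (pt U hx)).symm)
  exact ⟨basisOfSemilinear (σo U hx).symm (ρo U hx M) (ρo_smul' U hx M) b⟩

theorem finrank_stalk {M : X.Modules} {U : X.Opens} {r : ℕ} (a : M.restrict U.ι ≅ FlatMod.freeMod (↑U) r)
    (x : X) (hx : x ∈ U) :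
    Module.finrank (X.presheaf.stalk x) (M.presheaf.stalk x) = r := by
  obtain ⟨b⟩ := exists_basis_stalk' a x hx
  rw [Module.finrank_eq_card_basis b, Fintype.card_fin]

theorem finrank_stalk_pullback {M : X.Modules} {U : X.Opens} {r : ℕ}
    (a : M.restrict U.ι ≅ FlatMod.freeMod (↑U) r) {Y : Scheme.{u}} (g : Y ⟶ X) (y : Y) (hy : g y ∈ U) :
    Module.finrank (Y.presheaf.stalk y) (((Scheme.Modules.pullback g).obj M).presheaf.stalk y) = r := by
  let b : ((Scheme.Modules.pullback g).obj M).restrict (g ⁻¹ᵁ U).ι ≅ FlatMod.freeMod (↑(g ⁻¹ᵁ U)) r :=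
    (pullbackSquare (morphismRestrict_ι g U).symm).symm.app M ≪≫
      (Scheme.Modules.pullback (g ∣_ U)).mapIso a ≪≫ pullbackFreeMod (g ∣_ U) r
  exact finrank_stalk b y hy

theorem exists_rank_bound [CompactSpace X] {M : X.Modules} (hM : FlatMod.IsFinLocFree M) :
    ∃ N : ℕ, ∀ (Y : Scheme.{u}) (g : Y ⟶ X) (y : Y),
      Module.finrank (Y.presheaf.stalk y) (((Scheme.Modules.pullback g).obj M).presheaf.stalk y) ≤ N := by
  choose U n hU a using hM
  obtain ⟨t, ht⟩ := isCompact_univ.elim_finite_subcover (fun x => ((U x : X.Opens) : Set X))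
    (fun x => (U x).2) (fun x _ => Set.mem_iUnion.2 ⟨x, hU x⟩)
  refine ⟨t.sup n, fun Y g y => ?_⟩
  obtain ⟨x, hx⟩ := Set.mem_iUnion.1 (ht (Set.mem_univ (g y)))
  obtain ⟨hxt, hx⟩ := Set.mem_iUnion.1 hx
  obtain ⟨e⟩ := a x
  rw [finrank_stalk_pullback e g y hx]
  exact Finset.le_sup hxt

/-- A finite locally free module on a flat `S`-scheme is flat over `S`. -/
theorem isFlatOver_of_isFinLocFree {Y S : Scheme.{u}} (q : Y ⟶ S) [Flat q] {E : Y.Modules}
    (hE : FlatMod.IsFinLocFree E) : FlatMod.IsFlatOver q E := by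
  intro x
  letI a0 : Algebra (S.presheaf.stalk (q x)) (Y.presheaf.stalk x) := (q.stalkMap x).hom.toAlgebra
  letI a2 := FlatMod.moduleStalkOver q E x
  have h1 : Module.Flat (S.presheaf.stalk (q x)) (Y.presheaf.stalk x) := Flat.stalkMap q x
  obtain ⟨h2, -⟩ := Groth.Agent.Dcoh.StalkFF.FF_of_isFinLocFree hE x
  haveI : IsScalarTower (S.presheaf.stalk (q x)) (Y.presheaf.stalk x) (E.presheaf.stalk x) :=
    IsScalarTower.of_algebraMap_smul fun _ _ => rfl
  exact Module.Flat.trans (S.presheaf.stalk (q x)) (Y.presheaf.stalk x) (E.presheaf.stalk x)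

end K795.FibreRank
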