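import Groth.Agent.Ega2.ClosedLift
import Mathlib.AlgebraicGeometry.Birational.RationalMap
import Mathlib.AlgebraicGeometry.Morphisms.Proper

/-!
# Extension of generic sections of proper morphisms over one-dimensional regular schemes
-/

set_option autoImplicit false
universe u

open CategoryTheory CategoryTheory.Limits AlgebraicGeometry TopologicalSpace

namespace K795.ExtSection

variable {X Y : Scheme.{u}}

theorem specMap_fromSpecStalkOfMem (g : X.PartialMap Y) {x y : X} (h : x ⤳ y) (hy : y ∈ g.domain)
    (hx : x ∈ g.domain) :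
    Spec.map (X.presheaf.stalkSpecializes h) ≫ g.fromSpecStalkOfMem hy = g.fromSpecStalkOfMem hx := by
  unfold Scheme.PartialMap.fromSpecStalkOfMem
  rw [← Category.assoc]
  congr 1
  rw [← cancel_mono g.domain.ι, Category.assoc, Scheme.Opens.fromSpecStalkOfMem_ι,
    Scheme.Opens.fromSpecStalkOfMem_ι, Scheme.SpecMap_stalkSpecializes_fromSpecStalk]

theorem isDominant_fromSpecStalk (X : Scheme.{u}) [IrreducibleSpace X] :
    IsDominant (X.fromSpecStalk (genericPoint X)) := by
  constructor
  rw [DenseRange, Scheme.range_fromSpecStalk]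
  refine (dense_iff_closure_eq.mpr (genericPoint_spec X)).mono ?_
  rintro _ rfl
  exact specializes_rfl

/-- Sections of a proper morphism over the generic point of an integral separated scheme all of whose local rings
are valuation rings extend. -/
theorem exists_section [IsIntegral X] [X.IsSeparated] (hX : ∀ x : X, ValuationRing (X.presheaf.stalk x))
    (q : Y ⟶ X) [IsProper q] (g : Spec X.functionField ⟶ Y)
    (hg : g ≫ q = X.fromSpecStalk (genericPoint X)) :
    ∃ s : X ⟶ Y, s ≫ q = 𝟙 X ∧ X.fromSpecStalk (genericPoint X) ≫ s = g := by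
  have hYs : Y.IsSeparated := by
    rw [Scheme.isSeparated_iff, ← terminal.comp_from q]
    infer_instance
  let f : X ⤏ Y := Scheme.RationalMap.ofFunctionField (𝟙 X) q g (by rw [hg, Category.comp_id])
  have hfg : f.fromFunctionField = g :=
    Scheme.RationalMap.fromFunctionField_ofFunctionField (𝟙 X) q g (by rw [hg, Category.comp_id])
  have hdom : f.domain = ⊤ := by
    refine eq_top_iff.2 fun x _ => Scheme.RationalMap.mem_domain.2 ?_
    have := hX x
    obtain ⟨φ, h1, h2⟩ := Groth.Agent.Ega2.ClosedLift.exists_lift_of_isClosedMap q q.isClosedMap x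
      X.functionField g (by
        rw [hg]
        exact (Scheme.SpecMap_stalkSpecializes_fromSpecStalk (genericPoint_specializes x)).symm)
    have h3 : φ ≫ q = X.fromSpecStalk x ≫ 𝟙 X := by rw [h1, Category.comp_id]
    refine ⟨Scheme.PartialMap.ofFromSpecStalk (𝟙 X) q φ h3,
      Scheme.PartialMap.mem_domain_ofFromSpecStalk (𝟙 X) q φ h3, ?_⟩
    apply Scheme.RationalMap.eq_of_fromFunctionField_eq
    rw [hfg, ← h2, Scheme.RationalMap.fromFunctionField_toRationalMap]
    rw [Scheme.PartialMap.fromFunctionField, ← specMap_fromSpecStalkOfMem _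
      (genericPoint_specializes x) (Scheme.PartialMap.mem_domain_ofFromSpecStalk (𝟙 X) q φ h3),
      Scheme.PartialMap.fromSpecStalkOfMem_ofFromSpecStalk]
    rfl
  let P := f.toPartialMap
  have hP : P.toRationalMap = f := f.toRationalMap_toPartialMap
  have hPd : P.domain = ⊤ := hdom
  let s : X ⟶ Y := (Scheme.topIso X).inv ≫ (X.isoOfEq hPd).inv ≫ P.hom
  have hPs : P.hom = P.domain.ι ≫ s := by
    dsimp only [s]
    rw [← Category.assoc, ← Category.assoc]
    rw [show (P.domain.ι ≫ (Scheme.topIso X).inv) ≫ (X.isoOfEq hPd).inv = 𝟙 _ from ?_, Category.id_comp]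
    rw [← cancel_mono P.domain.ι]
    simp
  have hs : X.fromSpecStalk (genericPoint X) ≫ s = g := by
    have h1 : P.fromFunctionField = g := by
      rw [← hfg, ← hP, Scheme.RationalMap.fromFunctionField_toRationalMap]
    rw [← h1, Scheme.PartialMap.fromFunctionField, Scheme.PartialMap.fromSpecStalkOfMem]
    conv_rhs => rw [hPs]
    rw [Scheme.Opens.fromSpecStalkOfMem_ι_assoc]
  refine ⟨s, ?_, hs⟩
  have hd : IsDominant (X.fromSpecStalk (genericPoint X)) := isDominant_fromSpecStalk X
  refine AlgebraicGeometry.ext_of_isDominant (X.fromSpecStalk (genericPoint X)) ?_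
  rw [← Category.assoc, hs, hg, Category.comp_id]

end K795.ExtSection
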