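import Groth.Agent.CanPar.K795.AdMat
import Groth.Agent.Sga3B.RankOneAux

/-!
# The adjoint matrices of the elements of the Borel subgroup; infinitesimal points with a limit

* `det_adM_bor`: `det (adM q)_{II} = ∏_{j ∈ I} w_j(t)` for `q = u · i t`;
* `adM_eq_zero`: `(adM q)_{ij} = 0` if `x(w_i) < x(w_j)`, `x` a coweight `≥ 0` on the positive roots;
* `lim_iff`: an infinitesimal point has a limit under `x` iff its coordinates at `j`, `x(w_j) < 0`, vanish.
-/

set_option autoImplicit false
set_option linter.unusedSectionVars false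
set_option linter.unusedVariables false
universe u

open Polynomial LaurentPolynomial

namespace Groth.Agent.CanPar.K795.AdMat

open Groth.Agent.Sga3B Groth.Agent.Sga3B.Cell
open Groth.Agent.Sga3B.Cell.Datum (lau lau_apply lau_injective pC pC_apply lau_comp_pC pev_comp_pC)
open Groth.Agent.Sga3B.Word Groth.Agent.RedSub.H660.Iwasawa
open K929.LieDict

variable {idx M : Type} [Fintype idx] [AddCommGroup M] [Module.Free ℤ M]
    [Module.Finite ℤ M] {P : RootPairing idx ℤ M (Module.Dual ℤ M)} {b : P.Base}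
    {k A : Type u} [Field k] [CommRing A] [Algebra k A] [PtGrp k A] (E : PinCell P b k A)
    {B C : Type u} [CommRing B] [Algebra k B] [CommRing C] [Algebra k C]

section laurent
variable {R : Type u} [CommRing R]

lemma coeff_toLaurent_of_neg (f : R[X]) {n : ℤ} (hn : n < 0) : (Polynomial.toLaurent f).coeff n = 0 := by
  rw [LaurentPolynomial.coeff_toLaurent]
  apply Finsupp.mapDomain_of_notMem_range
  rintro ⟨m, hm⟩
  have : (m : ℤ) = n := hm
  omega

/-- a monomial with negative exponent which is a polynomial vanishes -/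
lemma eq_zero_of_toLaurent {f : R[X]} {r : R} {n : ℤ} (hn : n < 0)
    (h : Polynomial.toLaurent f = LaurentPolynomial.C r * T n) : r = 0 := by
  have h2 : (LaurentPolynomial.C r * T n : R[T;T⁻¹]).coeff n = r := by
    rw [← LaurentPolynomial.single_eq_C_mul_T]
    exact Finsupp.single_eq_same
  rw [← h2, ← h]
  exact coeff_toLaurent_of_neg f hn

end laurent

section curve

/-- the curve `s ↦ x(s) q x(s)⁻¹` extends over `0` for `q = cell y t` with `y a = 0` if `x(a) < 0` -/
lemma exists_curve (x : M →+ ℤ) {y : idx → B} (hy : ∀ a, x (P.root a) < 0 → y a = 0) (t : TPt M B) :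
    ∃ p : Pt k A B[X], Pt.map (lau k B) p = E.i _ (tht x B) * Pt.map (lC k B) (E.cell y t) * (E.i _ (tht x B))⁻¹ ∧
      ((∀ a, x (P.root a) ≤ 0 → y a = 0) → Pt.map (pev k B 0) p = E.i B t) :=
  ⟨E.toDatum.cell (allList b) (fun a => Polynomial.C (y a) * X ^ (x (P.root a)).toNat) (TPt.map (pC k B) t),
    Datum.lau_cell (D := E.toDatum) (L := allList b) (k := fun a => x (P.root a)) (θ := tht x B)
      (fun _ => rfl) hy t,
    fun h => Datum.eval0_cell (D := E.toDatum) (allList b) (k := fun a => x (P.root a)) h t⟩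

variable {E} [DecidableEq (J idx M)] {a : J idx M → A} (ha : DualSys E a)

include ha in
/-- entries of the adjoint matrix of the curve -/
lemma lau_adM {x : M →+ ℤ} {q : Pt k A B} {p : Pt k A B[X]}
    (hp : Pt.map (lau k B) p = E.i _ (tht x B) * Pt.map (lC k B) q * (E.i _ (tht x B))⁻¹) :
    (adM E a p).map (lau k B) = Matrix.diagonal (fun j => (T (x (wt P j)) : B[T;T⁻¹])) *
      (adM E a q).map (lC k B) * Matrix.diagonal (fun j => (T (- x (wt P j)) : B[T;T⁻¹])) := by
  rw [← adM_map, hp, adM_mul ha, adM_mul ha, adM_i ha, adM_map]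
  congr 1
  rw [← map_inv, adM_i ha]
  congr 1
  funext j
  change TPt.ch (wt P j) ((tht x B)⁻¹) = _
  have h1 : TPt.ch (wt P j) (tht x B) * TPt.ch (wt P j) ((tht x B)⁻¹) = 1 := ch_mul_ch_inv _ _
  rw [ch_tht] at h1
  calc TPt.ch (wt P j) ((tht x B)⁻¹) = (T (- x (wt P j)) * T (x (wt P j))) * TPt.ch (wt P j) ((tht x B)⁻¹) := by
        rw [← T_add, neg_add_cancel, T_zero, one_mul]
    _ = T (- x (wt P j)) := by rw [mul_assoc, h1, mul_one]

include ha in
lemma lau_adM_apply {x : M →+ ℤ} {q : Pt k A B} {p : Pt k A B[X]}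
    (hp : Pt.map (lau k B) p = E.i _ (tht x B) * Pt.map (lC k B) q * (E.i _ (tht x B))⁻¹) (i j : J idx M) :
    Polynomial.toLaurent (adM E a p i j) = LaurentPolynomial.C (adM E a q i j) * T (x (wt P i) - x (wt P j)) := by
  have h := congrFun (congrFun (lau_adM ha hp) i) j
  rw [Matrix.map_apply, lau_apply, Matrix.mul_assoc, Matrix.diagonal_mul, Matrix.mul_diagonal, Matrix.map_apply,
    lC_apply] at h
  rw [h, sub_eq_add_neg, T_add]
  ring

include ha in
/-- **stability** of the coordinate subspaces -/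
theorem adM_eq_zero {x : M →+ ℤ} {q : Pt k A B} {p : Pt k A B[X]}
    (hp : Pt.map (lau k B) p = E.i _ (tht x B) * Pt.map (lC k B) q * (E.i _ (tht x B))⁻¹) {i j : J idx M}
    (hij : x (wt P i) < x (wt P j)) : adM E a q i j = 0 := by
  exact eq_zero_of_toLaurent (by omega) (lau_adM_apply ha hp i j)

include ha in
/-- principal minors along a curve -/
theorem det_adM_curve {x : M →+ ℤ} {q : Pt k A B} {p : Pt k A B[X]}
    (hp : Pt.map (lau k B) p = E.i _ (tht x B) * Pt.map (lC k B) q * (E.i _ (tht x B))⁻¹) {t : TPt M B}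
    (hp0 : Pt.map (pev k B 0) p = E.i B t) {n : Type} [Fintype n] [DecidableEq n] (f : n → J idx M)
    (hf : Function.Injective f) :
    ((adM E a q).submatrix f f).det = ∏ j, TPt.ch (wt P (f j)) t := by
  have h1 : ((adM E a p).submatrix f f).det = Polynomial.C ((adM E a q).submatrix f f).det := by
    apply lau_injective (R := k)
    have e1 : (lau k B) ((adM E a p).submatrix f f).det = (((adM E a p).submatrix f f).map (lau k B)).det :=
      (lau k B).map_det _
    have e2 : (lau k B) (Polynomial.C ((adM E a q).submatrix f f).det) =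
        (((adM E a q).submatrix f f).map (lC k B)).det := by
      rw [← pC_apply (R := k), ← AlgHom.comp_apply, lau_comp_pC]
      exact (lC k B).map_det _
    have e3 : ((adM E a p).submatrix f f).map (lau k B) =
        Matrix.diagonal (fun j => (T (x (wt P (f j))) : B[T;T⁻¹])) * (((adM E a q).submatrix f f).map (lC k B)) *
        Matrix.diagonal (fun j => (T (- x (wt P (f j))) : B[T;T⁻¹])) := by
      ext i j
      rw [Matrix.mul_assoc, Matrix.diagonal_mul, Matrix.mul_diagonal, Matrix.map_apply, Matrix.map_apply,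
        Matrix.submatrix_apply, Matrix.submatrix_apply, lau_apply, lau_adM_apply ha hp, lC_apply, sub_eq_add_neg,
        T_add]
      ring_nf
    rw [e1, e2, e3, Matrix.det_mul, Matrix.det_mul, Matrix.det_diagonal, Matrix.det_diagonal]
    have e4 : (∏ j, (T (x (wt P (f j))) : B[T;T⁻¹])) * ∏ j, (T (- x (wt P (f j))) : B[T;T⁻¹]) = 1 := by
      rw [← Finset.prod_mul_distrib]
      apply Finset.prod_eq_one
      intro j _
      rw [← T_add, add_neg_cancel, T_zero]
    linear_combination (((adM E a q).submatrix f f).map (lC k B)).det * e4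
  have h2 := congrArg (pev k B 0) h1
  have e5 : (pev k B 0) ((adM E a p).submatrix f f).det = (((adM E a p).submatrix f f).map (pev k B 0)).det :=
    (pev k B 0).map_det _
  rw [e5, pev_apply, Polynomial.eval_C] at h2
  rw [← h2]
  have e6 : ((adM E a p).submatrix f f).map (pev k B 0) = ((adM E a p).map (pev k B 0)).submatrix f f := rfl
  rw [e6, ← adM_map, hp0, adM_i ha, Matrix.submatrix_diagonal _ f hf, Matrix.det_diagonal]
  rfl

include ha in
/-- **principal minors** of the adjoint matrices of the elements of the Borel subgroup -/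
theorem det_adM_bor (y : idx → B) (t : TPt M B) {n : Type} [Fintype n] [DecidableEq n] (f : n → J idx M)
    (hf : Function.Injective f) :
    ((adM E a (posP E y * E.i B t)).submatrix f f).det = ∏ j, TPt.ch (wt P (f j)) t := by
  classical
  obtain ⟨l, hl⟩ := exists_dom b
  set y' : idx → B := fun a => if b.IsPos a then y a else 0 with hy'
  have h1 : posP E y * E.i B t = E.cell y' t := by
    rw [cell_eq_mul]
    have h2 : negP E y' = 1 := prod_eq_one_of E (fun a ha => by
      rw [hy']
      simp only [if_neg ((mem_negList b).mp ha)])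
    rw [h2, one_mul]
    congr 1
    exact posP_congr E (fun a ha => by simp [hy', ha])
  have h0 : ∀ a, l (P.root a) ≤ 0 → y' a = 0 := by
    intro a ha
    have : ¬ b.IsPos a := fun h => absurd ((hl a).1 h) (not_lt.2 ha)
    simp [hy', this]
  obtain ⟨p, hp, hp0⟩ := exists_curve E l (fun a ha => h0 a ha.le) t
  rw [h1]
  exact det_adM_curve ha hp (hp0 h0) f hf

include ha in
/-- **stability** for the elements of the Borel subgroup -/
theorem adM_bor_eq_zero {x : M →+ ℤ} (hx : ∀ a, b.IsPos a → 0 ≤ x (P.root a)) (y : idx → B) (t : TPt M B)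
    {i j : J idx M} (hij : x (wt P i) < x (wt P j)) : adM E a (posP E y * E.i B t) i j = 0 := by
  classical
  set y' : idx → B := fun a => if b.IsPos a then y a else 0 with hy'
  have h1 : posP E y * E.i B t = E.cell y' t := by
    rw [cell_eq_mul]
    have h2 : negP E y' = 1 := prod_eq_one_of E (fun a ha => by
      rw [hy']
      simp only [if_neg ((mem_negList b).mp ha)])
    rw [h2, one_mul]
    congr 1
    exact posP_congr E (fun a ha => by simp [hy', ha])
  have h0 : ∀ a, x (P.root a) < 0 → y' a = 0 := by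
    intro a ha
    have : ¬ b.IsPos a := fun h => absurd (hx a h) (not_le.2 ha)
    simp [hy', this]
  obtain ⟨p, hp, -⟩ := exists_curve E x h0 t
  rw [h1]
  exact adM_eq_zero ha hp hij

end curve

section lim

/-- `x(s) g x(s)⁻¹` has a limit for `s → 0` -/
def LimP (x : M →+ ℤ) (g : Pt k A B) : Prop :=
  ∃ p : Pt k A B[X], Pt.map (lau k B) p = E.i _ (tht x B) * Pt.map (lC k B) g * (E.i _ (tht x B))⁻¹

/-- `B[ε][X] → B[X][ε]` -/
noncomputable def polD (k B : Type u) [CommRing k] [CommRing B] [Algebra k B] :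
    (TrivSqZeroExt B B)[X] →ₐ[k] TrivSqZeroExt B[X] B[X] where
  __ := Polynomial.eval₂RingHom (dmap (pC k B) : TrivSqZeroExt B B →+* TrivSqZeroExt B[X] B[X])
    (TrivSqZeroExt.inl X)
  commutes' r := by
    change Polynomial.eval₂ _ _ (Polynomial.C (algebraMap k (TrivSqZeroExt B B) r)) = _
    rw [Polynomial.eval₂_C]
    exact (dmap (pC k B)).commutes r

lemma polD_C (z : TrivSqZeroExt B B) : polD k B (Polynomial.C z) = dmap (pC k B) z :=
  Polynomial.eval₂_C _ _

lemma polD_X : polD k B X = TrivSqZeroExt.inl X := Polynomial.eval₂_X _ _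

/-- the unit `T` in `B[T;T⁻¹][ε]` -/
noncomputable def uTD (B : Type u) [CommRing B] : (TrivSqZeroExt B[T;T⁻¹] B[T;T⁻¹])ˣ :=
  Units.map (TrivSqZeroExt.inlHom B[T;T⁻¹] B[T;T⁻¹] : B[T;T⁻¹] →* _) (uT B 1)

lemma uTD_zpow (n : ℤ) : (((uTD B) ^ n : (TrivSqZeroExt B[T;T⁻¹] B[T;T⁻¹])ˣ) : TrivSqZeroExt B[T;T⁻¹] B[T;T⁻¹]) =
    TrivSqZeroExt.inl (T n) := by
  rw [uTD, ← map_zpow, Units.coe_map, uT_zpow, one_mul]
  rfl

/-- `B[ε][T;T⁻¹] → B[T;T⁻¹][ε]` -/
noncomputable def lauD (k B : Type u) [CommRing k] [CommRing B] [Algebra k B] :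
    (TrivSqZeroExt B B)[T;T⁻¹] →ₐ[k] TrivSqZeroExt B[T;T⁻¹] B[T;T⁻¹] :=
  lev k (dmap (lC k B)) (uTD B)

lemma lauD_comp_lau : (lauD k B).comp (lau k (TrivSqZeroExt B B)) = (dmap (lau k B)).comp (polD k B) := by
  have h1 : ((lauD k B).comp (lau k (TrivSqZeroExt B B)) :
      (TrivSqZeroExt B B)[X] →+* TrivSqZeroExt B[T;T⁻¹] B[T;T⁻¹]) =
      (((dmap (lau k B)).comp (polD k B) : (TrivSqZeroExt B B)[X] →ₐ[k] TrivSqZeroExt B[T;T⁻¹] B[T;T⁻¹]) :
        (TrivSqZeroExt B B)[X] →+* TrivSqZeroExt B[T;T⁻¹] B[T;T⁻¹]) := by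
    apply Polynomial.ringHom_ext
    · intro z
      change lauD k B (lau k _ (Polynomial.C z)) = dmap (lau k B) (polD k B (Polynomial.C z))
      rw [polD_C, lau_apply, Polynomial.toLaurent_C, lauD, lev_C]
      apply TrivSqZeroExt.ext
      · simp [lC_apply]
      · simp [lC_apply]
    · change lauD k B (lau k _ X) = dmap (lau k B) (polD k B X)
      rw [polD_X, lau_apply, Polynomial.toLaurent_X, lauD, lev_T, uTD_zpow]
      apply TrivSqZeroExt.ext
      · simp
      · simp
  exact AlgHom.ext fun z => congrArg (fun f : (TrivSqZeroExt B B)[X] →+* TrivSqZeroExt B[T;T⁻¹] B[T;T⁻¹] => f z) h1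

lemma lauD_comp_lC : (lauD k B).comp (lC k (TrivSqZeroExt B B)) = dmap (lC k B) := lev_comp_lC k _ _

lemma map_lauD_tht (x : M →+ ℤ) : TPt.map (lauD k B) (tht x (TrivSqZeroExt B B)) =
    TPt.map (tinl k B[T;T⁻¹]) (tht x B) := by
  apply TPt.ext_ch
  intro m
  rw [TPt.ch_map, TPt.ch_map, ch_tht, ch_tht, lauD, lev_T, uTD_zpow]
  rfl

variable {E} [DecidableEq (J idx M)] {a : J idx M → A} (ha : DualSys E a)

include ha in
/-- **an infinitesimal point has a limit iff its coordinates of negative weight vanish** -/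
theorem lim_iff (x : M →+ ℤ) {v : Pt k A (TrivSqZeroExt B B)} (hv : Pt.map (tfst k B) v = 1) :
    LimP E x v ↔ ∀ j, x (wt P j) < 0 → co a v j = 0 := by
  constructor
  · rintro ⟨p, hp⟩ j hj
    have h1 := congrArg (Pt.map (lauD k B)) hp
    rw [Pt.map_map, lauD_comp_lau, ← Pt.map_map, Pt.map_mul, Pt.map_mul, Pt.map_inv, E.i_nat, map_lauD_tht,
      ← E.i_nat, Pt.map_map (lC k (TrivSqZeroExt B B)) (lauD k B) v, lauD_comp_lC] at h1
    have h2 : co a (Pt.map (dmap (lau k B)) (Pt.map (polD k B) p)) j =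
        co a (cj (E.i _ (tht x B)) (Pt.map (dmap (lC k B)) v)) j := congrFun (congrArg (co a) h1) j
    rw [co_map, co_cj ha _ (tfst_dmap hv _), adM_i ha, Matrix.mulVec_diagonal, co_map, ch_tht] at h2
    change Polynomial.toLaurent _ = T (x (wt P j)) * (lC k B) (co a v j) at h2
    rw [lC_apply, mul_comm] at h2
    exact eq_zero_of_toLaurent hj h2
  · intro h
    obtain ⟨c, rfl⟩ := exists_mkL E v hv
    rw [co_mkL ha] at h
    obtain ⟨p, hp, -⟩ := exists_curve (B := TrivSqZeroExt B B) E x
      (y := fun a => TrivSqZeroExt.inr (c (Sum.inl a))) (fun a ha' => by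
        rw [h (Sum.inl a) ha']
        exact TrivSqZeroExt.inr_zero _) (tt (tauOf fun f => c (Sum.inr f)))
    exact ⟨p, hp⟩

end lim

end Groth.Agent.CanPar.K795.AdMat
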