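import Groth.Agent.CanPar.K795.Iface
import Groth.Agent.CanPar.K795.AdBor
import Groth.Agent.Sga3B.Par.CanDef
import Mathlib.FieldTheory.IsAlgClosed.AlgebraicClosure

/-!
# Interfaces of the core of Behrend's theory, second layer

* `Core`: the central estimate of the degree of the parabolic subgroups attached to the cocharacters of a generic
  splitting.  `CoreSplit`, `CoreSplitZero` are to be deduced from it (assembly).
* `Num`: the numerical step (lattices over valuation rings, degrees).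
* `bcPt`, `tr`: points of base changes with free structure morphisms; `InnerPt`: `IsoInner` on points.
* `SplitModel`: a pinned model over `k` of a split reductive group over a field `K`.
-/

set_option autoImplicit false
universe u

open CategoryTheory CategoryTheory.Limits MonoidalCategory CartesianMonoidalCategory MonObj GrpObj AlgebraicGeometry

namespace Groth.Agent.CanPar.K795.Iface

open Groth.Agent.Sga3B Groth.Agent.Sga3B.Cell

/-- **Central estimate** -/
def Core : Prop :=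
  ∀ (k : Type u) [Field k] (Z : Scheme.{u}) [Z.Over (Spec (CommRingCat.of k))] [IsIntegral Z]
    [IsProper (Z ↘ Spec (CommRingCat.of k))] (_ : topologicalKrullDim Z = 1)
    (_ : ∀ z : Z, ValuationRing (Z.presheaf.stalk z)) (G : Over Z) [GrpObj G] (_ : Red.IsReductive G)
    (D : Red.SplitRed (Red.bc (gen Z) G)) (b : D.P.Base),
    ∃ d : D.M →+ ℝ, ∀ (x : D.M →+ ℤ) (P : Over Z) [GrpObj P] (i : P ⟶ G) (_ : IsMonHom i)
      (_ : IsClosedImmersion i.left) (_ : Smooth P.hom)
      (_ : Parab.IsDynP (Par.coch D x.toIntLinearMap) ((Over.pullback (gen Z)).map i)) (n : ℕ)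
      (_ : FlatMod.IsFinLocFreeOfRank n (LieS.omega P)),
      -(Curv2.deg k Z (LieS.omega P) n : ℝ) ≤ d (rootSum D.P x) ∧
      ((∀ a, b.IsPos a → 0 ≤ x (D.P.root a)) → -(Curv2.deg k Z (LieS.omega P) n : ℝ) = d (rootSum D.P x))

open scoped Classical in
/-- **Numerical step**.  `L` is an algebraic extension of the function field, `O z` a valuation ring of `L` dominating
the local ring of `z`, `q z` a matrix over `L` with principal minors `∏ χ z (w j)`.  A bundle `E` with a basis `β` of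
its generic stalk indexed by `I ⊆ J` is related to `q z` when `E_z^∨ ⊗ O z = {c ∈ L^I | q z c ∈ (O z)^J}`. -/
def Num : Prop :=
  ∀ (k : Type u) [Field k] (Z : Scheme.{u}) [Z.Over (Spec (CommRingCat.of k))] [IsIntegral Z]
    [IsProper (Z ↘ Spec (CommRingCat.of k))] (_ : topologicalKrullDim Z = 1)
    (_ : ∀ z : Z, ValuationRing (Z.presheaf.stalk z))
    (L : Type u) [Field L] [Algebra (Z.presheaf.stalk (genericPoint Z)) L]
    [Algebra.IsAlgebraic (Z.presheaf.stalk (genericPoint Z)) L]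
    (O : Z → ValuationSubring L)
    (_ : ∀ z, z ≠ genericPoint Z → ∀ a : Z.presheaf.stalk (genericPoint Z),
      algebraMap (Z.presheaf.stalk (genericPoint Z)) L a ∈ O z ↔
        a ∈ Set.range (Z.presheaf.stalkSpecializes (genericPoint_specializes z)))
    (J M : Type) [Fintype J] [DecidableEq J] [AddCommGroup M] (w : J → M)
    (χ : Z → (Multiplicative M →* Lˣ)) (q : Z → Matrix J J L)
    (_ : ∀ (z : Z) (I : Type) [Fintype I] [DecidableEq I] (f : I → J), Function.Injective f →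
      ((q z).submatrix f f).det = ∏ j, (χ z (Multiplicative.ofAdd (w (f j))) : L))
    (_ : ∃ (E₀ : Z.Modules) (m : ℕ) (_ : FlatMod.IsFinLocFreeOfRank m E₀)
      (β₀ : Module.Basis J (Z.presheaf.stalk (genericPoint Z)) (E₀.presheaf.stalk (genericPoint Z))),
      ∀ z, z ≠ genericPoint Z → ∀ c : J → L,
        (∀ m : E₀.presheaf.stalk z, ∑ j, algebraMap (Z.presheaf.stalk (genericPoint Z)) L (β₀.repr (spe E₀ z m) j) *
          c j ∈ O z) ↔ ∀ i, ∑ j, q z i j * c j ∈ O z),
    ∃ d : M →+ ℝ, ∀ (I : Finset J) (n : ℕ) (E : Z.Modules) (_ : FlatMod.IsFinLocFreeOfRank n E)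
      (β : Module.Basis I (Z.presheaf.stalk (genericPoint Z)) (E.presheaf.stalk (genericPoint Z)))
      (_ : ∀ z, z ≠ genericPoint Z → ∀ c : I → L,
        (∀ m : E.presheaf.stalk z, ∑ j, algebraMap (Z.presheaf.stalk (genericPoint Z)) L (β.repr (spe E z m) j) *
          c j ∈ O z) ↔ ∀ i : J, ∑ j : I, q z i j * c j ∈ O z),
      -(Curv2.deg k Z E n : ℝ) ≤ d (∑ j ∈ I, w j) ∧
      ((∀ z, ∀ i, i ∉ I → ∀ j ∈ I, q z i j = 0) → -(Curv2.deg k Z E n : ℝ) = d (∑ j ∈ I, w j))

section Tr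

variable {S X : Scheme.{u}} (c : X ⟶ S) (G : Over S) [GrpObj G]

/-- points of the base change, with free structure morphisms -/
noncomputable def bcPt {T : Scheme.{u}} (t : T ⟶ X) (s : T ⟶ S) (h : s = t ≫ c) :
    (Over.mk s ⟶ G) ≃* (Over.mk t ⟶ Red.bc c G) where
  toFun g := Over.homMk (pullback.lift g.left t ((Over.w g).trans h)) (pullback.lift_snd _ _ _)
  invFun g := Over.homMk (g.left ≫ pullback.fst G.hom c) (by
    rw [Category.assoc, pullback.condition, ← Category.assoc]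
    exact (congrArg (fun r => r ≫ c) (Over.w g)).trans h.symm)
  left_inv g := by
    ext1
    exact pullback.lift_fst _ _ _
  right_inv g := by
    ext1
    refine pullback.hom_ext ?_ ?_
    · exact pullback.lift_fst _ _ _
    · exact (pullback.lift_snd _ _ _).trans (Over.w g).symm
  map_mul' g g' := by
    subst h
    have h1 : ∀ g : Over.mk (t ≫ c) ⟶ G, (Over.homMk (pullback.lift g.left t (Over.w g)) (pullback.lift_snd _ _ _) :
        Over.mk t ⟶ Red.bc c G) = DSPts.bcEquiv c (Over.mk t) G g := by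
      intro g
      apply (DSPts.bcEquiv c (Over.mk t) G).symm.injective
      rw [MulEquiv.symm_apply_apply]
      ext1
      rw [DSPts.bcEquiv_symm_left]
      exact pullback.lift_fst _ _ _
    refine (h1 (g * g')).trans ((map_mul _ _ _).trans ?_)
    exact congrArg₂ _ (h1 g).symm (h1 g').symm

lemma bcPt_fst {T : Scheme.{u}} (t : T ⟶ X) (s : T ⟶ S) (h : s = t ≫ c) (g : Over.mk s ⟶ G) :
    (bcPt c G t s h g).left ≫ pullback.fst G.hom c = g.left := pullback.lift_fst _ _ _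

lemma bcPt_symm_left {T : Scheme.{u}} (t : T ⟶ X) (s : T ⟶ S) (h : s = t ≫ c) (g : Over.mk t ⟶ Red.bc c G) :
    ((bcPt c G t s h).symm g).left = g.left ≫ pullback.fst G.hom c := rfl

lemma bcPt_nat {T T' : Scheme.{u}} (t : T ⟶ X) (s : T ⟶ S) (h : s = t ≫ c) (φ : T' ⟶ T) (t' : T' ⟶ X) (s' : T' ⟶ S)
    (ht : φ ≫ t = t') (hs : φ ≫ s = s') (h' : s' = t' ≫ c) (g : Over.mk s ⟶ G) :
    bcPt c G t' s' h' ((Over.homMk φ hs : Over.mk s' ⟶ Over.mk s) ≫ g) =
      (Over.homMk φ ht : Over.mk t' ⟶ Over.mk t) ≫ bcPt c G t s h g := by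
  ext1
  refine pullback.hom_ext ?_ ?_
  · refine (pullback.lift_fst _ _ _).trans ?_
    change φ ≫ g.left = (φ ≫ pullback.lift _ _ _) ≫ pullback.fst _ _
    rw [Category.assoc, pullback.lift_fst]
  · refine (pullback.lift_snd _ _ _).trans ?_
    change t' = (φ ≫ pullback.lift _ _ _) ≫ pullback.snd _ _
    rw [Category.assoc, pullback.lift_snd, ht]

end Tr

section Tr2

variable {S Z X : Scheme.{u}} {a : Z ⟶ S} {c : X ⟶ Z} {G₀ : Over S} [GrpObj G₀] {G : Over Z} [GrpObj G]

/-- transport of points through an isomorphism of base changes -/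
noncomputable def tr (e : Red.bc (c ≫ a) G₀ ≅ Red.bc c G) (he : IsMonHom e.hom) {T : Scheme.{u}} (t : T ⟶ X)
    (z : T ⟶ Z) (s : T ⟶ S) (hz : z = t ≫ c) (hs : s = z ≫ a) : (Over.mk s ⟶ G₀) ≃* (Over.mk z ⟶ G) :=
  (bcPt (c ≫ a) G₀ t s (by rw [hs, hz, Category.assoc])).trans
    (MulEquiv.trans
      { toFun := fun g => g ≫ e.hom
        invFun := fun g => g ≫ e.inv
        left_inv := fun g => by
          change (g ≫ e.hom) ≫ e.inv = g
          rw [Category.assoc, Iso.hom_inv_id, Category.comp_id]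
        right_inv := fun g => by
          change (g ≫ e.inv) ≫ e.hom = g
          rw [Category.assoc, Iso.inv_hom_id, Category.comp_id]
        map_mul' := fun g g' => MonObj.mul_comp g g' e.hom } (bcPt c G t z hz).symm)

lemma tr_apply (e : Red.bc (c ≫ a) G₀ ≅ Red.bc c G) (he : IsMonHom e.hom) {T : Scheme.{u}} (t : T ⟶ X)
    (z : T ⟶ Z) (s : T ⟶ S) (hz : z = t ≫ c) (hs : s = z ≫ a) (v : Over.mk s ⟶ G₀) :
    tr e he t z s hz hs v = (bcPt c G t z hz).symm (bcPt (c ≫ a) G₀ t s (by rw [hs, hz, Category.assoc]) v ≫ e.hom) :=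
  rfl

lemma tr_nat (e : Red.bc (c ≫ a) G₀ ≅ Red.bc c G) (he : IsMonHom e.hom) {T T' : Scheme.{u}} (t : T ⟶ X)
    (z : T ⟶ Z) (s : T ⟶ S) (hz : z = t ≫ c) (hs : s = z ≫ a) (φ : T' ⟶ T) (t' : T' ⟶ X) (z' : T' ⟶ Z) (s' : T' ⟶ S)
    (ht' : φ ≫ t = t') (hz' : φ ≫ z = z') (hs' : φ ≫ s = s') (h1 : z' = t' ≫ c) (h2 : s' = z' ≫ a)
    (v : Over.mk s ⟶ G₀) :
    tr e he t' z' s' h1 h2 ((Over.homMk φ hs' : Over.mk s' ⟶ Over.mk s) ≫ v) =
      (Over.homMk φ hz' : Over.mk z' ⟶ Over.mk z) ≫ tr e he t z s hz hs v := by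
  have h3 : s = t ≫ c ≫ a := by rw [hs, hz, Category.assoc]
  rw [tr_apply, tr_apply, bcPt_nat (c ≫ a) G₀ t s h3 φ t' s' ht' hs' _ v]
  ext1
  change ((φ ≫ (bcPt (c ≫ a) G₀ t s h3 v).left) ≫ e.hom.left) ≫ pullback.fst G.hom c =
    φ ≫ (((bcPt (c ≫ a) G₀ t s h3 v).left ≫ e.hom.left) ≫ pullback.fst G.hom c)
  simp only [Category.assoc]

end Tr2

/-- **`IsoInner` on points.** -/
def InnerPt : Prop :=
  ∀ (S Z : Scheme.{u}) [IsIntegral Z] (a : Z ⟶ S) (G₀ : Over S) [GrpObj G₀] (G : Over Z) [GrpObj G]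
    (_ : Red.IsReductive G₀) (_ : Red.IsReductive G) (f : Red.bc (gen Z ≫ a) G₀ ≅ Red.bc (gen Z) G)
    (hf : IsMonHom f.hom) (L : Type u) [Field L] [IsAlgClosed L] (O : ValuationSubring L)
    (o : Spec (CommRingCat.of O) ⟶ Z) (l : Spec (CommRingCat.of L) ⟶ Spec (Z.presheaf.stalk (genericPoint Z)))
    (_ : l ≫ gen Z = genO O ≫ o),
    ∃ (g : Red.bc (o ≫ a) G₀ ≅ Red.bc o G) (hg : IsMonHom g.hom) (h : Over.mk (l ≫ gen Z ≫ a) ⟶ G₀),
      ∀ (T : Scheme.{u}) (t : T ⟶ Spec (CommRingCat.of L)) (z : T ⟶ Z) (s : T ⟶ S) (hz : z = (t ≫ l) ≫ gen Z)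
        (hz' : z = (t ≫ genO O) ≫ o) (hs : s = z ≫ a) (hs' : t ≫ l ≫ gen Z ≫ a = s) (v : Over.mk s ⟶ G₀),
        tr f hf (t ≫ l) z s hz hs v = tr g hg (t ≫ genO O) z s hz' hs
          (((Over.homMk t hs' : Over.mk s ⟶ Over.mk (l ≫ gen Z ≫ a)) ≫ h) * v *
            ((Over.homMk t hs' : Over.mk s ⟶ Over.mk (l ≫ gen Z ≫ a)) ≫ h)⁻¹)

/-- **A pinned model over `k` of a split reductive group over `K`**. -/
structure SplitModel (k K : Type u) [Field k] [Field K] [Algebra k K] {H : Over (Spec (CommRingCat.of K))} [GrpObj H]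
    (D : Red.SplitRed H) (b : D.P.Base) where
  idx : Type
  [fintypeIdx : Fintype idx]
  M : Type
  [acgM : AddCommGroup M]
  [freeM : Module.Free ℤ M]
  [finiteM : Module.Finite ℤ M]
  P : RootPairing idx ℤ M (Module.Dual ℤ M)
  base : P.Base
  G₀ : Over (Spec (CommRingCat.of k))
  [grp₀ : GrpObj G₀]
  red₀ : Red.IsReductive G₀
  A : Type u
  [ringA : CommRing A]
  [algA : Algebra k A]
  [ptGrpA : PtGrp k A]
  E : PinCell P base k A
  /-- the points of `G₀` over `k`-algebras -/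
  pts : ∀ (B : Type u) [CommRing B] [Algebra k B],
    Pt k A B ≃* (Over.mk (Spec.map (CommRingCat.ofHom (algebraMap k B))) ⟶ G₀)
  pts_nat : ∀ {B C : Type u} [CommRing B] [Algebra k B] [CommRing C] [Algebra k C] (φ : B →ₐ[k] C)
    (hφ : Spec.map (CommRingCat.ofHom (φ : B →+* C)) ≫ Spec.map (CommRingCat.ofHom (algebraMap k B)) =
      Spec.map (CommRingCat.ofHom (algebraMap k C))) (g : Pt k A B),
    (Over.homMk (Spec.map (CommRingCat.ofHom (φ : B →+* C))) hφ :
      Over.mk (Spec.map (CommRingCat.ofHom (algebraMap k C))) ⟶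
        Over.mk (Spec.map (CommRingCat.ofHom (algebraMap k B)))) ≫ pts B g = pts C (Pt.map φ g)
  /-- the comparison with `H` -/
  f : Red.bc (Spec.map (CommRingCat.ofHom (algebraMap k K))) G₀ ≅ H
  isMonHom_f : IsMonHom f.hom
  e : M ≃+ D.M
  rootSum_e : ∀ x : D.M →+ ℤ, e (rootSum P (x.comp (e : M →+ D.M))) = rootSum D.P x
  pos_e : ∀ x : D.M →+ ℤ, (∀ a, b.IsPos a → 0 ≤ x (D.P.root a)) →
    ∀ a, base.IsPos a → 0 ≤ x (e (P.root a))
  lim : ∀ (x : D.M →+ ℤ) (B : Type u) [CommRing B] [Algebra k B] [Algebra K B] [IsScalarTower k K B]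
    (h : Spec.map (CommRingCat.ofHom (algebraMap k B)) = Spec.map (CommRingCat.ofHom (algebraMap K B)) ≫
      Spec.map (CommRingCat.ofHom (algebraMap k K))) (v : Pt k A B),
    Parab.LimEx (Par.coch D x.toIntLinearMap) (C := B) (c := Spec.map (CommRingCat.ofHom (algebraMap K B)))
      (bcPt (Spec.map (CommRingCat.ofHom (algebraMap k K))) G₀ (Spec.map (CommRingCat.ofHom (algebraMap K B)))
        (Spec.map (CommRingCat.ofHom (algebraMap k B))) h (pts B v) ≫ f.hom) ↔
      AdMat.LimP E (x.comp (e : M →+ D.M)) v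

attribute [instance] SplitModel.fintypeIdx SplitModel.acgM SplitModel.freeM SplitModel.finiteM SplitModel.grp₀
  SplitModel.ringA SplitModel.algA SplitModel.ptGrpA

/-- **Existence of models.** -/
def ModelEx : Prop :=
  ∀ (k K : Type u) [Field k] [Field K] [Algebra k K] (H : Over (Spec (CommRingCat.of K))) [GrpObj H]
    (D : Red.SplitRed H) (b : D.P.Base), Nonempty (SplitModel k K D b)

end Groth.Agent.CanPar.K795.Iface
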