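import Mathlib.RingTheory.Valuation.ValuationSubring
import Mathlib.RingTheory.Algebraic.Integral
import Mathlib.LinearAlgebra.Matrix.NonsingularInverse
import Mathlib.Data.Real.Basic

/-!
# Real valuations on algebraic extensions and lattices over valuation rings

* `exists_vbar`: a ℤ-valued valuation of `K` extends to a real valued one of an algebraic extension `L`,
  nonnegative on a given valuation subring `A` of `L`;
* `lin_le`, `lin_ge`: comparison of determinants of lattices over `A`.
-/

set_option autoImplicit false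

namespace Groth.Agent.CanPar.K795.VbLin

section vbar

variable {K L : Type*} [Field K] [Field L] [Algebra K L] [Algebra.IsAlgebraic K L]

/-- The value group of an algebraic extension is torsion over that of the base. -/
theorem exists_pow_eq (A : ValuationSubring L) (y : L) (hy : y ≠ 0) :
    ∃ (n : ℕ) (a : K), 0 < n ∧ a ≠ 0 ∧ A.valuation y ^ n = A.valuation (algebraMap K L a) := by
  classical
  obtain ⟨p, hp0, hp⟩ := Algebra.IsAlgebraic.isAlgebraic (R := K) y
  have hsum : ∑ i ∈ p.support, algebraMap K L (p.coeff i) * y ^ i = 0 := by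
    rw [Polynomial.aeval_def, Polynomial.eval₂_eq_sum, Polynomial.sum] at hp
    exact hp
  by_contra hcon
  push Not at hcon
  have hinj : ∀ i ∈ p.support, ∀ j ∈ p.support, i < j →
      A.valuation (algebraMap K L (p.coeff i) * y ^ i) ≠ A.valuation (algebraMap K L (p.coeff j) * y ^ j) := by
    intro i hi j hj hij h
    rw [Polynomial.mem_support_iff] at hi hj
    refine hcon (j - i) (p.coeff i / p.coeff j) (by omega) (div_ne_zero hi hj) ?_
    have hvj : A.valuation (algebraMap K L (p.coeff j)) ≠ 0 := by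
      rw [Valuation.ne_zero_iff]
      simpa using hj
    have hvy : A.valuation y ≠ 0 := by
      rw [Valuation.ne_zero_iff]
      exact hy
    rw [map_div₀, map_div₀, eq_div_iff hvj]
    rw [map_mul, map_mul, map_pow, map_pow] at h
    have h2 : A.valuation y ^ j = A.valuation y ^ i * A.valuation y ^ (j - i) := by
      rw [← pow_add]; congr 1; omega
    rw [h2] at h
    have h3 : A.valuation y ^ i ≠ 0 := pow_ne_zero _ hvy
    apply mul_right_cancel₀ h3
    rw [h]
    simp only [mul_comm, mul_left_comm]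
  obtain ⟨i₀, hi₀, hmax⟩ := p.support.exists_max_image
    (fun i => A.valuation (algebraMap K L (p.coeff i) * y ^ i)) (Polynomial.nonempty_support_iff.2 hp0)
  have h1 := Valuation.map_sum_eq_of_lt A.valuation (f := fun i => algebraMap K L (p.coeff i) * y ^ i) hi₀
    (fun i hi => by
      obtain ⟨hi1, hi2⟩ := Finset.mem_sdiff.1 hi
      rw [Finset.mem_singleton] at hi2
      refine lt_of_le_of_ne (hmax i hi1) ?_
      rcases lt_or_gt_of_ne hi2 with h | h
      · exact hinj i hi1 i₀ hi₀ h
      · exact (hinj i₀ hi₀ i hi1 h).symm)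
  rw [hsum, map_zero] at h1
  have h2 : algebraMap K L (p.coeff i₀) * y ^ i₀ = 0 := (Valuation.zero_iff _).1 h1.symm
  rcases mul_eq_zero.1 h2 with h3 | h3
  · rw [Polynomial.mem_support_iff] at hi₀
    exact hi₀ (by simpa using h3)
  · exact hy (eq_zero_of_pow_eq_zero h3)

/-- **real valuations** -/
theorem exists_vbar (A : ValuationSubring L) (v : Kˣ →* Multiplicative ℤ)
    (hv : ∀ a : Kˣ, algebraMap K L a ∈ A → 0 ≤ (v a).toAdd) :
    ∃ vb : Lˣ →* Multiplicative ℝ, (∀ y : Lˣ, (y : L) ∈ A → 0 ≤ (vb y).toAdd) ∧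
      ∀ a : Kˣ, (vb (Units.map (algebraMap K L : K →* L) a)).toAdd = ((v a).toAdd : ℝ) := by
  have hv1 : ∀ a : Kˣ, A.valuation (algebraMap K L a) ≤ 1 → 0 ≤ (v a).toAdd := fun a ha =>
    hv a ((A.valuation_le_one_iff _).1 ha)
  have hv0 : ∀ a b : Kˣ, A.valuation (algebraMap K L a) = A.valuation (algebraMap K L b) → v a = v b := by
    intro a b h
    have hb : A.valuation (algebraMap K L b) ≠ 0 := by
      rw [Valuation.ne_zero_iff]
      simp
    have ha : A.valuation (algebraMap K L a) ≠ 0 := h ▸ hb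
    have h1 : 0 ≤ (v (a * b⁻¹)).toAdd := hv1 _ (by
      rw [Units.val_mul, map_mul, map_mul, Units.val_inv_eq_inv_val, map_inv₀, map_inv₀, h, mul_inv_cancel₀ hb])
    have h2 : 0 ≤ (v (b * a⁻¹)).toAdd := hv1 _ (by
      rw [Units.val_mul, map_mul, map_mul, Units.val_inv_eq_inv_val, map_inv₀, map_inv₀, h, mul_inv_cancel₀ hb])
    rw [map_mul, map_inv, toAdd_mul, toAdd_inv] at h1 h2
    apply Multiplicative.toAdd.injective
    omega
  have hex : ∀ y : Lˣ, ∃ (n : ℕ) (a : Kˣ), 0 < n ∧ A.valuation (y : L) ^ n = A.valuation (algebraMap K L a) := by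
    intro y
    obtain ⟨n, a, hn, ha, h⟩ := exists_pow_eq (K := K) A (y : L) y.ne_zero
    exact ⟨n, Units.mk0 a ha, hn, h⟩
  choose n a hn ha using hex
  have hwd : ∀ (y : Lˣ) (m : ℕ) (b : Kˣ), 0 < m → A.valuation (y : L) ^ m = A.valuation (algebraMap K L b) →
      ((v (a y)).toAdd : ℝ) / n y = ((v b).toAdd : ℝ) / m := by
    intro y m b hm hb
    have h1 : v (a y ^ m) = v (b ^ n y) := by
      apply hv0
      rw [Units.val_pow_eq_pow_val, Units.val_pow_eq_pow_val, map_pow, map_pow, map_pow, map_pow, ← ha, ← hb,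
        ← pow_mul, ← pow_mul, mul_comm]
    rw [map_pow, map_pow] at h1
    have h2 := congrArg Multiplicative.toAdd h1
    rw [toAdd_pow, toAdd_pow] at h2
    have hn' : (n y : ℝ) ≠ 0 := by have := hn y; positivity
    have hm' : (m : ℝ) ≠ 0 := by positivity
    rw [div_eq_div_iff hn' hm']
    have h3 : ((m • (v (a y)).toAdd : ℤ) : ℝ) = ((n y • (v b).toAdd : ℤ) : ℝ) := by rw [h2]
    push_cast [nsmul_eq_mul] at h3
    linarith
  refine ⟨{ toFun := fun y => Multiplicative.ofAdd (((v (a y)).toAdd : ℝ) / n y)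
            map_one' := ?_
            map_mul' := ?_ }, ?_, ?_⟩
  · rw [hwd 1 1 1 one_pos (by simp)]
    simp
  · intro y z
    rw [← ofAdd_add]
    congr 1
    rw [hwd (y * z) (n y * n z) (a y ^ n z * a z ^ n y) (Nat.mul_pos (hn y) (hn z)) (by
      rw [Units.val_mul, map_mul, mul_pow, pow_mul, ha, mul_comm (n y), pow_mul, ha, Units.val_mul,
        Units.val_pow_eq_pow_val, Units.val_pow_eq_pow_val, map_mul, map_mul, map_pow, map_pow, map_pow,
        map_pow])]
    have hny : (n y : ℝ) ≠ 0 := by have := hn y; positivity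
    have hnz : (n z : ℝ) ≠ 0 := by have := hn z; positivity
    rw [map_mul, map_pow, map_pow, toAdd_mul, toAdd_pow, toAdd_pow]
    push_cast [nsmul_eq_mul]
    field_simp
  · intro y hy
    change 0 ≤ ((v (a y)).toAdd : ℝ) / n y
    apply div_nonneg _ (Nat.cast_nonneg _)
    have h1 : 0 ≤ (v (a y)).toAdd := hv1 _ (by
      rw [← ha]
      exact pow_le_one₀ zero_le ((A.valuation_le_one_iff _).2 hy))
    exact_mod_cast h1
  · intro b
    change ((v (a _)).toAdd : ℝ) / n _ = _
    rw [hwd (Units.map (algebraMap K L : K →* L) b) 1 b one_pos (by simp)]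
    simp

end vbar

section lin

variable {L : Type*} [Field L] (A : ValuationSubring L) {n J : Type*} [Fintype n] [DecidableEq n]

theorem det_mem (N : Matrix n n L) (hN : ∀ i j, N i j ∈ A) : N.det ∈ A := by
  have h : N = (Matrix.of fun i j => (⟨N i j, hN i j⟩ : A)).map A.subtype := by
    ext i j
    rfl
  rw [h, ← RingHom.mapMatrix_apply, ← RingHom.map_det]
  exact (Matrix.det (Matrix.of fun i j => (⟨N i j, hN i j⟩ : A))).2

variable {A}

/-- comparison of a lattice with the coordinate lattice -/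
theorem lin_le {F : Matrix n n L} (hF : F.det ≠ 0) {Q : Matrix J J L} {f : n → J}
    (H : ∀ c : n → L, (∀ i, F.mulVec c i ∈ A) → ∀ j, (Q.submatrix id f).mulVec c j ∈ A) :
    (Q.submatrix f f).det * (F.det)⁻¹ ∈ A := by
  have hu : IsUnit F.det := isUnit_iff_ne_zero.2 hF
  have h1 : ((Q.submatrix f f) * F⁻¹).det ∈ A := by
    apply det_mem
    intro i j
    have h2 := H (fun l => F⁻¹ l j) (fun i => by
      have h3 : F.mulVec (fun l => F⁻¹ l j) i = (F * F⁻¹) i j := rfl
      rw [h3, Matrix.mul_nonsing_inv _ hu, Matrix.one_apply]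
      split_ifs
      · exact A.one_mem
      · exact A.zero_mem) (f i)
    exact h2
  rw [Matrix.det_mul, Matrix.det_nonsing_inv, Ring.inverse_eq_inv'] at h1
  exact h1

theorem lin_ge {F : Matrix n n L} {Q : Matrix J J L} {f : n → J} (hQ : (Q.submatrix f f).det ≠ 0)
    (H : ∀ c : n → L, (∀ j, (Q.submatrix id f).mulVec c j ∈ A) → ∀ i, F.mulVec c i ∈ A)
    (h0 : ∀ j, j ∉ Set.range f → ∀ i, Q j (f i) = 0) :
    F.det * ((Q.submatrix f f).det)⁻¹ ∈ A := by
  have hu : IsUnit (Q.submatrix f f).det := isUnit_iff_ne_zero.2 hQ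
  have h1 : (F * (Q.submatrix f f)⁻¹).det ∈ A := by
    apply det_mem
    intro i j
    have h2 := H (fun l => (Q.submatrix f f)⁻¹ l j) (fun j' => by
      by_cases hj' : j' ∈ Set.range f
      · obtain ⟨l, rfl⟩ := hj'
        have h3 : (Q.submatrix id f).mulVec (fun l => (Q.submatrix f f)⁻¹ l j) (f l) =
          ((Q.submatrix f f) * (Q.submatrix f f)⁻¹) l j := rfl
        rw [h3, Matrix.mul_nonsing_inv _ hu, Matrix.one_apply]
        split_ifs
        · exact A.one_mem
        · exact A.zero_mem
      · have h3 : (Q.submatrix id f).mulVec (fun l => (Q.submatrix f f)⁻¹ l j) j' = 0 := by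
          rw [Matrix.mulVec, dotProduct]
          apply Finset.sum_eq_zero
          intro l _
          rw [Matrix.submatrix_apply, id, h0 j' hj', zero_mul]
        rw [h3]
        exact A.zero_mem) i
    exact h2
  rw [Matrix.det_mul, Matrix.det_nonsing_inv, Ring.inverse_eq_inv'] at h1
  exact h1

end lin

end Groth.Agent.CanPar.K795.VbLin
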