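import Groth.Agent.VarietyA.DegRank
import Groth.Agent.CurvesB.CurveRR
import Groth.Agent.PerfC.PullRestrict

/-!
# Degrees of coherent modules on a proper curve

* `dg F = χ(F) - rk(F) χ(O_X)` for a coherent module on an integral proper scheme of dimension at most one;
* `dg_add` (additivity), `deg_eq_dg` (on locally free modules it is the degree), `dg_nonneg` (torsion modules);
* `neg_dg_le`: the degree of a quotient `E` of `F` is at least `-(h¹(F) + rk F |χ(O)|)`.
-/

set_option autoImplicit false
universe u

open CategoryTheory CategoryTheory.Limits AlgebraicGeometry TopologicalSpace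

namespace K795.CurveBound

open Groth.Agent.VarietyA.DegRank Groth.Agent.VarietyA.EulerLES Groth.Agent.CurvesB.CurveRR
  Groth.Agent.CycB.StalkExact

variable (k : Type u) [Field k] {X : Scheme.{u}} [X.Over (Spec (CommRingCat.of k))]

/-- A locally free module of finite rank on a locally Noetherian scheme is coherent. -/
theorem isCoh_of_rank [IsLocallyNoetherian X] {n : ℕ} {E : X.Modules}
    (hE : FlatMod.IsFinLocFreeOfRank n E) : Coh.IsCoh E :=
  Groth.Agent.VarietyA.EulerFinite.isCoh_of_iso (Groth.Agent.Ega2.Tens.runit E)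
    (Groth.Agent.VarietyA.LocFreeTens.isCoh_tensor hE (Groth.Agent.Fdesc.StructMod.isCoh_structureModule X))

/-- rank of a locally free module is its generic rank -/
theorem rk_eq [IsIntegral X] {n : ℕ} {E : X.Modules} (hE : FlatMod.IsFinLocFreeOfRank n E) : rk E = n := by
  obtain ⟨e⟩ := Groth.Agent.VarietyA.LocFreeTens.nonempty_stalk_equiv hE (Coh.structureModule X) (genericPoint X)
  have h1 := rk_iso (Groth.Agent.Ega2.Tens.runit E)
  rw [← h1, rk, e.finrank_eq]
  let e2 : (Fin n → (Coh.structureModule X).presheaf.stalk (genericPoint X)) ≃ₗ[X.presheaf.stalk (genericPoint X)]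
      (Fin n → X.presheaf.stalk (genericPoint X)) :=
    LinearEquiv.piCongrRight fun _ => (Groth.Agent.Fdesc.StructMod.stalkEquiv (genericPoint X)).symm
  rw [e2.finrank_eq, Module.finrank_fin_fun]

/-- The degree of a coherent module on an integral proper curve. -/
noncomputable def dg [IrreducibleSpace X] (F : X.Modules) : ℤ :=
  Curv2.euler k X F - rk F * Curv2.euler k X (Coh.structureModule X)

theorem deg_eq_dg [IsIntegral X] {n : ℕ} {E : X.Modules} (hE : FlatMod.IsFinLocFreeOfRank n E) :
    Curv2.deg k X E n = dg k E := by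
  rw [dg, rk_eq hE, Curv2.deg]

theorem dg_iso [IsIntegral X] {M N : X.Modules} (e : M ≅ N) : dg k M = dg k N := by
  rw [dg, dg, rk_iso e, euler_iso k e]

theorem dg_add [IsIntegral X] [IsProper (X ↘ (Spec (CommRingCat.of k)))] (S : ShortComplex X.Modules)
    (hS : S.ShortExact) (h₁ : Coh.IsCoh S.X₁) (h₂ : Coh.IsCoh S.X₂) (h₃ : Coh.IsCoh S.X₃) :
    dg k S.X₂ = dg k S.X₁ + dg k S.X₃ := by
  have : IsNoetherian X := isNoetherian_of_proper k X
  have e1 := Groth.Agent.S1524.result k X S hS h₁ h₂ h₃
  have e2 := rk_add S hS h₂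
  rw [dg, dg, dg, e1, e2]
  push_cast
  ring

theorem dg_structureModule [IsIntegral X] : dg k (Coh.structureModule X) = 0 := by
  rw [dg, rk_structureModule]
  push_cast
  ring

theorem finite_HH [IsProper (X ↘ (Spec (CommRingCat.of k)))] {F : X.Modules} (hF : Coh.IsCoh F) (n : ℕ) :
    Module.Finite k (Coh.HH X F n) := Groth.Agent.S0002.result k X F hF n

/-- `h¹` of a quotient -/
theorem finrank_h1_le [IsProper (X ↘ (Spec (CommRingCat.of k)))] (hd : topologicalKrullDim X ≤ 1)
    {F E : X.Modules} (hF : Coh.IsCoh F) (φ : F ⟶ E) [Epi φ] :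
    Module.finrank k (Coh.HH X E 1) ≤ Module.finrank k (Coh.HH X F 1) := by
  have : IsNoetherian X := isNoetherian_of_proper k X
  let S : ShortComplex X.Modules := ShortComplex.mk (kernel.ι φ) φ (kernel.condition φ)
  have hS : S.ShortExact :=
    { exact := ShortComplex.exact_of_f_is_kernel _ (kernelIsKernel φ) }
  have h2 := subsingleton_HH_of_two_le hd S.X₁ 2 le_rfl
  have hsurj : Function.Surjective (mapA k S.g 1) := by
    intro x
    exact (exactA₃ k S hS 1 2 rfl x).1 (Subsingleton.elim _ _)
  have : Module.Finite k (Coh.HH X F 1) := finite_HH k hF 1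
  exact LinearMap.finrank_le_finrank_of_surjective (f := mapA k S.g 1) hsurj

theorem rk_le [IsIntegral X] [IsLocallyNoetherian X] {F E : X.Modules} (hF : Coh.IsCoh F) (φ : F ⟶ E) [Epi φ] :
    rk E ≤ rk F := by
  have := Groth.Agent.Ega3B.Devissage.isNoetherian_stalk hF (genericPoint X)
  exact LinearMap.finrank_le_finrank_of_surjective (f := stalkLin φ (genericPoint X))
    (stalkLin_surjective φ (genericPoint X))

/-- The degree of a quotient is bounded below. -/
theorem neg_dg_le [IsIntegral X] [IsProper (X ↘ (Spec (CommRingCat.of k)))] (hd : topologicalKrullDim X ≤ 1)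
    {F E : X.Modules} (hF : Coh.IsCoh F) (φ : F ⟶ E) [Epi φ] :
    -dg k E ≤ (Module.finrank k (Coh.HH X F 1) : ℤ) + rk F * |Curv2.euler k X (Coh.structureModule X)| := by
  have : IsNoetherian X := isNoetherian_of_proper k X
  have h1 := finrank_h1_le k hd hF φ
  have h2 := rk_le hF φ
  rw [dg, euler_eq k X hd]
  have h3 : (rk E : ℤ) * Curv2.euler k X (Coh.structureModule X) ≤
      rk F * |Curv2.euler k X (Coh.structureModule X)| := by
    calc (rk E : ℤ) * Curv2.euler k X (Coh.structureModule X) ≤
        rk E * |Curv2.euler k X (Coh.structureModule X)| :=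
          mul_le_mul_of_nonneg_left (le_abs_self _) (by positivity)
      _ ≤ _ := mul_le_mul_of_nonneg_right (by exact_mod_cast h2) (abs_nonneg _)
  have h4 : (0 : ℤ) ≤ (Module.finrank k (Coh.HH X E 0) : ℤ) := by positivity
  have h5 : (Module.finrank k (Coh.HH X E 1) : ℤ) ≤ Module.finrank k (Coh.HH X F 1) := by exact_mod_cast h1
  linarith

end K795.CurveBound
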