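import Groth.Prelude.Def_LieS
import Groth.Prelude.Def_Red2
import Groth.Prelude.Def_Curv2
import Groth.Prelude.Def_FlatMod2
import Mathlib.RingTheory.Valuation.ValuationSubring
import Mathlib.LinearAlgebra.RootSystem.Base
import Mathlib.LinearAlgebra.Matrix.Basis

/-!
# Interfaces of the core of Behrend's theory (canonical parabolic subgroups on curves)

Only definitions of propositions, so that several seats can work in parallel.

* `CoreSplit`: the largest parabolic subgroup of maximal degree among those containing a given generic split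
  maximal torus.
* `CoreSplitZero`: a generically split reductive group has degree zero.
* `Conv`: the convex geometry (pure root systems).
* `DegLattice`, `StdFinset`: the degree of a locally free module through a basis of the generic stalk.
* `IsoInner`: two reductive groups over a valuation ring with algebraically closed fraction field.
-/

set_option autoImplicit false
universe u

open CategoryTheory CategoryTheory.Limits MonoidalCategory CartesianMonoidalCategory MonObj GrpObj AlgebraicGeometry

namespace Groth.Agent.CanPar.K795.Iface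

/-- the generic point `Spec K(Z) ⟶ Z` -/
noncomputable abbrev gen (Z : Scheme.{u}) [IrreducibleSpace Z] :
    Spec (Z.presheaf.stalk (genericPoint Z)) ⟶ Z := Z.fromSpecStalk (genericPoint Z)

/-- the generic subgroup `i : T ⟶ G_K` is contained in `q : Q ⟶ G` -/
def GenLe {Z : Scheme.{u}} [IrreducibleSpace Z] {G Q : Over Z}
    {T : Over (Spec (Z.presheaf.stalk (genericPoint Z)))} (i : T ⟶ (Over.pullback (gen Z)).obj G) (q : Q ⟶ G) : Prop :=
  ∃ t : T ⟶ (Over.pullback (gen Z)).obj Q, t ≫ (Over.pullback (gen Z)).map q = i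

/-- **Core, generically split case**: among the parabolic subgroups of `G` over the normal proper curve `Z` whose
generic fibre contains a given split maximal torus there is a largest one of maximal degree. -/
def CoreSplit : Prop :=
  ∀ (k : Type u) [Field k] (Z : Scheme.{u}) [Z.Over (Spec (CommRingCat.of k))] [IsIntegral Z]
    [IsProper (Z ↘ Spec (CommRingCat.of k))] (_ : topologicalKrullDim Z = 1)
    (_ : ∀ z : Z, ValuationRing (Z.presheaf.stalk z)) (G : Over Z) [GrpObj G] (_ : Red.IsReductive G)
    (T : Over (Spec (Z.presheaf.stalk (genericPoint Z)))) [GrpObj T] (i : T ⟶ Red.bc (gen Z) G)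
    (_ : Red.IsMaximalTorus i) (M : Type) [AddCommGroup M] [Module.Finite ℤ M] [Module.Free ℤ M]
    (_ : Red.IsSplitTorusWith M T),
    ∃ (P : Over Z) (_ : GrpObj P) (p : P ⟶ G) (n : ℕ), Red.IsParabolic p ∧
      FlatMod.IsFinLocFreeOfRank n (LieS.omega P) ∧ GenLe i p ∧
      ∀ (Q : Over Z) [GrpObj Q] (q : Q ⟶ G), Red.IsParabolic q → GenLe i q →
        ∀ m : ℕ, FlatMod.IsFinLocFreeOfRank m (LieS.omega Q) →
          -Curv2.deg k Z (LieS.omega Q) m ≤ -Curv2.deg k Z (LieS.omega P) n ∧
          (Curv2.deg k Z (LieS.omega Q) m = Curv2.deg k Z (LieS.omega P) n → ∃ f : Q ⟶ P, f ≫ p = q)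

/-- **Degree zero, generically split case**. -/
def CoreSplitZero : Prop :=
  ∀ (k : Type u) [Field k] (Z : Scheme.{u}) [Z.Over (Spec (CommRingCat.of k))] [IsIntegral Z]
    [IsProper (Z ↘ Spec (CommRingCat.of k))] (_ : topologicalKrullDim Z = 1)
    (_ : ∀ z : Z, ValuationRing (Z.presheaf.stalk z)) (G : Over Z) [GrpObj G] (_ : Red.IsReductive G)
    (T : Over (Spec (Z.presheaf.stalk (genericPoint Z)))) [GrpObj T] (i : T ⟶ Red.bc (gen Z) G)
    (_ : Red.IsMaximalTorus i) (M : Type) [AddCommGroup M] [Module.Finite ℤ M] [Module.Free ℤ M]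
    (_ : Red.IsSplitTorusWith M T) (n : ℕ) (_ : FlatMod.IsFinLocFreeOfRank n (LieS.omega G)),
    Curv2.deg k Z (LieS.omega G) n = 0

open scoped Classical in
/-- the sum of the roots on which `x` is nonnegative -/
noncomputable def rootSum {idx M : Type} [Fintype idx] [AddCommGroup M]
    (P : RootPairing idx ℤ M (Module.Dual ℤ M)) (x : M →+ ℤ) : M :=
  ∑ a with 0 ≤ x (P.root a), P.root a

/-- **Convex geometry**.  `D x` is the degree of the parabolic subgroup attached to the coweight `x`, `d` (depending
on the regular coweight `l`) the degree functional of the Borel subgroup of `l`. -/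
def Conv : Prop :=
  ∀ (idx M : Type) [Fintype idx] [AddCommGroup M] [Module.Finite ℤ M] [Module.Free ℤ M]
    (P : RootPairing idx ℤ M (Module.Dual ℤ M)) [P.IsReduced] (_ : P.toLinearMap = Module.Dual.eval ℤ M)
    (D : (M →+ ℤ) → ℝ)
    (_ : ∀ l : M →+ ℤ, (∀ a, l (P.root a) ≠ 0) → ∃ d : M →+ ℝ, ∀ x : M →+ ℤ, D x ≤ d (rootSum P x) ∧
      ((∀ a, 0 < l (P.root a) → 0 ≤ x (P.root a)) → D x = d (rootSum P x))),
    ∃ x₀ : M →+ ℤ, ∀ x : M →+ ℤ, D x ≤ D x₀ ∧
      (D x = D x₀ → ∀ a, 0 ≤ x (P.root a) → 0 ≤ x₀ (P.root a))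

section Deg

/-- the specialisation map `E_x ⟶ E_η` -/
noncomputable def spe {X : Scheme.{u}} [IrreducibleSpace X] (E : X.Modules) (x : X) :
    E.presheaf.stalk x → E.presheaf.stalk (genericPoint X) :=
  fun m => E.presheaf.stalkSpecializes (genericPoint_specializes x) m

/-- **Degree formula**: `β` a basis of the generic stalk, giving a basis of all stalks outside `S`; at `x ∈ S` the
basis `m x` of `E_x` has determinant `unit · ϖ ^ e x` with respect to `β`. -/
def DegLattice : Prop :=
  ∀ (k : Type u) [Field k] (X : Scheme.{u}) [X.Over (Spec (CommRingCat.of k))] [IsIntegral X]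
    [IsProper (X ↘ Spec (CommRingCat.of k))] (_ : topologicalKrullDim X = 1)
    (_ : ∀ x : X, ValuationRing (X.presheaf.stalk x)) (n : ℕ) (E : X.Modules)
    (_ : FlatMod.IsFinLocFreeOfRank n E)
    (β : Module.Basis (Fin n) (X.presheaf.stalk (genericPoint X)) (E.presheaf.stalk (genericPoint X)))
    (S : Finset X) (_ : genericPoint X ∉ S)
    (_ : ∀ x, x ≠ genericPoint X → x ∉ S →
      ∃ m : Module.Basis (Fin n) (X.presheaf.stalk x) (E.presheaf.stalk x), ∀ j, spe E x (m j) = β j)
    (m : ∀ x : X, Module.Basis (Fin n) (X.presheaf.stalk x) (E.presheaf.stalk x))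
    (ϖ : ∀ x : X, X.presheaf.stalk x) (_ : ∀ x ∈ S, Irreducible (ϖ x)) (e : X → ℤ)
    (_ : ∀ x ∈ S, ∃ u : (X.presheaf.stalk x)ˣ,
      ((β.toMatrix fun j => spe E x (m x j)).det : X.functionField) =
        algebraMap (X.presheaf.stalk x) X.functionField (u : X.presheaf.stalk x) *
          (algebraMap (X.presheaf.stalk x) X.functionField (ϖ x)) ^ (e x)),
    Curv2.deg k X E n = - ∑ x ∈ S, ((X ↘ Spec (CommRingCat.of k)).residueDegree x : ℤ) * e x

/-- a basis of the generic stalk is a basis of all stalks outside a finite set -/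
def StdFinset : Prop :=
  ∀ (k : Type u) [Field k] (X : Scheme.{u}) [X.Over (Spec (CommRingCat.of k))] [IsIntegral X]
    [IsProper (X ↘ Spec (CommRingCat.of k))] (_ : topologicalKrullDim X = 1) (n : ℕ) (E : X.Modules)
    (_ : FlatMod.IsFinLocFreeOfRank n E)
    (β : Module.Basis (Fin n) (X.presheaf.stalk (genericPoint X)) (E.presheaf.stalk (genericPoint X))),
    ∃ S : Finset X, genericPoint X ∉ S ∧ ∀ x, x ≠ genericPoint X → x ∉ S →
      ∃ m : Module.Basis (Fin n) (X.presheaf.stalk x) (E.presheaf.stalk x), ∀ j, spe E x (m j) = β j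

end Deg

/-- the generic point of the spectrum of a valuation ring -/
noncomputable abbrev genO {K : Type u} [Field K] (O : ValuationSubring K) :
    Spec (CommRingCat.of K) ⟶ Spec (CommRingCat.of O) := Spec.map (CommRingCat.ofHom (algebraMap O K))

/-- **Isomorphisms over valuation rings**: two reductive groups over a valuation ring `O` with algebraically closed
fraction field `K` which are isomorphic over `K` are isomorphic over `O`, by an isomorphism which differs
over `K` from the given one by the conjugation by a point `h ∈ G₁(K)`. -/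
def IsoInner : Prop :=
  ∀ (K : Type u) [Field K] [IsAlgClosed K] (O : ValuationSubring K)
    (G₁ G₂ : Over (Spec (CommRingCat.of O))) [GrpObj G₁] [GrpObj G₂] (_ : Red.IsReductive G₁)
    (_ : Red.IsReductive G₂) (f : Red.bc (genO O) G₁ ≅ Red.bc (genO O) G₂) (_ : IsMonHom f.hom),
    ∃ (g : G₁ ≅ G₂) (_ : IsMonHom g.hom) (h : 𝟙_ (Over (Spec (CommRingCat.of K))) ⟶ Red.bc (genO O) G₁),
      ∀ (X : Over (Spec (CommRingCat.of K))) (y : X ⟶ Red.bc (genO O) G₁),
        y ≫ f.hom = ((toUnit X ≫ h) * y * (toUnit X ≫ h)⁻¹) ≫ (Over.pullback (genO O)).map g.hom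

end Groth.Agent.CanPar.K795.Iface
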