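import Groth.Agent.RedSub.H660.Iwasawa
import Groth.Agent.Sga3B.CellTan
import Groth.Agent.LieWt.K929.LieDict
import Mathlib.LinearAlgebra.Matrix.Determinant.Basic

/-!
# The adjoint representation of a pinned split group in coordinates

`E : PinCell P b k A` over a field `k`.  `J = idx ⊕ Fin r`, `w : J → M` the weights (`root a`, resp. `0`).

* `mkL E c`: the tangent vector at the unit with coordinates `c : J → B`;
* `DualSys E a`: `a : J → A` is a dual system of functions, `co a v j = snd (v (a j))`;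
* `adM E a g : Matrix J J B`: the adjoint action; `adM_mul`, `adM_map`, `adM_i`, `co_conj`;
* `det_adM_bor`: the principal minors of `adM q`, `q = u · i t` in the Borel subgroup;
* `adM_eq_zero`: stability of the coordinate subspaces.
-/

set_option autoImplicit false
set_option linter.unusedSectionVars false
set_option linter.unusedVariables false
universe u

open Polynomial LaurentPolynomial

namespace Groth.Agent.CanPar.K795.AdMat

open Groth.Agent.Sga3B Groth.Agent.Sga3B.Cell
open Groth.Agent.Sga3B.Word Groth.Agent.RedSub.H660.Iwasawa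
open K929.LieDict

section infin

variable {k A : Type u} [CommRing k] [CommRing A] [Algebra k A] [PtGrp k A]
variable {B C : Type u} [CommRing B] [Algebra k B] [CommRing C] [Algebra k C]

/-- the value of the derivation of an infinitesimal point -/
def dv (v : Pt k A (TrivSqZeroExt B B)) (f : A) : B := (v.hom f).snd

lemma dv_mul {v v' : Pt k A (TrivSqZeroExt B B)} (hv : Pt.map (tfst k B) v = 1) (hv' : Pt.map (tfst k B) v' = 1)
    (f : A) : dv (v * v') f = dv v f + dv v' f := snd_mul hv hv' f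

lemma dv_one (f : A) : dv (1 : Pt k A (TrivSqZeroExt B B)) f = 0 := snd_one f

lemma ext_dv {v v' : Pt k A (TrivSqZeroExt B B)} (hv : Pt.map (tfst k B) v = 1) (hv' : Pt.map (tfst k B) v' = 1)
    (h : ∀ f, dv v f = dv v' f) : v = v' := pt_ext_tsq (by rw [hv, hv']) h

lemma dv_dscale (y : B) (v : Pt k A (TrivSqZeroExt B B)) (f : A) :
    dv (Pt.map (dscale k y) v) f = y * dv v f := rfl

lemma dv_dmap (φ : B →ₐ[k] C) (v : Pt k A (TrivSqZeroExt B B)) (f : A) :
    dv (Pt.map (dmap φ) v) f = φ (dv v f) := rfl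

lemma tfst_dscale {v : Pt k A (TrivSqZeroExt B B)} (hv : Pt.map (tfst k B) v = 1) (y : B) :
    Pt.map (tfst k B) (Pt.map (dscale k y) v) = 1 := by
  rw [Pt.map_map, tfst_comp_dscale, hv]

lemma tfst_dmap {v : Pt k A (TrivSqZeroExt B B)} (hv : Pt.map (tfst k B) v = 1) (φ : B →ₐ[k] C) :
    Pt.map (tfst k C) (Pt.map (dmap φ) v) = 1 := by
  rw [Pt.map_map, tfst_comp_dmap, ← Pt.map_map, hv, Pt.map_one]

lemma tfst_mul {v v' : Pt k A (TrivSqZeroExt B B)} (hv : Pt.map (tfst k B) v = 1) (hv' : Pt.map (tfst k B) v' = 1) :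
    Pt.map (tfst k B) (v * v') = 1 := by rw [Pt.map_mul, hv, hv', mul_one]

/-- conjugation by a point -/
noncomputable def cj (g : Pt k A B) (v : Pt k A (TrivSqZeroExt B B)) : Pt k A (TrivSqZeroExt B B) :=
  Pt.map (tinl k B) g * v * (Pt.map (tinl k B) g)⁻¹

lemma tfst_cj {v : Pt k A (TrivSqZeroExt B B)} (hv : Pt.map (tfst k B) v = 1) (g : Pt k A B) :
    Pt.map (tfst k B) (cj g v) = 1 := by
  rw [cj, Pt.map_mul, Pt.map_mul, hv, mul_one, ← Pt.map_mul, mul_inv_cancel, Pt.map_one]

lemma cj_dscale (g : Pt k A B) (y : B) (v : Pt k A (TrivSqZeroExt B B)) :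
    cj g (Pt.map (dscale k y) v) = Pt.map (dscale k y) (cj g v) := by
  rw [cj, cj, Pt.map_mul, Pt.map_mul, Pt.map_inv, Pt.map_map, dscale_comp_tinl]

lemma cj_dmap (φ : B →ₐ[k] C) (g : Pt k A B) (v : Pt k A (TrivSqZeroExt B B)) :
    Pt.map (dmap φ) (cj g v) = cj (Pt.map φ g) (Pt.map (dmap φ) v) := by
  rw [cj, cj, Pt.map_mul, Pt.map_mul, Pt.map_inv, Pt.map_map, Pt.map_map, dmap_comp_tinl]

lemma cj_mul (g : Pt k A B) (v v' : Pt k A (TrivSqZeroExt B B)) : cj g (v * v') = cj g v * cj g v' := by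
  rw [cj, cj, cj]
  group

lemma cj_one (g : Pt k A B) : cj g 1 = 1 := by
  rw [cj]
  group

lemma cj_cj (g g' : Pt k A B) (v : Pt k A (TrivSqZeroExt B B)) : cj (g * g') v = cj g (cj g' v) := by
  rw [cj, cj, cj, Pt.map_mul]
  group

lemma one_cj (v : Pt k A (TrivSqZeroExt B B)) : cj 1 v = v := by
  rw [cj, Pt.map_one]
  group

end infin

section main

variable {idx M : Type} [Fintype idx] [AddCommGroup M] [Module.Free ℤ M]
    [Module.Finite ℤ M] {P : RootPairing idx ℤ M (Module.Dual ℤ M)} {b : P.Base}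
    {k A : Type u} [Field k] [CommRing A] [Algebra k A] [PtGrp k A] (E : PinCell P b k A)
    {B C : Type u} [CommRing B] [Algebra k B] [CommRing C] [Algebra k C]

/-- the infinitesimal torus point of an additive map -/
noncomputable def tt (τ : M →+ B) : TPt M (TrivSqZeroExt B B) :=
  MonoidHom.toHomUnits
    { toFun := fun m => 1 + TrivSqZeroExt.inr (τ m.toAdd)
      map_one' := by
        apply TrivSqZeroExt.ext <;> simp
      map_mul' := fun m n => by
        apply TrivSqZeroExt.ext
        · simp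
        · simp [add_comm] }

@[simp] lemma ch_tt (τ : M →+ B) (m : M) : TPt.ch m (tt τ) = 1 + TrivSqZeroExt.inr (τ m) := rfl

lemma tt_zero : tt (0 : M →+ B) = 1 := by
  apply TPt.ext_ch
  intro m
  rw [ch_tt, TPt.ch_one]
  simp

lemma i_mul_ch {t t' s : TPt M B} (h : ∀ m, TPt.ch m s = TPt.ch m t * TPt.ch m t') :
    E.i B s = E.i B t * E.i B t' := by
  rw [← map_mul]
  congr 1
  exact TPt.ext_ch h

lemma i_tt_add (τ τ' : M →+ B) : E.i (TrivSqZeroExt B B) (tt (τ + τ')) =
    E.i (TrivSqZeroExt B B) (tt τ) * E.i (TrivSqZeroExt B B) (tt τ') := by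
  apply i_mul_ch
  intro m
  rw [ch_tt, ch_tt, ch_tt]
  apply TrivSqZeroExt.ext
  · simp
  · simp [add_comm]

lemma map_tfst_tt (τ : M →+ B) : TPt.map (tfst k B) (tt τ) = 1 := by
  apply TPt.ext_ch
  intro m
  rw [TPt.ch_map, ch_tt, TPt.ch_one]
  change (1 + TrivSqZeroExt.inr (τ m) : TrivSqZeroExt B B).fst = 1
  simp

lemma map_dmap_tt (φ : B →ₐ[k] C) (τ : M →+ B) :
    TPt.map (dmap φ) (tt τ) = tt ((φ : B →+* C).toAddMonoidHom.comp τ) := by
  apply TPt.ext_ch
  intro m
  rw [TPt.ch_map, ch_tt, ch_tt]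
  apply TrivSqZeroExt.ext
  · simp
  · simp

lemma map_dscale_tt (y : B) (τ : M →+ B) :
    TPt.map (dscale k y) (tt τ) = tt ((AddMonoidHom.mulLeft y).comp τ) := by
  apply TPt.ext_ch
  intro m
  rw [TPt.ch_map, ch_tt, ch_tt]
  apply TrivSqZeroExt.ext
  · simp
  · simp

/-- every infinitesimal torus point is of the form `tt τ` -/
lemma exists_tt (t : TPt M (TrivSqZeroExt B B)) (ht : TPt.map (tfst k B) t = 1) : ∃ τ : M →+ B, t = tt τ := by
  have h1 : ∀ m, (TPt.ch m t).fst = 1 := fun m => congrArg (TPt.ch m) ht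
  refine ⟨{ toFun := fun m => (TPt.ch m t).snd, map_zero' := ?_, map_add' := ?_ }, ?_⟩
  · rw [TPt.ch_zero]; rfl
  · intro m n
    rw [TPt.ch_add, TrivSqZeroExt.snd_mul, h1, h1]
    simp [add_comm]
  · apply TPt.ext_ch
    intro m
    rw [ch_tt]
    apply TrivSqZeroExt.ext
    · rw [h1]; simp
    · simp

variable (idx M) in
/-- the index set of the coordinates -/
abbrev J : Type := idx ⊕ Fin (Module.finrank ℤ M)

/-- the weights -/
def wt (P : RootPairing idx ℤ M (Module.Dual ℤ M)) : J idx M → M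
  | Sum.inl a => P.root a
  | Sum.inr _ => 0

variable (M) in
/-- a basis of the character group -/
noncomputable def bM : Module.Basis (Fin (Module.finrank ℤ M)) ℤ M := Module.finBasis ℤ M

/-- the additive map with the given coordinates -/
noncomputable def tauOf (c : Fin (Module.finrank ℤ M) → B) : M →+ B where
  toFun m := ∑ f, ((bM M).repr m f : B) * c f
  map_zero' := by simp
  map_add' m n := by
    simp only [map_add, Finsupp.add_apply, Int.cast_add, add_mul, Finset.sum_add_distrib]

lemma tauOf_bM (c : Fin (Module.finrank ℤ M) → B) (f : Fin (Module.finrank ℤ M)) : tauOf c (bM M f) = c f := by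
  classical
  change ∑ f', ((bM M).repr (bM M f) f' : B) * c f' = c f
  rw [Finset.sum_eq_single f]
  · simp
  · intro f' _ h
    rw [Module.Basis.repr_self, Finsupp.single_eq_of_ne h]
    simp
  · simp

lemma eq_tauOf (τ : M →+ B) : τ = tauOf fun f => τ (bM M f) := by
  ext m
  have h := (bM M).sum_repr m
  change τ m = ∑ f, ((bM M).repr m f : B) * τ (bM M f)
  conv_lhs => rw [← h, map_sum]
  apply Finset.sum_congr rfl
  intro f _
  rw [map_zsmul, zsmul_eq_mul]

lemma tauOf_single [DecidableEq (Fin (Module.finrank ℤ M))] (f : Fin (Module.finrank ℤ M)) (y : B) :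
    tauOf (M := M) (Pi.single f y) = (AddMonoidHom.mulLeft y).comp (tauOf (Pi.single f 1)) := by
  ext m
  change ∑ f', ((bM M).repr m f' : B) * (Pi.single f y : _ → B) f' =
    y * ∑ f', ((bM M).repr m f' : B) * (Pi.single f (1 : B) : _ → B) f'
  rw [Finset.sum_eq_single f, Finset.sum_eq_single f]
  · simp [mul_comm]
  · intro f' _ h; simp [Pi.single_eq_of_ne h]
  · simp
  · intro f' _ h; simp [Pi.single_eq_of_ne h]
  · simp

lemma tauOf_add (c c' : Fin (Module.finrank ℤ M) → B) : tauOf (M := M) (c + c') = tauOf c + tauOf c' := by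
  ext m
  change ∑ f, ((bM M).repr m f : B) * (c f + c' f) = (∑ f, ((bM M).repr m f : B) * c f) +
    ∑ f, ((bM M).repr m f : B) * c' f
  rw [← Finset.sum_add_distrib]
  apply Finset.sum_congr rfl
  intro f _
  ring

lemma tauOf_zero : tauOf (M := M) (0 : Fin (Module.finrank ℤ M) → B) = 0 := by
  ext m
  change ∑ f, ((bM M).repr m f : B) * (0 : B) = 0
  simp

lemma comp_tauOf (φ : B →+* C) (c : Fin (Module.finrank ℤ M) → B) :
    φ.toAddMonoidHom.comp (tauOf (M := M) c) = tauOf fun f => φ (c f) := by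
  ext m
  change φ (∑ f, ((bM M).repr m f : B) * c f) = ∑ f, ((bM M).repr m f : C) * φ (c f)
  rw [map_sum]
  apply Finset.sum_congr rfl
  intro f _
  rw [map_mul, map_intCast]

/-- the tangent vector with given coordinates -/
noncomputable def mkL (c : J idx M → B) : Pt k A (TrivSqZeroExt B B) :=
  E.cell (fun a => TrivSqZeroExt.inr (c (Sum.inl a))) (tt (tauOf fun f => c (Sum.inr f)))

lemma tfst_uu_inr (a : idx) (y : B) :
    Pt.map (tfst k B) (E.uu a (TrivSqZeroExt B B) (TrivSqZeroExt.inr y)) = 1 := by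
  rw [E.uu_nat]
  have : tfst k B (TrivSqZeroExt.inr y) = 0 := TrivSqZeroExt.fst_inr B y
  rw [this, E.uu_zero]

lemma tfst_i_tt (τ : M →+ B) : Pt.map (tfst k B) (E.i (TrivSqZeroExt B B) (tt τ)) = 1 := by
  rw [E.i_nat, map_tfst_tt, map_one]

lemma tfst_mkL (c : J idx M → B) : Pt.map (tfst k B) (mkL E c) = 1 := by
  rw [mkL, PinCell.cell, Pt.map_mul, tfst_i_tt, mul_one]
  apply map_tfst_list_prod
  intro g hg
  obtain ⟨a, -, rfl⟩ := List.mem_map.mp hg
  exact tfst_uu_inr E a _

/-- the basis derivations over `k` -/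
noncomputable def dE [DecidableEq (J idx M)] (j : J idx M) (f : A) : k := dv (mkL E (Pi.single j (1 : k))) f

/-- the derivation of `mkL c` in terms of its factors -/
lemma dv_mkL (c : J idx M → B) (f : A) : dv (mkL E c) f =
    (∑ a, dv (E.uu a (TrivSqZeroExt B B) (TrivSqZeroExt.inr (c (Sum.inl a)))) f) +
      dv (E.i (TrivSqZeroExt B B) (tt (tauOf fun f => c (Sum.inr f)))) f := by
  classical
  have hl : ∀ g ∈ (allList b).map (fun a => E.uu a (TrivSqZeroExt B B) (TrivSqZeroExt.inr (c (Sum.inl a)))),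
      Pt.map (tfst k B) g = 1 := by
    intro g hg
    obtain ⟨a, -, rfl⟩ := List.mem_map.mp hg
    exact tfst_uu_inr E a _
  rw [mkL, PinCell.cell, dv_mul (map_tfst_list_prod hl) (tfst_i_tt E _)]
  congr 1
  have := snd_list_prod hl f
  change dv (List.prod _) f = _
  rw [dv, this, List.map_map, ← List.sum_toFinset _ (allList_nodup b)]
  have hLu : (allList b).toFinset = Finset.univ := by
    ext a; simp [mem_allList]
  rw [hLu]
  rfl

lemma dv_uu (a : idx) (y : B) (f : A) : dv (E.uu a (TrivSqZeroExt B B) (TrivSqZeroExt.inr y)) f =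
    y * dv (E.uu a (TrivSqZeroExt B B) (TrivSqZeroExt.inr 1)) f := by
  rw [← dv_dscale, E.uu_nat]
  congr 2
  apply TrivSqZeroExt.ext
  · simp
  · simp

lemma dv_i_add (τ τ' : M →+ B) (f : A) : dv (E.i (TrivSqZeroExt B B) (tt (τ + τ'))) f =
    dv (E.i (TrivSqZeroExt B B) (tt τ)) f + dv (E.i (TrivSqZeroExt B B) (tt τ')) f := by
  rw [i_tt_add, dv_mul (tfst_i_tt E _) (tfst_i_tt E _)]

lemma dv_i_scale (y : B) (τ : M →+ B) (f : A) :
    dv (E.i (TrivSqZeroExt B B) (tt ((AddMonoidHom.mulLeft y).comp τ))) f =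
    y * dv (E.i (TrivSqZeroExt B B) (tt τ)) f := by
  rw [← map_dscale_tt (k := k), ← E.i_nat, dv_dscale]

lemma dv_mkL_add (c c' : J idx M → B) (f : A) : dv (mkL E (c + c')) f = dv (mkL E c) f + dv (mkL E c') f := by
  rw [dv_mkL, dv_mkL, dv_mkL]
  have h1 : tauOf (M := M) (fun f => (c + c') (Sum.inr f)) =
      tauOf (fun f => c (Sum.inr f)) + tauOf (fun f => c' (Sum.inr f)) :=
    tauOf_add (fun f => c (Sum.inr f)) (fun f => c' (Sum.inr f))
  have h2 : ∀ a, dv (E.uu a (TrivSqZeroExt B B) (TrivSqZeroExt.inr ((c + c') (Sum.inl a)))) f =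
      dv (E.uu a (TrivSqZeroExt B B) (TrivSqZeroExt.inr (c (Sum.inl a)))) f +
      dv (E.uu a (TrivSqZeroExt B B) (TrivSqZeroExt.inr (c' (Sum.inl a)))) f := by
    intro a
    rw [dv_uu, dv_uu E a (c (Sum.inl a)), dv_uu E a (c' (Sum.inl a)), Pi.add_apply]
    ring
  rw [h1, dv_i_add, Finset.sum_congr rfl (fun a _ => h2 a), Finset.sum_add_distrib]
  ring

lemma dv_mkL_smul (y : B) (c : J idx M → B) (f : A) : dv (mkL E (fun j => y * c j)) f = y * dv (mkL E c) f := by
  rw [dv_mkL, dv_mkL]
  have h1 : tauOf (M := M) (fun f => y * c (Sum.inr f)) = (AddMonoidHom.mulLeft y).comp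
      (tauOf (fun f => c (Sum.inr f))) := by
    ext m
    change ∑ f, ((bM M).repr m f : B) * (y * c _) = y * ∑ f, ((bM M).repr m f : B) * c _
    rw [Finset.mul_sum]
    apply Finset.sum_congr rfl
    intro f _
    ring
  have h2 : ∀ a, dv (E.uu a (TrivSqZeroExt B B) (TrivSqZeroExt.inr (y * c (Sum.inl a)))) f =
      y * dv (E.uu a (TrivSqZeroExt B B) (TrivSqZeroExt.inr (c (Sum.inl a)))) f := by
    intro a
    rw [dv_uu, dv_uu E a (c (Sum.inl a))]
    ring
  rw [h1, dv_i_scale, Finset.sum_congr rfl (fun a _ => h2 a), ← Finset.mul_sum]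
  ring

lemma mkL_zero : mkL E (0 : J idx M → B) = 1 := by
  apply ext_dv (tfst_mkL E _) (Pt.map_one _)
  intro f
  have h := dv_mkL_add E (0 : J idx M → B) 0 f
  rw [add_zero] at h
  rw [dv_one]
  exact left_eq_add.mp h

lemma mkL_map (φ : B →ₐ[k] C) (c : J idx M → B) : Pt.map (dmap φ) (mkL E c) = mkL E (fun j => φ (c j)) := by
  rw [mkL, mkL, E.cell_nat]
  congr 1
  · funext a
    apply TrivSqZeroExt.ext
    · simp
    · simp
  · rw [map_dmap_tt, comp_tauOf]
    rfl

lemma dv_mkL_sum [DecidableEq (J idx M)] (c : J idx M → B) (f : A) :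
    dv (mkL E c) f = ∑ j, c j * algebraMap k B (dE E j f) := by
  have h0 : ∀ (s : Finset (J idx M)) (c : J idx M → J idx M → B),
      dv (mkL E (∑ j ∈ s, c j)) f = ∑ j ∈ s, dv (mkL E (c j)) f := by
    intro s c
    induction s using Finset.induction with
    | empty => rw [Finset.sum_empty, Finset.sum_empty, mkL_zero, dv_one]
    | insert a s ha ih => rw [Finset.sum_insert ha, Finset.sum_insert ha, dv_mkL_add, ih]
  have h1 : c = ∑ j, (fun i => c j * (Pi.single j (1 : B) : J idx M → B) i) := by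
    funext i
    rw [Finset.sum_apply, Finset.sum_eq_single i]
    · simp
    · intro j _ h
      rw [Pi.single_eq_of_ne h.symm, mul_zero]
    · simp
  conv_lhs => rw [h1, h0]
  apply Finset.sum_congr rfl
  intro j _
  rw [dv_mkL_smul]
  congr 1
  have h2 := mkL_map E (Algebra.ofId k B) (Pi.single j (1 : k))
  have h3 : (fun i => Algebra.ofId k B ((Pi.single j (1 : k) : J idx M → k) i)) = Pi.single j (1 : B) := by
    funext i
    by_cases h : i = j
    · subst h; simp
    · simp [Pi.single_eq_of_ne h]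
  rw [h3] at h2
  rw [← h2, dv_dmap]
  rfl

lemma mkL_injective {c c' : J idx M → B} (h : mkL E c = mkL E c') : c = c' := by
  have h1 : mkL E (c - c') = 1 := by
    apply ext_dv (tfst_mkL E _) (Pt.map_one _)
    intro f
    have h2 := dv_mkL_add E (c - c') c' f
    rw [sub_add_cancel, h] at h2
    rw [dv_one]
    exact right_eq_add.mp h2
  obtain ⟨h2, h3⟩ := Datum.cell_tangent_inj E.toDatum (allList_nodup b) (mem_allList b)
    (fun a => (c - c') (Sum.inl a)) _ (map_tfst_tt _) h1
  have h4 : ∀ f, (c - c') (Sum.inr f) = 0 := by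
    intro f
    have h5 := congrArg (fun t => (TPt.ch (bM M f) t).snd) h3
    rw [← tauOf_bM (M := M) (fun f => (c - c') (Sum.inr f)) f]
    change (TPt.ch (bM M f) (tt (tauOf fun f => (c - c') (Sum.inr f)))).snd = (TPt.ch (bM M f) (1 : TPt M (TrivSqZeroExt B B))).snd at h5
    rw [ch_tt, TPt.ch_one, TrivSqZeroExt.snd_add, TrivSqZeroExt.snd_one, TrivSqZeroExt.snd_inr, zero_add] at h5
    exact h5
  rw [← sub_eq_zero]
  funext j
  rcases j with a | f
  · exact congrFun h2 a
  · exact h4 f

/-- every infinitesimal point is of the form `mkL c` -/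
lemma exists_mkL (v : Pt k A (TrivSqZeroExt B B)) (hv : Pt.map (tfst k B) v = 1) : ∃ c : J idx M → B, v = mkL E c := by
  have h1 : E.cellIdeal.map v.hom.toRingHom = ⊤ := by
    have h2 : E.cellIdeal.map (Pt.map (tfst k B) v).hom.toRingHom = ⊤ := by
      rw [hv, ← E.mem_cell_iff]
      refine ⟨0, 1, ?_⟩
      have := E.toDatum.cell_zero (B := B) (allList b) 1
      rw [map_one] at this
      exact this.symm
    have h3 : (Pt.map (tfst k B) v).hom.toRingHom = (tfst k B).toRingHom.comp v.hom.toRingHom := rfl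
    rw [h3, ← Ideal.map_map, Ideal.eq_top_iff_one] at h2
    rw [Ideal.mem_map_iff_of_surjective _ (fun y => ⟨TrivSqZeroExt.inl y, rfl⟩)] at h2
    obtain ⟨y, hy, hy'⟩ := h2
    apply Ideal.eq_top_of_isUnit_mem _ hy
    have h4 : y.fst = 1 := hy'
    have h5 : IsUnit (1 + (y - 1)) := by
      apply IsNilpotent.isUnit_one_add
      refine ⟨2, ?_⟩
      rw [pow_two]
      apply TrivSqZeroExt.ext
      · rw [TrivSqZeroExt.fst_mul]
        simp [h4]
      · rw [TrivSqZeroExt.snd_mul]
        simp [h4]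
    simpa using h5
  obtain ⟨x, t, hx⟩ := (E.mem_cell_iff v).2 h1
  change v = E.cell x t at hx
  have h2 := congrArg (Pt.map (tfst k B)) hx
  rw [hv, E.cell_nat] at h2
  have h0 : (1 : Pt k A B) = E.cell (fun _ => 0) 1 := by
    have := E.toDatum.cell_zero (B := B) (allList b) 1
    rw [map_one] at this
    exact this.symm
  rw [h0] at h2
  obtain ⟨h3, h4⟩ := E.cell_injective h2
  obtain ⟨τ, rfl⟩ := exists_tt t h4.symm
  refine ⟨Sum.elim (fun a => (x a).snd) (fun f => τ (bM M f)), ?_⟩
  rw [hx, mkL]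
  congr 1
  · funext a
    apply TrivSqZeroExt.ext
    · exact (congrFun h3 a).symm
    · rfl
  · rw [eq_tauOf τ]
    simp [tauOf_bM]

/-! ### dual systems -/

/-- a dual system of functions -/
def DualSys [DecidableEq (J idx M)] (a : J idx M → A) : Prop :=
  ∀ i j : J idx M, dE E i (a j) = if i = j then 1 else 0

lemma exists_dualSys [DecidableEq (J idx M)] : ∃ a : J idx M → A, DualSys E a := by
  let Φ : A →ₗ[k] (J idx M → k) :=
    LinearMap.pi fun j => (TrivSqZeroExt.sndHom k k).comp (mkL E (Pi.single j (1 : k))).hom.toLinearMap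
  have hΦ : ∀ f j, Φ f j = dE E j f := fun f j => rfl
  have hs : LinearMap.range Φ = ⊤ := by
    by_contra hne
    obtain ⟨ℓ, hℓ, hℓ'⟩ := Submodule.exists_le_ker_of_lt_top _ (lt_top_iff_ne_top.2 hne)
    apply hℓ
    set c : J idx M → k := fun j => ℓ (Pi.single j 1) with hc
    have h1 : mkL E c = mkL E 0 := by
      rw [mkL_zero]
      apply ext_dv (tfst_mkL E _) (Pt.map_one _)
      intro f
      rw [dv_one, dv_mkL_sum]
      have h2 : ℓ (Φ f) = 0 := hℓ' ⟨f, rfl⟩
      rw [← h2]
      have h3 : Φ f = ∑ j, dE E j f • Pi.single j (1 : k) := by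
        funext i
        rw [Finset.sum_apply, Finset.sum_eq_single i]
        · simp [hΦ]
        · intro j _ h
          simp [Pi.single_eq_of_ne h.symm]
        · simp
      rw [h3, map_sum]
      apply Finset.sum_congr rfl
      intro j _
      rw [map_smul, smul_eq_mul, mul_comm]
      rfl
    have h2 := mkL_injective E h1
    apply LinearMap.pi_ext'
    intro j
    apply LinearMap.ext_ring
    exact congrFun h2 j
  have hs' : ∀ j, ∃ f : A, Φ f = Pi.single j 1 := fun j => by
    have : (Pi.single j (1 : k) : J idx M → k) ∈ LinearMap.range Φ := by rw [hs]; trivial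
    exact this
  choose a ha using hs'
  refine ⟨a, fun i j => ?_⟩
  have h := congrFun (ha j) i
  rw [hΦ, Pi.single_apply] at h
  exact h

variable [DecidableEq (J idx M)] {E} {a : J idx M → A} (ha : DualSys E a)

/-- the coordinates of an infinitesimal point -/
def co (a : J idx M → A) (v : Pt k A (TrivSqZeroExt B B)) : J idx M → B := fun j => dv v (a j)

include ha in
lemma co_mkL (c : J idx M → B) : co a (mkL E c) = c := by
  funext j
  rw [co, dv_mkL_sum, Finset.sum_eq_single j]
  · rw [ha, if_pos rfl, map_one, mul_one]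
  · intro i _ h
    rw [ha, if_neg h, map_zero, mul_zero]
  · simp

include ha in
lemma mkL_co {v : Pt k A (TrivSqZeroExt B B)} (hv : Pt.map (tfst k B) v = 1) : mkL E (co a v) = v := by
  obtain ⟨c, rfl⟩ := exists_mkL E v hv
  rw [co_mkL ha]

include ha in
lemma dv_eq_sum {v : Pt k A (TrivSqZeroExt B B)} (hv : Pt.map (tfst k B) v = 1) (f : A) :
    dv v f = ∑ j, co a v j * algebraMap k B (dE E j f) := by
  conv_lhs => rw [← mkL_co ha hv]
  exact dv_mkL_sum E _ f

lemma co_map (φ : B →ₐ[k] C) (v : Pt k A (TrivSqZeroExt B B)) :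
    co a (Pt.map (dmap φ) v) = fun j => φ (co a v j) := rfl

lemma co_scale (y : B) (v : Pt k A (TrivSqZeroExt B B)) :
    co a (Pt.map (dscale k y) v) = fun j => y * co a v j := rfl

/-! ### the adjoint matrices -/

variable (E a)

/-- the matrix of the adjoint action -/
noncomputable def adM (g : Pt k A B) : Matrix (J idx M) (J idx M) B :=
  Matrix.of fun i j => co a (cj g (mkL E (Pi.single j (1 : B)))) i

variable {E a}

include ha in
theorem co_cj (g : Pt k A B) {v : Pt k A (TrivSqZeroExt B B)} (hv : Pt.map (tfst k B) v = 1) :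
    co a (cj g v) = (adM E a g).mulVec (co a v) := by
  obtain ⟨c, rfl⟩ := exists_mkL E v hv
  rw [co_mkL ha]
  have hmul : ∀ (x y : J idx M → B), mkL E (x + y) = mkL E x * mkL E y := fun x y => by
    apply ext_dv (tfst_mkL E _) (tfst_mul (tfst_mkL E _) (tfst_mkL E _))
    intro f
    rw [dv_mkL_add, dv_mul (tfst_mkL E _) (tfst_mkL E _)]
  have hsc : ∀ (y : B) (x : J idx M → B), mkL E (fun j => y * x j) = Pt.map (dscale k y) (mkL E x) := fun y x => by
    apply ext_dv (tfst_mkL E _) (tfst_dscale (tfst_mkL E _) _)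
    intro f
    rw [dv_mkL_smul, dv_dscale]
  have h0 : ∀ (s : Finset (J idx M)) (c : J idx M → J idx M → B) (i : J idx M),
      co a (cj g (mkL E (∑ j ∈ s, c j))) i = ∑ j ∈ s, co a (cj g (mkL E (c j))) i := by
    intro s c i
    induction s using Finset.induction with
    | empty => rw [Finset.sum_empty, Finset.sum_empty, mkL_zero, cj_one]; exact dv_one _
    | insert x s hx ih =>
      rw [Finset.sum_insert hx, Finset.sum_insert hx, hmul, cj_mul, ← ih]
      exact dv_mul (tfst_cj (tfst_mkL E _) g) (tfst_cj (tfst_mkL E _) g) _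
  have h1 : c = ∑ j, (fun i => c j * (Pi.single j (1 : B) : J idx M → B) i) := by
    funext i
    rw [Finset.sum_apply, Finset.sum_eq_single i]
    · simp
    · intro j _ h
      rw [Pi.single_eq_of_ne h.symm, mul_zero]
    · simp
  funext i
  conv_lhs => rw [h1, h0]
  rw [Matrix.mulVec, dotProduct]
  apply Finset.sum_congr rfl
  intro j _
  rw [hsc, cj_dscale, co_scale, mul_comm]
  rfl

include ha in
theorem adM_mul (g g' : Pt k A B) : adM E a (g * g') = adM E a g * adM E a g' := by
  ext i j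
  rw [Matrix.mul_apply]
  change co a (cj (g * g') _) i = _
  rw [cj_cj, co_cj ha g (tfst_cj (tfst_mkL E _) g')]
  rfl

include ha in
theorem adM_one : adM E a (1 : Pt k A B) = 1 := by
  ext i j
  change co a (cj 1 _) i = _
  rw [one_cj, co_mkL ha, Matrix.one_apply, Pi.single_apply]

theorem adM_map (φ : B →ₐ[k] C) (g : Pt k A B) : adM E a (Pt.map φ g) = (adM E a g).map φ := by
  ext i j
  rw [Matrix.map_apply]
  change co a (cj (Pt.map φ g) (mkL E (Pi.single j (1 : C)))) i = φ (co a (cj g (mkL E (Pi.single j (1 : B)))) i)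
  have h3 : (fun i => φ ((Pi.single j (1 : B) : J idx M → B) i)) = Pi.single j (1 : C) := by
    funext i
    by_cases h : i = j
    · subst h; simp
    · simp [Pi.single_eq_of_ne h]
  rw [← h3, ← mkL_map, ← cj_dmap, co_map]

include ha in
theorem adM_i (t : TPt M B) : adM E a (E.i B t) = Matrix.diagonal fun j => TPt.ch (wt P j) t := by
  ext i j
  change co a (cj (E.i B t) (mkL E (Pi.single j (1 : B)))) i = _
  have h1 : cj (E.i B t) (mkL E (Pi.single j (1 : B))) = mkL E (Pi.single j (TPt.ch (wt P j) t)) := by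
    rw [cj, E.i_nat, mkL, mkL, E.cell_eq, E.cell_eq]
    have h2 := E.toDatum.conj_cell (allList b)
      (fun a => TrivSqZeroExt.inr ((Pi.single j (1 : B) : J idx M → B) (Sum.inl a)))
      (tt (tauOf fun f => (Pi.single j (1 : B) : J idx M → B) (Sum.inr f))) (TPt.map (tinl k B) t)
    refine h2.trans ?_
    congr 1
    · funext c
      change TPt.ch (P.root c) (TPt.map (tinl k B) t) * _ = _
      rw [TPt.ch_map]
      apply TrivSqZeroExt.ext
      · simp
      · rw [Pi.single_apply, Pi.single_apply]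
        split_ifs with h
        · subst h
          simp [wt]
        · simp
    · congr 2
      funext f
      rw [Pi.single_apply, Pi.single_apply]
      split_ifs with h
      · subst h
        simp [wt]
      · rfl
  rw [h1, co_mkL ha, Matrix.diagonal_apply, Pi.single_apply]
  split_ifs with h
  · rw [h]
  · rfl

end main

end Groth.Agent.CanPar.K795.AdMat
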