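import Groth.Agent.Krr.H496.ConMapSec
import Groth.Agent.Krr.H484.PullExt

/-!
# Composition law for conormal maps
-/

set_option autoImplicit false
universe u

open CategoryTheory CategoryTheory.Limits AlgebraicGeometry Opposite TopologicalSpace

namespace K795.ConComp

open Groth.Agent.Sga67.Sec Groth.Agent.Krr.H487.LocBasisPull
open Groth.Agent.Smoothlim.ConormalRes Groth.Agent.Grpsch.ConormalStalk
open Groth.Agent.Grpsch.ConormalIso Groth.Agent.Dix.IdealModCartier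
open Groth.Agent.Krr.H496.ConMapSec

variable {T Y X W : Scheme.{u}}

theorem ext1 (g : T ⟶ X) {E : X.Modules} {L : T.Modules} {ψ ψ' : (Scheme.Modules.pullback g).obj E ⟶ L}
    (h : ∀ (V : X.Opens) (m : Sec E V), appS ψ (g ⁻¹ᵁ V) (pbS g E m) = appS ψ' (g ⁻¹ᵁ V) (pbS g E m)) :
    ψ = ψ' :=
  Groth.Agent.Krr.H484.PullExt.ext1 g h

theorem ext2 (a : T ⟶ Y) (b : Y ⟶ X) {E : X.Modules} {L : T.Modules}
    {ψ ψ' : (Scheme.Modules.pullback a).obj ((Scheme.Modules.pullback b).obj E) ⟶ L}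
    (h : ∀ (V : X.Opens) (m : Sec E V), appS ψ (a ⁻¹ᵁ (b ⁻¹ᵁ V)) (pbS a _ (pbS b E m)) =
      appS ψ' (a ⁻¹ᵁ (b ⁻¹ᵁ V)) (pbS a _ (pbS b E m))) : ψ = ψ' :=
  Groth.Agent.Krr.H484.PullExt.ext2 a b h

theorem comp_inv_pbS (f : X ⟶ Y) (g : Y ⟶ W) {M : W.Modules} {U : W.Opens} (m : Sec M U) :
    appS ((Scheme.Modules.pullbackComp f g).inv.app M) (f ⁻¹ᵁ (g ⁻¹ᵁ U)) (pbS (f ≫ g) M m) =
      pbS f _ (pbS g M m) := Groth.Agent.Fdesc.LocGen.pullSec_comp f g m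

theorem comp_hom_pbS (f : X ⟶ Y) (g : Y ⟶ W) {M : W.Modules} {U : W.Opens} (m : Sec M U) :
    appS ((Scheme.Modules.pullbackComp f g).hom.app M) (f ⁻¹ᵁ (g ⁻¹ᵁ U)) (pbS f _ (pbS g M m)) =
      pbS (f ≫ g) M m := Groth.Agent.Fdesc.LocGen.pullSec_comp' f g m

theorem ext3 (a : T ⟶ Y) (b : Y ⟶ X) (c : X ⟶ W) {E : W.Modules} {L : T.Modules}
    {ψ ψ' : (Scheme.Modules.pullback a).obj ((Scheme.Modules.pullback b).obj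
      ((Scheme.Modules.pullback c).obj E)) ⟶ L}
    (h : ∀ (V : W.Opens) (m : Sec E V), appS ψ (a ⁻¹ᵁ (b ⁻¹ᵁ (c ⁻¹ᵁ V))) (pbS a _ (pbS b _ (pbS c E m))) =
      appS ψ' (a ⁻¹ᵁ (b ⁻¹ᵁ (c ⁻¹ᵁ V))) (pbS a _ (pbS b _ (pbS c E m)))) : ψ = ψ' := by
  rw [← cancel_epi ((Scheme.Modules.pullbackComp a b).inv.app ((Scheme.Modules.pullback c).obj E))]
  apply ext2
  intro V m
  have h1 := comp_inv_pbS a b (pbS c E m)
  have h2 := h V m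
  rw [← h1] at h2
  exact h2

variable {Z Z' X' Z'' X'' : Scheme.{u}} {i : Z ⟶ X} {i' : Z' ⟶ X'} {i'' : Z'' ⟶ X''} {g : X' ⟶ X} {h : Z' ⟶ Z}
  {g' : X'' ⟶ X'} {h' : Z'' ⟶ Z'}

theorem idMap_comp (w : i' ≫ g = h ≫ i) (w' : i'' ≫ g' = h' ≫ i') (w'' : i'' ≫ (g' ≫ g) = (h' ≫ h) ≫ i)
    [QuasiCompact i] [QuasiCompact i'] [QuasiCompact i''] {V : X.Opens} (m : Sec (ClSub.idealMod i.ker) V) :
    appS (idMap w'') (g' ⁻¹ᵁ (g ⁻¹ᵁ V)) (pbS (g' ≫ g) _ m) =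
      appS (idMap w') (g' ⁻¹ᵁ (g ⁻¹ᵁ V)) (pbS g' _ (appS (idMap w) (g ⁻¹ᵁ V) (pbS g _ m))) := by
  apply val_injective i''.ker
  have h1 := val_idMap w'' m
  have h2 := val_idMap w' (appS (idMap w) (g ⁻¹ᵁ V) (pbS g _ m))
  have h3 := val_idMap w m
  refine h1.trans ?_
  refine Eq.trans ?_ h2.symm
  rw [h3]
  rfl

/-- Composition of conormal maps. -/
theorem conormalMap_comp (w : i' ≫ g = h ≫ i) (w' : i'' ≫ g' = h' ≫ i') (w'' : i'' ≫ (g' ≫ g) = (h' ≫ h) ≫ i)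
    [QuasiCompact i] [QuasiCompact i'] [QuasiCompact i''] :
    (Scheme.Modules.pullbackComp h' h).hom.app (Omega.conormal i) ≫ conormalMap w'' =
      (Scheme.Modules.pullback h').map (conormalMap w) ≫ conormalMap w' := by
  apply ext3 h' h i
  intro V m
  have hV : h' ⁻¹ᵁ (h ⁻¹ᵁ (i ⁻¹ᵁ V)) ≤ i'' ⁻¹ᵁ (g' ⁻¹ᵁ (g ⁻¹ᵁ V)) := by
    have e : (h' ≫ h ≫ i) ⁻¹ᵁ V = (i'' ≫ g' ≫ g) ⁻¹ᵁ V := by
      rw [w'']
      simp only [Category.assoc]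
    exact e.le
  have hV1 : h ⁻¹ᵁ (i ⁻¹ᵁ V) = i' ⁻¹ᵁ (g ⁻¹ᵁ V) := by
    have e : (h ≫ i) ⁻¹ᵁ V = (i' ≫ g) ⁻¹ᵁ V := by rw [w]
    exact e
  -- left-hand side
  have l1 : appS ((Scheme.Modules.pullbackComp h' h).hom.app (Omega.conormal i) ≫ conormalMap w'')
      (h' ⁻¹ᵁ (h ⁻¹ᵁ (i ⁻¹ᵁ V))) (pbS h' _ (pbS h _ (pbS i (ClSub.idealMod i.ker) m))) =
      appS (conormalMap w'') ((h' ≫ h) ⁻¹ᵁ (i ⁻¹ᵁ V)) (pbS (h' ≫ h) _ (pbS i (ClSub.idealMod i.ker) m)) := by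
    rw [appS_comp]
    exact congrArg (appS (conormalMap w'') ((h' ≫ h) ⁻¹ᵁ (i ⁻¹ᵁ V))) (comp_hom_pbS h' h _)
  have l2 := conormalMap_pbS w'' m (W := (h' ≫ h) ⁻¹ᵁ (i ⁻¹ᵁ V)) le_rfl hV
  rw [res_self] at l2
  -- right-hand side
  have r1 : appS ((Scheme.Modules.pullback h').map (conormalMap w) ≫ conormalMap w')
      (h' ⁻¹ᵁ (h ⁻¹ᵁ (i ⁻¹ᵁ V))) (pbS h' _ (pbS h _ (pbS i (ClSub.idealMod i.ker) m))) =
      appS (conormalMap w') (h' ⁻¹ᵁ (h ⁻¹ᵁ (i ⁻¹ᵁ V)))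
        (pbS h' _ (appS (conormalMap w) (h ⁻¹ᵁ (i ⁻¹ᵁ V)) (pbS h _ (pbS i (ClSub.idealMod i.ker) m)))) := by
    rw [appS_comp]
    exact congrArg (appS (conormalMap w') (h' ⁻¹ᵁ (h ⁻¹ᵁ (i ⁻¹ᵁ V)))) (appS_pbS h' (conormalMap w) _)
  have r2 := conormalMap_pbS w m (W := h ⁻¹ᵁ (i ⁻¹ᵁ V)) le_rfl hV1.le
  rw [res_self] at r2
  have r3 := conormalMap_pbS w' (appS (idMap w) (g ⁻¹ᵁ V) (pbS g _ m))
    (W := h' ⁻¹ᵁ (h ⁻¹ᵁ (i ⁻¹ᵁ V))) (by rw [hV1]) hV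
  refine l1.trans ((l2.trans ?_).trans r1.symm)
  refine (congrArg (fun y => res (Omega.conormal i'') hV (pbS i'' (ClSub.idealMod i''.ker) y))
    (idMap_comp w w' w'' m)).trans ?_
  refine r3.symm.trans ?_
  refine (appS_res (conormalMap w') _ _).symm.trans ?_
  refine congrArg (appS (conormalMap w') (h' ⁻¹ᵁ (h ⁻¹ᵁ (i ⁻¹ᵁ V)))) ?_
  refine (res_pbS h' (Omega.conormal i') hV1.le _ _).trans ?_
  exact congrArg (pbS h' (Omega.conormal i')) r2.symm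

end K795.ConComp
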