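import Groth.Agent.Dual.H366.ConSec
import Groth.Agent.Krr.H487.LocBasisPull
import Groth.Agent.Grpsch.ConormalIso
import Groth.Agent.CanPar.K795.Iface

/-!
# Linear functionals on the stalks of the conormal module of a section

For `e : Z ⟶ X` quasi-compact, `W ⊆ X` open, `x ∈ e⁻¹ W`:
* `dl e W x hx : Sec (idealMod e.ker) W →+ (conormal e)_x`, `dl_smul`, `dl_res`, `spe_dl`;
* `span_dl`, `exists_lift_dl`: for `W` affine, `(conormal e)_x` is the base change of the ideal of `W`.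
-/

set_option autoImplicit false
set_option linter.unusedSectionVars false
set_option linter.style.haveILetI false
universe u

open CategoryTheory CategoryTheory.Limits AlgebraicGeometry Opposite TopologicalSpace

namespace Groth.Agent.CanPar.K795.ConLin

open Groth.Agent.Sga67.Sec Groth.Agent.Sga67.LocBasis Groth.Agent.Sga67.LocBasisStalk
open Groth.Agent.Krr.H487.LocBasisPull Groth.Agent.Dual.H366.ConSec
open Groth.Agent.VarietyB Groth.Agent.CanPar.K795.Iface

variable {Z X : Scheme.{u}} (e : Z ⟶ X)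

/-- germ of the class of a section of the ideal -/
noncomputable def dl (W : X.Opens) (x : Z) (hx : x ∈ e ⁻¹ᵁ W) :
    Sec (ClSub.idealMod e.ker) W →+ (Omega.conormal e).presheaf.stalk x where
  toFun c := ger (Omega.conormal e) (U := e ⁻¹ᵁ W) x hx (pbS e (ClSub.idealMod e.ker) c)
  map_zero' := by rw [map_zero]; exact ger_zero _ x hx
  map_add' c c' := by rw [map_add]; exact ger_add _ x hx _ _

theorem dl_apply (W : X.Opens) (x : Z) (hx : x ∈ e ⁻¹ᵁ W) (c : Sec (ClSub.idealMod e.ker) W) :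
    dl e W x hx c = ger (Omega.conormal e) (U := e ⁻¹ᵁ W) x hx (pbS e (ClSub.idealMod e.ker) c) := rfl

theorem dl_smul (W : X.Opens) (x : Z) (hx : x ∈ e ⁻¹ᵁ W) (r : Γ(X, W)) (c : Sec (ClSub.idealMod e.ker) W) :
    dl e W x hx (r • c) = gerO x hx (e.app W r) • dl e W x hx c := by
  rw [dl_apply, dl_apply, pbS_smul]
  exact ger_smul _ x hx _ _

theorem dl_res {W W' : X.Opens} (h : W' ≤ W) (x : Z) (hx : x ∈ e ⁻¹ᵁ W') (c : Sec (ClSub.idealMod e.ker) W) :
    dl e W' x hx (res _ h c) = dl e W x (e.preimage_mono h hx) c := by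
  rw [dl_apply, dl_apply, ← res_pbS e _ h (e.preimage_mono h)]
  exact ger_res _ (e.preimage_mono h) x hx _

theorem spe_dl [IrreducibleSpace Z] (W : X.Opens) (x : Z) (hx : x ∈ e ⁻¹ᵁ W) (c : Sec (ClSub.idealMod e.ker) W) :
    spe (Omega.conormal e) x (dl e W x hx c) =
      dl e W (genericPoint Z) ((genericPoint_specializes x).mem_open (e ⁻¹ᵁ W).2 hx) c := by
  rw [dl_apply, dl_apply]
  exact TopCat.Presheaf.germ_stalkSpecializes_apply _ _ _ _

theorem isBaseChange_dl {W : X.Opens} (hW : IsAffineOpen W) (x : Z) (hx : x ∈ e ⁻¹ᵁ W) :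
    letI : Algebra Γ(X, W) (Z.presheaf.stalk x) :=
      ((e.stalkMap x).hom.comp (X.presheaf.germ W (e.base x) hx).hom).toAlgebra
    letI : Module Γ(X, W) ((Omega.conormal e).presheaf.stalk x) :=
      Module.compHom _ ((e.stalkMap x).hom.comp (X.presheaf.germ W (e.base x) hx).hom)
    haveI : IsScalarTower Γ(X, W) (Z.presheaf.stalk x) ((Omega.conormal e).presheaf.stalk x) :=
      ⟨fun a b c => by rw [Algebra.smul_def, mul_smul]; rfl⟩
    ∃ f : Sec (ClSub.idealMod e.ker) W →ₗ[Γ(X, W)] (Omega.conormal e).presheaf.stalk x,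
      (∀ s, f s = dl e W x hx s) ∧ IsBaseChange (Z.presheaf.stalk x) f := by
  obtain ⟨f, hf, hf'⟩ := PullSec.isBaseChange_can_germ e (ClSub.idealMod e.ker)
    (PerfA.IdealModule.isQCoh_idealMod _) hW x hx
  exact ⟨f, fun s => (hf s).trans (ger_pbS e (ClSub.idealMod e.ker) x hx s).symm, hf'⟩

theorem stalkMap_germ_eq (W : X.Opens) (x : Z) (hx : x ∈ e ⁻¹ᵁ W) (r : Γ(X, W)) :
    (e.stalkMap x).hom ((X.presheaf.germ W (e.base x) hx).hom r) = gerO x hx (e.app W r) :=
  Scheme.Hom.germ_stalkMap_apply e W x hx r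

theorem span_dl {W : X.Opens} (hW : IsAffineOpen W) (x : Z) (hx : x ∈ e ⁻¹ᵁ W) :
    Submodule.span (Z.presheaf.stalk x) (Set.range (dl e W x hx)) = ⊤ := by
  obtain ⟨f, hf, hf'⟩ := isBaseChange_dl e hW x hx
  letI : Algebra Γ(X, W) (Z.presheaf.stalk x) :=
      ((e.stalkMap x).hom.comp (X.presheaf.germ W (e.base x) hx).hom).toAlgebra
  letI : Module Γ(X, W) ((Omega.conormal e).presheaf.stalk x) :=
      Module.compHom _ ((e.stalkMap x).hom.comp (X.presheaf.germ W (e.base x) hx).hom)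
  haveI : IsScalarTower Γ(X, W) (Z.presheaf.stalk x) ((Omega.conormal e).presheaf.stalk x) :=
      ⟨fun a b c => by rw [Algebra.smul_def, mul_smul]; rfl⟩
  rw [eq_top_iff]
  rintro y -
  refine hf'.inductionOn y (motive := fun y => y ∈ Submodule.span (Z.presheaf.stalk x)
    (Set.range (dl e W x hx))) (Submodule.zero_mem _) ?_
    (fun a b hb => Submodule.smul_mem _ a hb) (fun a b ha hb => Submodule.add_mem _ ha hb)
  intro z
  rw [hf]
  exact Submodule.subset_span ⟨z, rfl⟩

theorem exists_lift_dl {W : X.Opens} (hW : IsAffineOpen W) (x : Z) (hx : x ∈ e ⁻¹ᵁ W) {N : Type*}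
    [AddCommGroup N] [Module (Z.presheaf.stalk x) N] (ψ : Sec (ClSub.idealMod e.ker) W →+ N)
    (hψ : ∀ (r : Γ(X, W)) (c : Sec (ClSub.idealMod e.ker) W), ψ (r • c) = gerO x hx (e.app W r) • ψ c) :
    ∃ φ : (Omega.conormal e).presheaf.stalk x →ₗ[Z.presheaf.stalk x] N, ∀ c, φ (dl e W x hx c) = ψ c := by
  obtain ⟨f, hf, hf'⟩ := isBaseChange_dl e hW x hx
  letI : Algebra Γ(X, W) (Z.presheaf.stalk x) :=
      ((e.stalkMap x).hom.comp (X.presheaf.germ W (e.base x) hx).hom).toAlgebra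
  letI : Module Γ(X, W) ((Omega.conormal e).presheaf.stalk x) :=
      Module.compHom _ ((e.stalkMap x).hom.comp (X.presheaf.germ W (e.base x) hx).hom)
  haveI : IsScalarTower Γ(X, W) (Z.presheaf.stalk x) ((Omega.conormal e).presheaf.stalk x) :=
      ⟨fun a b c => by rw [Algebra.smul_def, mul_smul]; rfl⟩
  letI : Module Γ(X, W) N :=
      Module.compHom _ ((e.stalkMap x).hom.comp (X.presheaf.germ W (e.base x) hx).hom)
  haveI : IsScalarTower Γ(X, W) (Z.presheaf.stalk x) N :=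
      ⟨fun a b c => by rw [Algebra.smul_def, mul_smul]; rfl⟩
  let ψ' : Sec (ClSub.idealMod e.ker) W →ₗ[Γ(X, W)] N :=
    { toFun := ψ
      map_add' := map_add ψ
      map_smul' := fun r c => by
        rw [hψ, ← stalkMap_germ_eq]
        rfl }
  refine ⟨hf'.lift ψ', fun c => ?_⟩
  rw [← hf, IsBaseChange.lift_eq]
  rfl

end Groth.Agent.CanPar.K795.ConLin
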