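import Mathlib.RingTheory.Valuation.LocalSubring

/-!
# Valuation rings of an extension dominating a valuation ring
-/

set_option autoImplicit false

namespace Groth.Agent.CanPar.K795.DomVal

/-- a valuation ring of an extension field contracting to a given valuation ring -/
theorem exists_dom {A K L : Type*} [CommRing A] [IsDomain A] [ValuationRing A] [Field K] [Algebra A K]
    [IsFractionRing A K] [Field L] [Algebra K L] : ∃ O : ValuationSubring L, ∀ a : K,
      algebraMap K L a ∈ O ↔ a ∈ Set.range (algebraMap A K) := by
  have : IsLocalRing A := inferInstance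
  let f : A →+* L := (algebraMap K L).comp (algebraMap A K)
  obtain ⟨O, hO⟩ := (LocalSubring.range f).exists_le_valuationSubring
  have hf : Function.Injective f := (algebraMap K L).injective.comp (IsFractionRing.injective A K)
  have hmem : ∀ r : A, f r ∈ O := fun r => hO.1 ⟨r, rfl⟩
  refine ⟨O, fun a => ⟨fun ha => ?_, ?_⟩⟩
  · rcases ValuationRing.isInteger_or_isInteger A a with h | ⟨r, hr⟩
    · exact h
    · by_cases ha0 : a = 0
      · exact ⟨0, by rw [ha0, map_zero]⟩
      -- `r` is a unit of `O`, hence of `A`
      have hfr : f r = (algebraMap K L a)⁻¹ := by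
        change algebraMap K L (algebraMap A K r) = _
        rw [hr, map_inv₀]
      have h1 : IsUnit (⟨f r, hmem r⟩ : O) := by
        have ha0' : algebraMap K L a ≠ 0 := by
          rw [Ne, map_eq_zero]
          exact ha0
        refine IsUnit.of_mul_eq_one ⟨algebraMap K L a, ha⟩ ?_
        apply Subtype.ext
        change f r * algebraMap K L a = 1
        rw [hfr, inv_mul_cancel₀ ha0']
      obtain ⟨hle, hloc⟩ := hO
      let r' : (LocalSubring.range f).toSubring := ⟨f r, ⟨r, rfl⟩⟩
      have h2 : IsUnit r' := hloc.map_nonunit r' h1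
      have h3 : IsUnit r := by
        obtain ⟨s, hs⟩ := h2.exists_right_inv
        obtain ⟨s', hs'⟩ := s.2
        refine IsUnit.of_mul_eq_one s' (hf ?_)
        rw [map_mul, map_one]
        have h4 := congrArg Subtype.val hs
        change f r * (s : L) = 1 at h4
        rw [hs']
        exact h4
      obtain ⟨u, rfl⟩ := h3
      refine ⟨((u⁻¹ : Aˣ) : A), ?_⟩
      have h5 : algebraMap A K (u : A) * algebraMap A K ((u⁻¹ : Aˣ) : A) = 1 := by
        rw [← map_mul, Units.mul_inv, map_one]
      rw [hr] at h5
      field_simp at h5
      exact h5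
  · rintro ⟨r, rfl⟩
    exact hmem r

end Groth.Agent.CanPar.K795.DomVal
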