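import Groth.Agent.CanPar.K795.DictP
import Groth.Agent.CanPar.K795.DomVal
import Groth.Agent.CanPar.K204.Num
import Groth.Agent.CanPar.K112.InnerPt
import Groth.Agent.CanPar.K544.ModelEx
import Groth.Agent.Krr.H495.Rank
import Groth.Agent.VarietyB.DegPhi

/-!
# The central estimate

`core : Core`.
-/

set_option autoImplicit false
set_option linter.unusedSectionVars false
set_option linter.style.haveILetI false
universe u

open CategoryTheory CategoryTheory.Limits MonoidalCategory CartesianMonoidalCategory MonObj GrpObj AlgebraicGeometry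

namespace Groth.Agent.CanPar.K795.PtFun

open Groth.Agent.CanPar.K795.Iface Groth.Agent.CanPar.K795.TanDict Groth.Agent.CanPar.K795.TanPt
open Groth.Agent.CanPar.K795.AdMat
open Groth.Agent.Sga3B Groth.Agent.Sga3B.Cell K929.LieDict Groth.Agent.Sga3B.Parab

/-- transport of the comparison isomorphism along an equality of base morphisms -/
theorem exists_bc_congr {S X : Scheme.{u}} {s s' : X ⟶ S} (h : s = s') {G₀ : Over S} [GrpObj G₀] {H : Over X}
    [GrpObj H] (e : Red.bc s G₀ ≅ H) (he : IsMonHom e.hom) : ∃ (e' : Red.bc s' G₀ ≅ H) (_ : IsMonHom e'.hom),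
      ∀ {T : Scheme.{u}} (t : T ⟶ X) (σ : T ⟶ S) (hσ : σ = t ≫ s) (hσ' : σ = t ≫ s') (v : Over.mk σ ⟶ G₀),
        bcPt s' G₀ t σ hσ' v ≫ e'.hom = bcPt s G₀ t σ hσ v ≫ e.hom := by
  subst h
  exact ⟨e, he, fun _ _ _ _ _ => rfl⟩

section rootSum

variable {idx M : Type} [Fintype idx] [AddCommGroup M] [Module.Free ℤ M]
    [Module.Finite ℤ M] (R : RootPairing idx ℤ M (Module.Dual ℤ M)) 

theorem sum_wt (x : M →+ ℤ) :
    ∑ j ∈ (Finset.univ.filter fun j : J idx M => 0 ≤ x (wt R j)), wt R j = rootSum R x := by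
  classical
  rw [Finset.sum_filter, Fintype.sum_sum_type]
  have h1 : ∑ f : Fin (Module.finrank ℤ M), (if 0 ≤ x (wt R (Sum.inr f)) then wt R (Sum.inr f) else 0) = 0 := by
    apply Finset.sum_eq_zero
    intro f _
    change (if _ then (0 : M) else 0) = 0
    rw [ite_self]
  rw [h1, add_zero, rootSum, Finset.sum_filter]
  apply Finset.sum_congr rfl
  intro a _
  change (if 0 ≤ x (R.root a) then R.root a else 0) = _
  congr

end rootSum

section local_z

variable {Z : Scheme.{u}} {y : Z} {k A : Type u} [Field k] [CommRing A] [Algebra k A] [PtGrp k A]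
  [Algebra k (Z.presheaf.stalk y)]
  (a : Z ⟶ Spec (CommRingCat.of k))
  (hc : Spec.map (CommRingCat.ofHom (algebraMap k (Z.presheaf.stalk y))) = fs y ≫ a)
  {G₀ : Over (Spec (CommRingCat.of k))} [GrpObj G₀] {G : Over Z} [GrpObj G]
  (f : Red.bc (fs y ≫ a) G₀ ≅ Red.bc (fs y) G) (hf : IsMonHom f.hom)
  (pts : ∀ (B : Type u) [CommRing B] [Algebra k B],
    Pt k A B ≃* (Over.mk (Spec.map (CommRingCat.ofHom (algebraMap k B))) ⟶ G₀))
  (hnat : ∀ {B C : Type u} [CommRing B] [Algebra k B] [CommRing C] [Algebra k C] (φ : B →ₐ[k] C)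
    (hφ : Spec.map (CommRingCat.ofHom (φ : B →+* C)) ≫ Spec.map (CommRingCat.ofHom (algebraMap k B)) =
      Spec.map (CommRingCat.ofHom (algebraMap k C))) (g : Pt k A B),
    (Over.homMk (Spec.map (CommRingCat.ofHom (φ : B →+* C))) hφ :
      Over.mk (Spec.map (CommRingCat.ofHom (algebraMap k C))) ⟶
        Over.mk (Spec.map (CommRingCat.ofHom (algebraMap k B)))) ≫ pts B g = pts C (Pt.map φ g))
  {idx M : Type} [Fintype idx] [AddCommGroup M] [Module.Free ℤ M]
    [Module.Finite ℤ M] {R : RootPairing idx ℤ M (Module.Dual ℤ M)} {b : R.Base} {E : PinCell R b k A}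
    [DecidableEq (J idx M)] {d : J idx M → A} (hd : DualSys E d)
  {z : Z} (hyz : y ⤳ z) (L : Type u) [Field L] [IsAlgClosed L] [Algebra k L] [Algebra (Z.presheaf.stalk y) L]
  [IsScalarTower k (Z.presheaf.stalk y) L] (O : ValuationSubring L)
  (hO : ∀ r : Z.presheaf.stalk z, algebraMap (Z.presheaf.stalk y) L (Z.presheaf.stalkSpecializes hyz r) ∈ O)
  (hin : ∀ (o : Spec (CommRingCat.of O) ⟶ Z)
    (_ : Spec.map (CommRingCat.ofHom (algebraMap (Z.presheaf.stalk y) L)) ≫ fs y = genO O ≫ o),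
    ∃ (g : Red.bc (o ≫ a) G₀ ≅ Red.bc o G) (hg : IsMonHom g.hom)
      (h : Over.mk (Spec.map (CommRingCat.ofHom (algebraMap (Z.presheaf.stalk y) L)) ≫ fs y ≫ a) ⟶ G₀),
      ∀ (T : Scheme.{u}) (t : T ⟶ Spec (CommRingCat.of L)) (z' : T ⟶ Z) (s : T ⟶ Spec (CommRingCat.of k))
        (hz : z' = (t ≫ Spec.map (CommRingCat.ofHom (algebraMap (Z.presheaf.stalk y) L))) ≫ fs y)
        (hz' : z' = (t ≫ genO O) ≫ o) (hs : s = z' ≫ a)
        (hs' : t ≫ Spec.map (CommRingCat.ofHom (algebraMap (Z.presheaf.stalk y) L)) ≫ fs y ≫ a = s)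
        (v : Over.mk s ⟶ G₀),
        tr f hf (t ≫ Spec.map (CommRingCat.ofHom (algebraMap (Z.presheaf.stalk y) L))) z' s hz hs v =
          tr g hg (t ≫ genO O) z' s hz' hs
            (((Over.homMk t hs' : Over.mk s ⟶ Over.mk (Spec.map (CommRingCat.ofHom
              (algebraMap (Z.presheaf.stalk y) L)) ≫ fs y ≫ a)) ≫ h) * v *
            ((Over.homMk t hs' : Over.mk s ⟶ Over.mk (Spec.map (CommRingCat.ofHom
              (algebraMap (Z.presheaf.stalk y) L)) ≫ fs y ≫ a)) ≫ h)⁻¹))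

include hnat hd hO hin in
theorem local_z : ∃ (q : Matrix (J idx M) (J idx M) L) (χ : Multiplicative M →* Lˣ),
    (∀ (I : Type) [Fintype I] [DecidableEq I] (s : I → J idx M), Function.Injective s →
      (q.submatrix s s).det = ∏ j, (χ (Multiplicative.ofAdd (wt R (s j))) : L)) ∧
    (∀ x : M →+ ℤ, (∀ r, b.IsPos r → 0 ≤ x (R.root r)) → ∀ i j, x (wt R i) < x (wt R j) → q i j = 0) ∧
    ∀ (P : Over Z) [GrpObj P] (i : P ⟶ G) [IsMonHom i] [IsClosedImmersion i.left] [IsAffineHom P.hom]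
      (I : Finset (J idx M))
      (β : Module.Basis I (Z.presheaf.stalk y) ((Omega.conormal (K795.OmegaGrp.un P)).presheaf.stalk y))
      (_ : ∀ (c : I → L), Ph (K795.OmegaGrp.un P) (Fy a hc f hf pts) i.left (mkL E (ex I c))
        (fl (fun j => β.coord j) c)) (c : I → L),
      (∀ m : (Omega.conormal (K795.OmegaGrp.un P)).presheaf.stalk z, (∑ j, algebraMap (Z.presheaf.stalk y) L
        (β.repr ((Omega.conormal (K795.OmegaGrp.un P)).presheaf.stalkSpecializes hyz m) j) * c j) ∈ O) ↔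
      ∀ r : J idx M, (∑ j : I, q r j * c j) ∈ O := by
  letI : Algebra (Z.presheaf.stalk z) O :=
    (RingHom.codRestrict ((algebraMap (Z.presheaf.stalk y) L).comp (Z.presheaf.stalkSpecializes hyz).hom)
      O hO).toAlgebra
  letI : Algebra (Z.presheaf.stalk z) L :=
    ((algebraMap (Z.presheaf.stalk y) L).comp (Z.presheaf.stalkSpecializes hyz).hom).toAlgebra
  let κ : k →+* Z.presheaf.stalk z := (Spec.preimage (fs z ≫ a)).hom
  have hκ : Spec.map (CommRingCat.ofHom κ) = fs z ≫ a := Spec.map_preimage (fs z ≫ a)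
  have hκ' : ∀ r : k, algebraMap k (Z.presheaf.stalk y) r = Z.presheaf.stalkSpecializes hyz (κ r) := by
    have h1 : CommRingCat.ofHom κ ≫ (Z.presheaf.stalkSpecializes hyz : _ ⟶ CommRingCat.of (Z.presheaf.stalk y)) =
        CommRingCat.ofHom (algebraMap k (Z.presheaf.stalk y)) := by
      apply Spec.map_injective
      refine (Spec.map_comp _ _).trans ?_
      rw [hκ, hc]
      exact congrArg (fun q => q ≫ a) (Scheme.SpecMap_stalkSpecializes_fromSpecStalk hyz)
    intro r
    exact congr($(h1) r).symm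
  letI : Algebra k O := ((algebraMap (Z.presheaf.stalk z) O).comp κ).toAlgebra
  haveI : IsScalarTower k O L := by
    apply IsScalarTower.of_algebraMap_eq
    intro r
    rw [IsScalarTower.algebraMap_apply k (Z.presheaf.stalk y) L, hκ']
    rfl
  haveI : IsScalarTower (Z.presheaf.stalk z) O L := IsScalarTower.of_algebraMap_eq fun _ => rfl
  have hL : SpeCompat hyz L := fun _ => rfl
  have hcO : Spec.map (CommRingCat.ofHom (algebraMap k O)) = ptS z O ≫ a := by
    have h1 : Spec.map (CommRingCat.ofHom (algebraMap k O)) =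
        Spec.map (CommRingCat.ofHom (algebraMap (Z.presheaf.stalk z) O)) ≫ Spec.map (CommRingCat.ofHom κ) := by
      rw [← Spec.map_comp, ← CommRingCat.ofHom_comp]
    rw [h1, hκ, ptS, Category.assoc]
  obtain ⟨g, hg, h, hin'⟩ := hin (ptS z O) (compat_pt hL)
  obtain ⟨h₀, hh₀⟩ := exists_hL a hc f hf pts hnat hL hcO g hg h hin'
  exact local_at a hc f hf pts hnat hd hL hcO g hg h₀ hh₀

end local_z

/-- **Central estimate** -/
theorem core_of (hNum : Groth.Agent.CanPar.K795.Iface.Num.{u}) (hIn : InnerPt.{u}) (hM : ModelEx.{u}) : Core.{u} := by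
  intro k _ Z _ _ _ hdim hval G _ hG D b
  classical
  let a : Z ⟶ Spec (CommRingCat.of k) := Z ↘ Spec (CommRingCat.of k)
  letI algK : Algebra k (Z.presheaf.stalk (genericPoint Z)) := (Spec.preimage (gen Z ≫ a)).hom.toAlgebra
  have hc : Spec.map (CommRingCat.ofHom (algebraMap k (Z.presheaf.stalk (genericPoint Z)))) = gen Z ≫ a :=
    Spec.map_preimage (gen Z ≫ a)
  obtain ⟨m⟩ := hM k (Z.presheaf.stalk (genericPoint Z)) (Red.bc (gen Z) G) D b
  obtain ⟨f, hf, hff⟩ := exists_bc_congr hc m.f m.isMonHom_f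
  obtain ⟨d, hd⟩ := exists_dualSys m.E
  let L := AlgebraicClosure (Z.presheaf.stalk (genericPoint Z))
  have hloc : ∀ z : Z, ∃ (O : ValuationSubring L) (q : Matrix (J m.idx m.M) (J m.idx m.M) L)
      (χ : Multiplicative m.M →* Lˣ),
      (∀ r : Z.presheaf.stalk (genericPoint Z), algebraMap (Z.presheaf.stalk (genericPoint Z)) L r ∈ O ↔
        r ∈ Set.range (Z.presheaf.stalkSpecializes (genericPoint_specializes z))) ∧
      (∀ (I : Type) [Fintype I] [DecidableEq I] (s : I → J m.idx m.M), Function.Injective s →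
        (q.submatrix s s).det = ∏ j, (χ (Multiplicative.ofAdd (wt m.P (s j))) : L)) ∧
      (∀ x : m.M →+ ℤ, (∀ r, m.base.IsPos r → 0 ≤ x (m.P.root r)) → ∀ i j, x (wt m.P i) < x (wt m.P j) →
        q i j = 0) ∧
      ∀ (P : Over Z) [GrpObj P] (i : P ⟶ G) [IsMonHom i] [IsClosedImmersion i.left] [IsAffineHom P.hom]
        (I : Finset (J m.idx m.M))
        (β : Module.Basis I (Z.presheaf.stalk (genericPoint Z))
          ((Omega.conormal (K795.OmegaGrp.un P)).presheaf.stalk (genericPoint Z)))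
        (_ : ∀ (c : I → L), Ph (K795.OmegaGrp.un P) (Fy a hc f hf m.pts) i.left (mkL m.E (ex I c))
          (fl (fun j => β.coord j) c)) (c : I → L),
        (∀ t : (Omega.conormal (K795.OmegaGrp.un P)).presheaf.stalk z,
          (∑ j, algebraMap (Z.presheaf.stalk (genericPoint Z)) L
          (β.repr ((Omega.conormal (K795.OmegaGrp.un P)).presheaf.stalkSpecializes (genericPoint_specializes z) t) j) *
            c j) ∈ O) ↔
        ∀ r : J m.idx m.M, (∑ j : I, q r j * c j) ∈ O := by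
    intro z
    have := hval z
    obtain ⟨O, hO⟩ := DomVal.exists_dom (A := Z.presheaf.stalk z) (K := Z.functionField) (L := L)
    obtain ⟨q, χ, h1, h2, h3⟩ := local_z a hc f hf m.pts m.pts_nat hd (genericPoint_specializes z) L O
      (fun r => (hO _).2 ⟨r, rfl⟩) (fun o ho => hIn (Spec (CommRingCat.of k)) Z a m.G₀ G m.red₀ hG f hf L O o _ ho)
    exact ⟨O, q, χ, hO, h1, h2, h3⟩
  choose O q χ hO hmin hzero hlat using hloc
  have hbasis : ∀ (P : Over Z) [GrpObj P] (i : P ⟶ G) [IsMonHom i] [IsClosedImmersion i.left] [IsAffineHom P.hom]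
      (n : ℕ) (_ : FlatMod.IsFinLocFreeOfRank n (Omega.conormal (K795.OmegaGrp.un P))) (I : Finset (J m.idx m.M))
      (_ : ∀ {C : Type u} [CommRing C] [Algebra k C] [Algebra (Z.presheaf.stalk (genericPoint Z)) C]
        [IsScalarTower k (Z.presheaf.stalk (genericPoint Z)) C] (c : J m.idx m.M → C),
        (∃ w, w ≫ i.left = Fy a hc f hf m.pts (TrivSqZeroExt C C) (mkL m.E c)) ↔ ∀ j, j ∉ I → c j = 0),
      ∃ β : Module.Basis I (Z.presheaf.stalk (genericPoint Z))
          ((Omega.conormal (K795.OmegaGrp.un P)).presheaf.stalk (genericPoint Z)),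
        ∀ (z : Z) (c : I → L),
        (∀ t : (Omega.conormal (K795.OmegaGrp.un P)).presheaf.stalk z,
          (∑ j, algebraMap (Z.presheaf.stalk (genericPoint Z)) L
          (β.repr ((Omega.conormal (K795.OmegaGrp.un P)).presheaf.stalkSpecializes (genericPoint_specializes z) t) j) *
            c j) ∈ O z) ↔
        ∀ r : J m.idx m.M, (∑ j : I, q z r j * c j) ∈ O z := by
    intro P _ i _ _ _ n hn I hI
    obtain ⟨β, hβ⟩ := exists_basis_P a hc f hf m.pts (E := m.E) m.pts_nat i hn I hI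
    exact ⟨β, fun z c => hlat z P i I β (fun c => hβ c) c⟩
  -- the group itself
  have haff : IsAffineHom G.hom := hG.1
  have hsmG : Smooth G.hom := hG.2.1
  have hcl1 : IsClosedImmersion (𝟙 G : G ⟶ G).left := inferInstanceAs (IsClosedImmersion (𝟙 G.left))
  have hE₀ : ∃ (E₀ : Z.Modules) (m₀ : ℕ) (_ : FlatMod.IsFinLocFreeOfRank m₀ E₀)
      (β₀ : Module.Basis (J m.idx m.M) (Z.presheaf.stalk (genericPoint Z)) (E₀.presheaf.stalk (genericPoint Z))),
      ∀ z, z ≠ genericPoint Z → ∀ c : J m.idx m.M → L,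
        (∀ t : E₀.presheaf.stalk z, ∑ j, algebraMap (Z.presheaf.stalk (genericPoint Z)) L
          (β₀.repr (spe E₀ z t) j) * c j ∈ O z) ↔ ∀ i, ∑ j, q z i j * c j ∈ O z := by
    obtain ⟨n, hn⟩ := Groth.Agent.Krr.H495.Rank.exists_rank_of_connected (K795.OmegaGrp.isFinLocFree_omega G)
    have hn' : FlatMod.IsFinLocFreeOfRank n (Omega.conormal (K795.OmegaGrp.un G)) :=
      Groth.Agent.Krr.H495.Rank.rank_iso (K795.OmegaGrp.omegaIso G) hn
    obtain ⟨β, hβ⟩ := hbasis G (𝟙 G) n hn' Finset.univ (fun {C} _ _ _ _ c => by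
      constructor
      · intro _ j hj
        exact absurd (Finset.mem_univ j) hj
      · intro _
        exact ⟨Fy a hc f hf m.pts (TrivSqZeroExt C C) (mkL m.E c), Category.comp_id _⟩)
    let e : (Finset.univ : Finset (J m.idx m.M)) ≃ J m.idx m.M := Equiv.subtypeUnivEquiv Finset.mem_univ
    refine ⟨Omega.conormal (K795.OmegaGrp.un G), n, hn', β.reindex e, fun z _ c => ?_⟩
    have h1 := hβ z (fun j => c j)
    have h2 : ∀ r, ∑ j, q z r j * c j = ∑ j : (Finset.univ : Finset (J m.idx m.M)), q z r j * c j := by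
      intro r
      exact (Equiv.sum_comp e (fun j => q z r j * c j)).symm
    have h3 : ∀ t, ∑ j, algebraMap (Z.presheaf.stalk (genericPoint Z)) L
          ((β.reindex e).repr (spe (Omega.conormal (K795.OmegaGrp.un G)) z t) j) * c j =
        ∑ j : (Finset.univ : Finset (J m.idx m.M)), algebraMap (Z.presheaf.stalk (genericPoint Z)) L
          (β.repr ((Omega.conormal (K795.OmegaGrp.un G)).presheaf.stalkSpecializes (genericPoint_specializes z) t) j) *
            c j := by
      intro t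
      rw [← Equiv.sum_comp e]
      apply Finset.sum_congr rfl
      intro j _
      rw [Module.Basis.repr_reindex_apply, Equiv.symm_apply_apply]
      rfl
    constructor
    · intro h r
      rw [h2]
      exact h1.1 (fun t => by rw [← h3]; exact h t) r
    · intro h t
      rw [h3]
      exact h1.2 (fun r => by rw [← h2]; exact h r) t
  obtain ⟨d₀, hd₀⟩ := hNum k Z hdim hval L O (fun z _ => hO z) (J m.idx m.M) m.M (wt m.P) χ q hmin hE₀
  refine ⟨d₀.comp (m.e.symm : D.M →+ m.M), ?_⟩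
  intro x P _ i hi hcl hsm hdyn n hn
  have haffP : IsAffineHom P.hom := by
    rw [← Over.w i]
    infer_instance
  let x₀ : m.M →+ ℤ := x.comp (m.e : m.M →+ D.M)
  have hn' : FlatMod.IsFinLocFreeOfRank n (Omega.conormal (K795.OmegaGrp.un P)) :=
    Groth.Agent.Krr.H495.Rank.rank_iso (K795.OmegaGrp.omegaIso P) hn
  have hlim : ∀ (B : Type u) [CommRing B] [Algebra k B] [Algebra (Z.presheaf.stalk (genericPoint Z)) B]
      [IsScalarTower k (Z.presheaf.stalk (genericPoint Z)) B] (v : Pt k m.A B),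
      LimEx (Par.coch D x.toIntLinearMap) (C := B)
        (c := Spec.map (CommRingCat.ofHom (algebraMap (Z.presheaf.stalk (genericPoint Z)) B)))
        (gv a hc f m.pts v) ↔ LimP m.E x₀ v := by
    intro B _ _ _ _ v
    have h1 : gv a hc f m.pts v = bcPt (Spec.map (CommRingCat.ofHom
        (algebraMap k (Z.presheaf.stalk (genericPoint Z))))) m.G₀
        (Spec.map (CommRingCat.ofHom (algebraMap (Z.presheaf.stalk (genericPoint Z)) B)))
        (Spec.map (CommRingCat.ofHom (algebraMap k B))) (by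
          rw [← Spec.map_comp, ← CommRingCat.ofHom_comp, ← IsScalarTower.algebraMap_eq]) (m.pts B v) ≫ m.f.hom :=
      hff _ _ _ _ _
    rw [h1]
    exact m.lim x B _ v
  obtain ⟨β, hβ⟩ := hbasis P i n hn' (Finset.univ.filter fun j => 0 ≤ x₀ (wt m.P j))
    (fun {C} _ _ _ _ c => factor_mkL a hc f hf m.pts hd (Par.coch D x.toIntLinearMap) x₀ hlim i hdyn c)
  obtain ⟨h1, h2⟩ := hd₀ _ n _ hn' β (fun z _ c => hβ z c)
  have hdeg : Curv2.deg k Z (LieS.omega P) n = Curv2.deg k Z (Omega.conormal (K795.OmegaGrp.un P)) n := by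
    rw [Curv2.deg, Curv2.deg, Groth.Agent.VarietyB.DegPhi.euler_congr k (K795.OmegaGrp.omegaIso P)]
  have hsum : (d₀.comp (m.e.symm : D.M →+ m.M)) (rootSum D.P x) =
      d₀ (∑ j ∈ (Finset.univ.filter fun j => 0 ≤ x₀ (wt m.P j)), wt m.P j) := by
    rw [sum_wt, ← m.rootSum_e]
    change d₀ (m.e.symm (m.e _)) = _
    rw [AddEquiv.symm_apply_apply]
  rw [hdeg, hsum]
  refine ⟨h1, fun hx => h2 fun z i hi j hj => hzero z x₀ (m.pos_e x hx) i j ?_⟩
  rw [Finset.mem_filter] at hi hj
  have h3 : ¬ 0 ≤ x₀ (wt m.P i) := fun h => hi ⟨Finset.mem_univ _, h⟩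
  exact lt_of_lt_of_le (not_le.1 h3) hj.2

/-- **Central estimate** -/
theorem core : Core.{u} := core_of K204.Num.num K112.InnerPt.innerPt K544.ModelEx.modelEx

end Groth.Agent.CanPar.K795.PtFun
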