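import Groth.Agent.CanPar.K795.Core
import Groth.Agent.CanPar.K204.Asm

/-!
# `CoreSplit` and `CoreSplitZero`
-/

set_option autoImplicit false
universe u

namespace Groth.Agent.CanPar.K795.CoreFin

/-- **Core, generically split case** -/
theorem coreSplit : Iface.CoreSplit.{u} := K204.Asm.coreSplit PtFun.core

/-- **Degree zero, generically split case** -/
theorem coreSplitZero : Iface.CoreSplitZero.{u} := K204.Asm.coreSplitZero PtFun.core

end Groth.Agent.CanPar.K795.CoreFin
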