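import Groth.Agent.CanPar.K795.LocAt
import Groth.Agent.Sga3B.Parab.Dyn998
import Groth.Agent.Krr.H450.ConormalIso

/-!
# The dictionary for the subgroups attached to cocharacters

`exists_basis_P`: the basis of the stalk of the conormal module of the unit section of `P` for `P_y = P_G(lam)`.
-/

set_option autoImplicit false
set_option linter.unusedSectionVars false
universe u

open CategoryTheory CategoryTheory.Limits MonoidalCategory CartesianMonoidalCategory MonObj GrpObj AlgebraicGeometry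

namespace Groth.Agent.CanPar.K795.PtFun

open Groth.Agent.CanPar.K795.Iface Groth.Agent.CanPar.K795.TanDict Groth.Agent.CanPar.K795.TanPt
open Groth.Agent.CanPar.K795.AdMat Groth.Agent.RedSub.H660.Iwasawa Groth.Agent.Sga3B.Word
open Groth.Agent.Sga3B Groth.Agent.Sga3B.Cell K929.LieDict Groth.Agent.Sga3B.Parab

variable {Z : Scheme.{u}} {y : Z} {k A : Type u} [Field k] [CommRing A] [Algebra k A] [PtGrp k A]
  [Algebra k (Z.presheaf.stalk y)]
  (a : Z ⟶ Spec (CommRingCat.of k))
  (hc : Spec.map (CommRingCat.ofHom (algebraMap k (Z.presheaf.stalk y))) = fs y ≫ a)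
  {G₀ : Over (Spec (CommRingCat.of k))} [GrpObj G₀] {G : Over Z} [GrpObj G]
  (f : Red.bc (fs y ≫ a) G₀ ≅ Red.bc (fs y) G) (hf : IsMonHom f.hom)
  (pts : ∀ (B : Type u) [CommRing B] [Algebra k B],
    Pt k A B ≃* (Over.mk (Spec.map (CommRingCat.ofHom (algebraMap k B))) ⟶ G₀))

section factor

variable {C : Type u} [CommRing C] [Algebra k C] [Algebra (Z.presheaf.stalk y) C]
  [IsScalarTower k (Z.presheaf.stalk y) C]

include hc in
theorem str_y : Spec.map (CommRingCat.ofHom (algebraMap k C)) =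
    Spec.map (CommRingCat.ofHom (algebraMap (Z.presheaf.stalk y) C)) ≫ fs y ≫ a := by
  rw [str_eq (R₁ := Z.presheaf.stalk y) a (fs y) hc C, Category.assoc]

/-- the point of the base change -/
noncomputable def gv (v : Pt k A C) :
    Over.mk (Spec.map (CommRingCat.ofHom (algebraMap (Z.presheaf.stalk y) C))) ⟶ Red.bc (fs y) G :=
  bcPt (fs y ≫ a) G₀ (Spec.map (CommRingCat.ofHom (algebraMap (Z.presheaf.stalk y) C)))
    (Spec.map (CommRingCat.ofHom (algebraMap k C))) (str_y a hc) (pts C v) ≫ f.hom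

theorem gv_fst (v : Pt k A C) : (gv a hc f pts v).left ≫ pullback.fst G.hom (fs y) = Fy a hc f hf pts C v := rfl

variable {P : Over Z} [GrpObj P] (i : P ⟶ G)

theorem factor_iff (v : Pt k A C) : (∃ w, w ≫ i.left = Fy a hc f hf pts C v) ↔
    ∃ w : Over.mk (Spec.map (CommRingCat.ofHom (algebraMap (Z.presheaf.stalk y) C))) ⟶ (Over.pullback (fs y)).obj P,
      w ≫ (Over.pullback (fs y)).map i = gv a hc f pts v := by
  constructor
  · rintro ⟨w, hw⟩
    have h1 : w ≫ P.hom = Spec.map (CommRingCat.ofHom (algebraMap (Z.presheaf.stalk y) C)) ≫ fs y := by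
      rw [← fl'_ov (R₁ := Z.presheaf.stalk y) a (fs y) hc f hf pts v, ← Over.w i, ← Category.assoc, hw]
      rfl
    refine ⟨bcPt (fs y) P (Spec.map (CommRingCat.ofHom (algebraMap (Z.presheaf.stalk y) C))) _ rfl
      (Over.homMk w h1), ?_⟩
    ext1
    refine pullback.hom_ext ?_ ?_
    · refine Eq.trans ?_ ((hw.trans (gv_fst a hc f hf pts v).symm))
      change (pullback.lift w _ _ ≫ pullback.lift (pullback.fst P.hom (fs y) ≫ i.left) (pullback.snd P.hom (fs y)) _) ≫
        pullback.fst G.hom (fs y) = _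
      rw [Category.assoc, pullback.lift_fst, ← Category.assoc]
      exact congrArg (fun q => q ≫ i.left) (pullback.lift_fst _ _ _)
    · refine Eq.trans ?_ (Over.w (gv a hc f pts v)).symm
      change (pullback.lift w _ _ ≫ pullback.lift (pullback.fst P.hom (fs y) ≫ i.left) (pullback.snd P.hom (fs y)) _) ≫
        pullback.snd G.hom (fs y) = _
      rw [Category.assoc, pullback.lift_snd]
      exact pullback.lift_snd _ _ _
  · rintro ⟨w, hw⟩
    refine ⟨w.left ≫ pullback.fst P.hom (fs y), ?_⟩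
    rw [← gv_fst a hc f hf pts v, ← hw]
    change _ = (w.left ≫ pullback.lift (pullback.fst P.hom (fs y) ≫ i.left) (pullback.snd P.hom (fs y)) _) ≫
      pullback.fst G.hom (fs y)
    rw [Category.assoc, Category.assoc, pullback.lift_fst]

end factor

variable {idx M : Type} [Fintype idx] [AddCommGroup M] [Module.Free ℤ M]
    [Module.Finite ℤ M] {R : RootPairing idx ℤ M (Module.Dual ℤ M)} {b : R.Base} {E : PinCell R b k A}
    [DecidableEq (J idx M)] {d : J idx M → A} (hd : DualSys E d)

section hI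

variable (lam : Red.Gm (Spec (CommRingCat.of (Z.presheaf.stalk y))) ⟶ Red.bc (fs y) G) (x : M →+ ℤ)
  (hlim : ∀ (B : Type u) [CommRing B] [Algebra k B] [Algebra (Z.presheaf.stalk y) B]
    [IsScalarTower k (Z.presheaf.stalk y) B] (v : Pt k A B),
    LimEx lam (C := B) (c := Spec.map (CommRingCat.ofHom (algebraMap (Z.presheaf.stalk y) B)))
      (gv a hc f pts v) ↔ LimP E x v)
  {P : Over Z} [GrpObj P] (i : P ⟶ G) (hdyn : IsDynP lam ((Over.pullback (fs y)).map i))

include hd hlim hdyn in
theorem factor_mkL {C : Type u} [CommRing C] [Algebra k C] [Algebra (Z.presheaf.stalk y) C]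
    [IsScalarTower k (Z.presheaf.stalk y) C] (c : J idx M → C) :
    (∃ w, w ≫ i.left = Fy a hc f hf pts (TrivSqZeroExt C C) (mkL E c)) ↔
      ∀ j, j ∉ (Finset.univ.filter fun j => 0 ≤ x (wt R j)) → c j = 0 := by
  rw [factor_iff, hdyn.iff_ptP]
  have h1 := Dyn998.ptP_iff (lam := lam) (C := TrivSqZeroExt C C)
    (c := Spec.map (CommRingCat.ofHom (algebraMap (Z.presheaf.stalk y) (TrivSqZeroExt C C))))
    (g := gv a hc f pts (mkL E c))
  rw [h1, hlim, lim_iff hd x (tfst_mkL E c), co_mkL hd]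
  simp

end hI

section basis

variable (hnat : ∀ {B C : Type u} [CommRing B] [Algebra k B] [CommRing C] [Algebra k C] (φ : B →ₐ[k] C)
    (hφ : Spec.map (CommRingCat.ofHom (φ : B →+* C)) ≫ Spec.map (CommRingCat.ofHom (algebraMap k B)) =
      Spec.map (CommRingCat.ofHom (algebraMap k C))) (g : Pt k A B),
    (Over.homMk (Spec.map (CommRingCat.ofHom (φ : B →+* C))) hφ :
      Over.mk (Spec.map (CommRingCat.ofHom (algebraMap k C))) ⟶
        Over.mk (Spec.map (CommRingCat.ofHom (algebraMap k B)))) ≫ pts B g = pts C (Pt.map φ g))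
  {P : Over Z} [GrpObj P] (i : P ⟶ G) [IsMonHom i] [IsClosedImmersion i.left] [IsAffineHom P.hom]
  {n : ℕ} (hn : FlatMod.IsFinLocFreeOfRank n (Omega.conormal (K795.OmegaGrp.un P)))
  (I : Finset (J idx M))
  (hI : ∀ {C : Type u} [CommRing C] [Algebra k C] [Algebra (Z.presheaf.stalk y) C]
    [IsScalarTower k (Z.presheaf.stalk y) C] (c : J idx M → C),
    (∃ w, w ≫ i.left = Fy a hc f hf pts (TrivSqZeroExt C C) (mkL E c)) ↔ ∀ j, j ∉ I → c j = 0)

include hnat hn hI in
/-- **the dual basis for `P`** -/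
theorem exists_basis_P :
    ∃ β : Module.Basis I (Z.presheaf.stalk y) ((Omega.conormal (K795.OmegaGrp.un P)).presheaf.stalk y),
      ∀ {C : Type u} [CommRing C] [Algebra k C] [Algebra (Z.presheaf.stalk y) C]
        [IsScalarTower k (Z.presheaf.stalk y) C] (c : I → C),
        Ph (K795.OmegaGrp.un P) (Fy a hc f hf pts) i.left (mkL E (ex I c)) (fl (fun j => β.coord j) c) := by
  have hqc : QuasiCompact (K795.OmegaGrp.un P) :=
    Groth.Agent.Grpsch.ConormalIso.quasiCompact_of_section (K795.OmegaGrp.un_hom P)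
  obtain ⟨β₀⟩ := Groth.Agent.Krr.H450.ConormalIso.exists_basis_stalk hn y
  have : Module.Free (Z.presheaf.stalk y) ((Omega.conormal (K795.OmegaGrp.un P)).presheaf.stalk y) :=
    Module.Free.of_basis β₀
  have : Module.Finite (Z.presheaf.stalk y) ((Omega.conormal (K795.OmegaGrp.un P)).presheaf.stalk y) :=
    Module.Finite.of_basis β₀
  exact exists_basis E I (pf a hc f hf pts hnat) (i := i.left) (π := P.hom) (Over.w i)
    (K795.OmegaGrp.un_comp i) (fun v v' h h' => fl'_mul a (fs y) hc f hf pts i v v' h h') hI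
    (K795.OmegaGrp.un_hom P)

end basis

end Groth.Agent.CanPar.K795.PtFun
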