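import Groth.Agent.Models.DVRGeneric
import Mathlib.RingTheory.LocalRing.ResidueField.Ideal
import Mathlib.AlgebraicGeometry.Fiber
import Mathlib.AlgebraicGeometry.Morphisms.Flat

/-!
# The generic fibre over a discrete valuation ring
-/

set_option autoImplicit false
universe u

open CategoryTheory CategoryTheory.Limits AlgebraicGeometry

namespace K795.GenFib

variable (R : Type u) [CommRing R] [IsDomain R] [IsDiscreteValuationRing R]

/-- the generic point of the spectrum of a discrete valuation ring -/
abbrev gpt : Spec (CommRingCat.of R) := (⟨⊥, Ideal.isPrime_bot⟩ : PrimeSpectrum R)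

theorem isOpenImmersion_gpt : IsOpenImmersion ((Spec (CommRingCat.of R)).fromSpecResidueField (gpt R)) := by
  rw [← Scheme.Spec.map_residueFieldIso_inv_eq_fromSpecResidueField]
  have h : IsOpenImmersion (Spec.map (CommRingCat.ofHom (algebraMap R ((⊥ : Ideal R).ResidueField)))) :=
    Groth.Agent.Models.DVRGeneric.isOpenImmersion_generic R _
  have h2 : IsOpenImmersion (Spec.map (CommRingCat.ofHom (algebraMap (CommRingCat.of R)
    (gpt R).asIdeal.ResidueField))) := h
  infer_instance

theorem isOpenImmersion_fiberι {X : Scheme.{u}} (p : X ⟶ Spec (CommRingCat.of R)) :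
    IsOpenImmersion (p.fiberι (gpt R)) := by
  have := isOpenImmersion_gpt R
  exact inferInstanceAs (IsOpenImmersion (pullback.fst p _))

theorem range_fiberι {X : Scheme.{u}} (p : X ⟶ Spec (CommRingCat.of R)) :
    Set.range (p.fiberι (gpt R)) = p ⁻¹' {gpt R} := by
  exact Scheme.Hom.range_fiberι p (gpt R)

end K795.GenFib
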