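import Groth.Prelude.Def_LieS
import Groth.Prelude.Def_Red
import Groth.Agent.Sga3B.BcPts
import Groth.Agent.Grpsch.ShearGrp
import Groth.Agent.Vancyc.H878.RelOmega
import Groth.Agent.Vancyc.H878.OmegaRank
import Groth.Agent.PerfC.PullRestrict

/-!
# The module of invariant differentials `ω_G = e^* Ω_{G/S}` of a group scheme

* `omegaIso`: `ω_G ≅ C_{S/G}` (conormal module of the unit section);
* `omegaBC`: `ω_{G_{S'}} ≅ f^* ω_G`;
* `exists_epi`: a monomorphism of groups `H ⟶ G` induces an epimorphism `ω_G ⟶ ω_H`;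
* `isFinLocFree_omega`, `isQCoh_omega`.
-/

set_option autoImplicit false
universe u

open CategoryTheory CategoryTheory.Limits MonoidalCategory CartesianMonoidalCategory MonObj GrpObj
open AlgebraicGeometry

namespace K795.OmegaGrp

open Groth.Agent.Grpsch.ConormalIso Groth.Agent.Sga3B

variable {S : Scheme.{u}}

/-- the unit section, as a morphism of schemes out of `S` -/
noncomputable abbrev un (G : Over S) [GrpObj G] : S ⟶ G.left := (η[G] : 𝟙_ (Over S) ⟶ G).left

theorem un_hom (G : Over S) [GrpObj G] : un G ≫ G.hom = 𝟙 S := Over.w η[G]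

theorem isQCoh_omega (G : Over S) [GrpObj G] : Coh.IsQCoh (LieS.omega G) :=
  Groth.Agent.VarietyB.PullSec.isQCoh_pullback _ _ (Groth.Agent.Vancyc.H878.OmegaRank.isQCoh_omega _)

/-- `ω_G` is the conormal module of the unit section. -/
noncomputable def omegaIso (G : Over S) [GrpObj G] [QuasiSeparated G.hom] :
    LieS.omega G ≅ Omega.conormal (un G) :=
  haveI := isPreimmersion_of_section (un_hom G)
  haveI := quasiCompact_of_section (un_hom G)
  haveI := isIso_conormalMap_of_section
    (Z := S) (Groth.Agent.Grpsch.ShearGrp.isPullback_diagonal G)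
    (Groth.Agent.Grpsch.ShearGrp.isPullback_sub_fst G) (un_hom G)
  (Scheme.Modules.pullback (un G)).mapIso (asIso (conormalMap (Z := S)
    (Groth.Agent.Grpsch.ShearGrp.isPullback_diagonal G).w)).symm ≪≫
  (Scheme.Modules.pullbackComp (un G) G.hom).app _ ≪≫
  (Scheme.Modules.pullbackCongr (un_hom G)).app _ ≪≫
  (Scheme.Modules.pullbackId S).app _

/-- The unit section of a base change. -/
theorem un_bc {S' : Scheme.{u}} (f : S' ⟶ S) (G : Over S) [GrpObj G] :
    un (Red.bc f G) ≫ pullback.fst G.hom f = f ≫ un G := by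
  have h1 : (1 : 𝟙_ (Over S') ⟶ Red.bc f G) = BcPts.bcEquiv f _ G 1 :=
    (BcPts.bcEquiv_one f).symm
  have h0 : un (Red.bc f G) = (1 : 𝟙_ (Over S') ⟶ Red.bc f G).left :=
    congrArg (fun z => z.left) (MonObj.one_eq_one (M := Red.bc f G))
  rw [h0, h1]
  have h2 : (BcPts.bcEquiv f (𝟙_ (Over S')) G 1).left ≫ pullback.fst G.hom f =
      (1 : (Over.map f).obj (𝟙_ (Over S')) ⟶ G).left := by
    simp only [BcPts.bcEquiv, Over.mapPullbackAdj, Adjunction.mkOfHomEquiv_homEquiv]
    exact pullback.lift_fst _ _ _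
  rw [h2]
  have h3 : (1 : (Over.map f).obj (𝟙_ (Over S')) ⟶ G) =
      (Over.homMk f (by simp) : (Over.map f).obj (𝟙_ (Over S')) ⟶ 𝟙_ (Over S)) ≫ η[G] := by
    rw [MonObj.one_eq_one, MonObj.comp_one]
  rw [h3]
  rfl

/-- The module of invariant differentials commutes with base change. -/
noncomputable def omegaBC {S' : Scheme.{u}} (f : S' ⟶ S) (G : Over S) [GrpObj G] [QuasiSeparated G.hom] :
    LieS.omega (Red.bc f G) ≅ (Scheme.Modules.pullback f).obj (LieS.omega G) :=
  (Scheme.Modules.pullback (un (Red.bc f G))).mapIso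
    (Groth.Agent.Vancyc.H878.RelOmega.omegaBC (IsPullback.of_hasPullback G.hom f)).symm ≪≫
  (Scheme.Modules.pullbackComp (un (Red.bc f G)) (pullback.fst G.hom f)).app _ ≪≫
  (Scheme.Modules.pullbackCongr (un_bc f G)).app _ ≪≫
  ((Scheme.Modules.pullbackComp f (un G)).app _).symm

theorem un_comp {G H : Over S} [GrpObj G] [GrpObj H] (i : H ⟶ G) [IsMonHom i] :
    un H ≫ i.left = un G := by
  rw [← Over.comp_left, IsMonHom.one_hom]

theorem isPullback_un {G H : Over S} [GrpObj G] [GrpObj H] (i : H ⟶ G) [IsMonHom i] [Mono i.left] :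
    IsPullback (un H) (𝟙 S) i.left (un G) := by
  refine ⟨⟨by rw [un_comp, Category.id_comp]⟩, ⟨PullbackCone.IsLimit.mk _ (fun s => s.snd) ?_ ?_ ?_⟩⟩
  · intro s
    rw [← cancel_mono i.left, Category.assoc, un_comp, s.condition]
  · intro s
    exact Category.comp_id _
  · intro s m _ h2
    rw [← h2]
    exact (Category.comp_id _).symm

/-- A monomorphism of groups induces an epimorphism on invariant differentials. -/
theorem exists_epi {G H : Over S} [GrpObj G] [GrpObj H] [QuasiSeparated G.hom] [QuasiSeparated H.hom]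
    (i : H ⟶ G) [IsMonHom i] [Mono i.left] :
    ∃ φ : LieS.omega G ⟶ LieS.omega H, Epi φ := by
  have := isPreimmersion_of_section (un_hom G)
  have := quasiCompact_of_section (un_hom G)
  have := quasiCompact_of_section (un_hom H)
  have := epi_conormalMap (Z := S) (Z' := S) (isPullback_un i)
  let ψ : (Scheme.Modules.pullback (𝟙 S)).obj (Omega.conormal (un G)) ⟶ Omega.conormal (un H) :=
    conormalMap (Z := S) (Z' := S) (isPullback_un i).w
  have hψ : Epi ψ := this
  let a : Omega.conormal (un G) ≅ (Scheme.Modules.pullback (𝟙 S)).obj (Omega.conormal (un G)) :=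
    ((Scheme.Modules.pullbackId S).app _).symm
  exact ⟨(omegaIso G).hom ≫ a.hom ≫ ψ ≫ (omegaIso H).inv, inferInstance⟩

theorem isFinLocFree_omega (G : Over S) [GrpObj G] [Smooth G.hom] [QuasiSeparated G.hom] :
    FlatMod.IsFinLocFree (LieS.omega G) :=
  Groth.Agent.PerfC.PullRestrict.isFinLocFree_pullback _
    (Groth.Agent.Vancyc.H878.OmegaRank.isFinLocFree_omega G.hom)

end K795.OmegaGrp
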