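import Groth.Agent.CanPar.K795.ConComp
import Groth.Agent.CanPar.K795.OmegaGrp
import Groth.Agent.RedSub.H647.SubPt

/-!
# The quotient `f^* ω_G ⟶ ω_H` attached to a subgroup `H` of `G_T`, `f : T ⟶ X`

`ω_G` is written here as the conormal module `cn G` of the unit section.
* `q h`: the quotient map; `epi_q`;
* `exists_q_bc`: compatibility with base change.
-/

set_option autoImplicit false
universe u

open CategoryTheory CategoryTheory.Limits MonoidalCategory CartesianMonoidalCategory MonObj GrpObj
open AlgebraicGeometry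

namespace K795.OmQuot

open Groth.Agent.Grpsch.ConormalIso Groth.Agent.Sga3B K795.OmegaGrp Groth.Agent.RedSub.H647.SubPt

/-- the conormal module of the unit section -/
noncomputable abbrev cn {S : Scheme.{u}} (H : Over S) [GrpObj H] : S.Modules := Omega.conormal (un H)

theorem qc_un {S : Scheme.{u}} (H : Over S) [GrpObj H] [QuasiSeparated H.hom] : QuasiCompact (un H) :=
  quasiCompact_of_section (un_hom H)

theorem preimm_un {S : Scheme.{u}} (H : Over S) [GrpObj H] : IsPreimmersion (un H) :=
  isPreimmersion_of_section (un_hom H)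

theorem conormalMap_congr {Z X Z' X' : Scheme.{u}} {i : Z ⟶ X} {i' : Z' ⟶ X'} {g₁ g₂ : X' ⟶ X} {h₁ h₂ : Z' ⟶ Z}
    (hg : g₁ = g₂) (hh : h₁ = h₂) (w₁ : i' ≫ g₁ = h₁ ≫ i) (w₂ : i' ≫ g₂ = h₂ ≫ i)
    [QuasiCompact i] [QuasiCompact i'] :
    conormalMap w₁ = (Scheme.Modules.pullbackCongr hh).hom.app _ ≫ conormalMap w₂ := by
  subst hg
  subst hh
  simp [Scheme.Modules.pullbackCongr]

/-- comparison of pullbacks along a composite -/
noncomputable def cmp {T T' X : Scheme.{u}} (a : T' ⟶ T) (f : T ⟶ X) (f' : T' ⟶ X) (ha : a ≫ f = f')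
    (M : X.Modules) : (Scheme.Modules.pullback a).obj ((Scheme.Modules.pullback f).obj M) ≅
      (Scheme.Modules.pullback f').obj M :=
  (Scheme.Modules.pullbackComp a f).app M ≪≫ (Scheme.Modules.pullbackCongr ha).app M

theorem cmp_naturality {T T' X : Scheme.{u}} (a : T' ⟶ T) (f : T ⟶ X) (f' : T' ⟶ X) (ha : a ≫ f = f')
    {M N : X.Modules} (r : M ⟶ N) :
    (Scheme.Modules.pullback a).map ((Scheme.Modules.pullback f).map r) ≫ (cmp a f f' ha N).hom =
      (cmp a f f' ha M).hom ≫ (Scheme.Modules.pullback f').map r := by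
  subst ha
  simp only [cmp, Iso.trans_hom, Iso.app_hom, Category.assoc]
  have h1 := (Scheme.Modules.pullbackComp a f).hom.naturality r
  have h2 := (Scheme.Modules.pullbackCongr (rfl : a ≫ f = a ≫ f)).hom.naturality r
  rw [← h2, ← Category.assoc, ← Category.assoc]
  congr 1

variable {X : Scheme.{u}} {G : Over X} [GrpObj G]

/-- the morphism `H ⟶ G` underlying a subgroup of `G_T` -/
noncomputable abbrev phi {T : Scheme.{u}} {f : T ⟶ X} {H : Over T} (h : H ⟶ Red.bc f G) : H.left ⟶ G.left :=
  h.left ≫ pullback.fst G.hom f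

theorem un_phi {T : Scheme.{u}} {f : T ⟶ X} {H : Over T} [GrpObj H] (h : H ⟶ Red.bc f G) [IsMonHom h] :
    un H ≫ phi h = f ≫ un G := by
  rw [phi, ← Category.assoc, un_comp, un_bc]

/-- the quotient of `f^* ω_G` attached to a subgroup of `G_T` -/
noncomputable def q {T : Scheme.{u}} {f : T ⟶ X} {H : Over T} [GrpObj H] [QuasiSeparated G.hom]
    [QuasiSeparated H.hom] (h : H ⟶ Red.bc f G) [IsMonHom h] :
    (Scheme.Modules.pullback f).obj (cn G) ⟶ cn H :=
  haveI := qc_un G
  haveI := qc_un H
  conormalMap (un_phi h)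

theorem isIso_conormalMap_bc {T : Scheme.{u}} (f : T ⟶ X) [QuasiSeparated G.hom] [QuasiCompact (un G)]
    [QuasiCompact (un (Red.bc f G))] :
    IsIso (conormalMap (un_bc f G)) := by
  have := preimm_un G
  have hp : IsPullback (un (Red.bc f G)) f (pullback.fst G.hom f) (un G) := by
    refine ⟨⟨un_bc f G⟩, ⟨PullbackCone.IsLimit.mk _ (fun s => s.fst ≫ pullback.snd G.hom f) ?_ ?_ ?_⟩⟩
    · intro s
      apply pullback.hom_ext
      · rw [Category.assoc, un_bc]
        have h1 := s.condition
        have h2 : s.fst ≫ pullback.snd G.hom f ≫ f = s.snd := by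
          rw [← pullback.condition, ← Category.assoc, h1, Category.assoc, un_hom, Category.comp_id]
        rw [Category.assoc, ← Category.assoc (pullback.snd G.hom f), ← Category.assoc, h2, h1]
      · rw [Category.assoc, Category.assoc]
        exact (congrArg (fun z => s.fst ≫ pullback.snd G.hom f ≫ z) (un_hom (Red.bc f G))).trans
          (by rw [Category.comp_id])
    · intro s
      rw [Category.assoc, ← pullback.condition, ← Category.assoc, s.condition, Category.assoc, un_hom,
        Category.comp_id]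
    · intro s m h1 _
      rw [← h1, Category.assoc]
      exact ((congrArg (m ≫ ·) (un_hom (Red.bc f G))).trans (Category.comp_id _)).symm
  exact isIso_conormalMap_of_section hp (IsPullback.of_hasPullback G.hom f) (un_hom G)

theorem epi_q {T : Scheme.{u}} {f : T ⟶ X} {H : Over T} [GrpObj H] [QuasiSeparated G.hom]
    [QuasiSeparated H.hom] (h : H ⟶ Red.bc f G) [IsMonHom h] [Mono h.left] : Epi (q h) := by
  have := qc_un G
  have := qc_un H
  have hqs : QuasiSeparated (Red.bc f G).hom := by
    change QuasiSeparated (pullback.snd G.hom f)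
    infer_instance
  have := qc_un (Red.bc f G)
  have := preimm_un (Red.bc f G)
  have h1 := isIso_conormalMap_bc (G := G) f
  have h2 := epi_conormalMap (Z := T) (Z' := T) (isPullback_un h)
  have w'' : un H ≫ (h.left ≫ pullback.fst G.hom f) = (𝟙 T ≫ f) ≫ un G := by
    rw [Category.id_comp]
    exact un_phi h
  have h3 := K795.ConComp.conormalMap_comp (un_bc f G) (isPullback_un h).w w''
  have h4 := conormalMap_congr rfl (Category.id_comp f) w'' (un_phi h)
  have h5 : q h = (Scheme.Modules.pullbackCongr (Category.id_comp f)).inv.app _ ≫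
      (Scheme.Modules.pullbackComp (𝟙 T) f).inv.app _ ≫
      (Scheme.Modules.pullback (𝟙 T)).map (conormalMap (un_bc f G)) ≫ conormalMap (isPullback_un h).w := by
    rw [← h3, Iso.inv_hom_id_app_assoc, h4, Iso.inv_hom_id_app_assoc]
    rfl
  rw [h5]
  infer_instance

section BC

variable {T T' : Scheme.{u}} {f : T ⟶ X} {f' : T' ⟶ X} (a : T' ⟶ T) (ha : a ≫ f = f')
  {H : Over T} {H' : Over T'} [GrpObj H] [GrpObj H'] (h : H ⟶ Red.bc f G) (h' : H' ⟶ Red.bc f' G)
  [IsMonHom h] [IsMonHom h'] [Mono h] [Mono h']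
  (pts : ∀ (Z : Scheme.{u}) (y : Z ⟶ T') (g : Z ⟶ G.left), Pt h' y g ↔ Pt h (y ≫ a) g)

include ha pts in
theorem exists_isPullback : ∃ p : H'.left ⟶ H.left, IsPullback p H'.hom H.hom a ∧ p ≫ phi h = phi h' ∧
    un H' ≫ p = a ≫ un H := by
  obtain ⟨p, hp1, hp2⟩ := (pts _ _ _).1 (pt_self h')
  have hw : ∀ {Z : Scheme.{u}} (s : Z ⟶ H.left), (s ≫ h.left) ≫ pullback.snd G.hom f = s ≫ H.hom := by
    intro Z s
    rw [Category.assoc]
    exact congrArg (s ≫ ·) (left_snd h)
  have hw' : ∀ {Z : Scheme.{u}} (s : Z ⟶ H'.left), (s ≫ h'.left) ≫ pullback.snd G.hom f' = s ≫ H'.hom := by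
    intro Z s
    rw [Category.assoc]
    exact congrArg (s ≫ ·) (left_snd h')
  have hml : Mono h.left := inferInstance
  have hml' : Mono h'.left := inferInstance
  refine ⟨p, ⟨⟨hp1⟩, ⟨PullbackCone.IsLimit.mk _
    (fun s => ((pts _ s.snd (s.fst ≫ phi h)).2 ⟨s.fst, s.condition, rfl⟩).choose) ?_ ?_ ?_⟩⟩, hp2, ?_⟩
  · intro s
    have h1 := ((pts _ s.snd (s.fst ≫ phi h)).2 ⟨s.fst, s.condition, rfl⟩).choose_spec
    set z := ((pts _ s.snd (s.fst ≫ phi h)).2 ⟨s.fst, s.condition, rfl⟩).choose
    rw [← cancel_mono h.left]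
    apply pullback.hom_ext
    · rw [Category.assoc, Category.assoc, Category.assoc]
      have h2 : z ≫ p ≫ h.left ≫ pullback.fst G.hom f = z ≫ h'.left ≫ pullback.fst G.hom f' :=
        congrArg (z ≫ ·) hp2
      exact h2.trans h1.2
    · rw [hw, hw, Category.assoc, hp1, ← Category.assoc, h1.1, s.condition]
  · intro s
    exact ((pts _ s.snd (s.fst ≫ phi h)).2 ⟨s.fst, s.condition, rfl⟩).choose_spec.1
  · intro s m m1 m2
    have h1 := ((pts _ s.snd (s.fst ≫ phi h)).2 ⟨s.fst, s.condition, rfl⟩).choose_spec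
    rw [← cancel_mono h'.left]
    apply pullback.hom_ext
    · rw [Category.assoc, Category.assoc]
      refine Eq.trans ?_ h1.2.symm
      rw [← m1, Category.assoc]
      exact congrArg (m ≫ ·) hp2.symm
    · rw [hw', hw', m2, h1.1]
  · rw [← cancel_mono h.left]
    apply pullback.hom_ext
    · have e1 := un_phi h
      have e2 := un_phi h'
      calc ((un H' ≫ p) ≫ h.left) ≫ pullback.fst G.hom f = un H' ≫ p ≫ h.left ≫ pullback.fst G.hom f := by
            simp only [Category.assoc]
        _ = un H' ≫ phi h' := congrArg (un H' ≫ ·) hp2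
        _ = a ≫ f ≫ un G := by rw [e2, ← ha, Category.assoc]
        _ = a ≫ un H ≫ phi h := by rw [e1]
        _ = ((a ≫ un H) ≫ h.left) ≫ pullback.fst G.hom f := by simp only [Category.assoc]
    · rw [hw, hw, Category.assoc, hp1, ← Category.assoc, un_hom, Category.id_comp, Category.assoc, un_hom,
        Category.comp_id]

include ha pts in
/-- The quotient of `ω_G` attached to a subgroup is compatible with base change. -/
theorem exists_q_bc [QuasiSeparated G.hom] [QuasiSeparated H.hom] [QuasiSeparated H'.hom] :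
    ∃ κ : (Scheme.Modules.pullback a).obj (cn H) ≅ cn H',
      (Scheme.Modules.pullback a).map (q h) ≫ κ.hom = (cmp a f f' ha (cn G)).hom ≫ q h' := by
  obtain ⟨p, hp, hph, hpu⟩ := exists_isPullback a ha h h' pts
  have := qc_un G
  have := qc_un H
  have := qc_un H'
  have := preimm_un H
  have hpu' : IsPullback (un H') a p (un H) := by
    refine ⟨⟨hpu⟩, ⟨PullbackCone.IsLimit.mk _ (fun s => s.fst ≫ H'.hom) ?_ ?_ ?_⟩⟩
    · intro s
      apply hp.hom_ext
      · rw [Category.assoc, hpu, Category.assoc, ← Category.assoc H'.hom, ← hp.w, ← Category.assoc,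
          ← Category.assoc, s.condition, Category.assoc, Category.assoc, reassoc_of% (un_hom H)]
      · rw [Category.assoc, un_hom, Category.comp_id]
    · intro s
      rw [Category.assoc, ← hp.w, ← Category.assoc, s.condition, Category.assoc, un_hom, Category.comp_id]
    · intro s m m1 _
      rw [← m1, Category.assoc, un_hom, Category.comp_id]
  have hiso := isIso_conormalMap_of_section hpu' hp (un_hom H)
  have w'' : un H' ≫ (p ≫ phi h) = (a ≫ f) ≫ un G := by
    rw [hph, ha]
    exact un_phi h'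
  have h3 := K795.ConComp.conormalMap_comp (un_phi h) hpu w''
  have h4 := conormalMap_congr hph ha w'' (un_phi h')
  refine ⟨asIso (conormalMap hpu), ?_⟩
  refine (h3.symm.trans ?_)
  rw [h4, cmp, Iso.trans_hom, Category.assoc]
  rfl

end BC

end K795.OmQuot
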