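import Groth.Agent.Krr.H487.LocBasisPull
import Groth.Agent.Fdesc.StalkExt
import Groth.Agent.CanPar.K795.OmQuot

/-!
# Morphisms to locally free modules on integral schemes are determined at the generic point

* `eq_zero_of_generic`: a morphism to a finite locally free module on an integral scheme vanishing at the generic point;
* `eq_zero_of_pullback`: the same after a flat base change hitting the generic point;
* `Kills f h k`: `f^* N ⟶ f^* ω_G ⟶ ω_H` vanishes; `Kills.bc`, `Kills.of_bc`.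
-/

set_option autoImplicit false
universe u

open CategoryTheory CategoryTheory.Limits MonoidalCategory CartesianMonoidalCategory MonObj GrpObj
open AlgebraicGeometry TopologicalSpace

namespace K795.GenZero

open Groth.Agent.Sga67.Sec Groth.Agent.Krr.H487.LocBasisPull Groth.Agent.Sga67.LocBasis
  Groth.Agent.Sga67.LocBasisStalk Groth.Agent.CycB.StalkExact Groth.Agent.Fdesc.PullbackStalk

variable {Y : Scheme.{u}}

/-- sections of a finite locally free module on an integral scheme are determined at the generic point -/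
theorem sec_eq_zero [IsIntegral Y] {E : Y.Modules} (hE : FlatMod.IsFinLocFree E) {U : Y.Opens}
    (hU : genericPoint Y ∈ U) (s : Sec E U) (hs : ger E (genericPoint Y) hU s = 0) : s = 0 := by
  apply eq_of_locally
  intro x hx
  obtain ⟨V, n, hxV, b, hb⟩ := (isFinLocFree_iff E).1 hE x
  have hW : U ⊓ V ≤ V := inf_le_right
  obtain ⟨a, ha⟩ := (hb (U ⊓ V) hW).2 (res E inf_le_left s)
  have hne : genericPoint Y ∈ U ⊓ V :=
    ((genericPoint_spec Y).mem_open_set_iff (U ⊓ V).2).2 ⟨x, trivial, hx, hxV⟩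
  obtain ⟨β, hβ⟩ := exists_stalkBasis hb (genericPoint Y) hne.2
  have h1 : ∑ k, gerO (genericPoint Y) hne (a k) • β k = 0 := by
    have h2 := ger_comb b hW a (genericPoint Y) hne
    rw [ha] at h2
    have h3 : ger E (genericPoint Y) hne (res E inf_le_left s) = 0 := by
      rw [ger_res]
      exact hs
    rw [h3] at h2
    rw [h2]
    refine Finset.sum_congr rfl fun k _ => ?_
    rw [hβ]
  have h2 : ∀ k, gerO (genericPoint Y) hne (a k) = 0 :=
    Fintype.linearIndependent_iff.1 β.linearIndependent _ h1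
  have h3 : a = 0 := by
    funext k
    have h4 := h2 k
    have : Nonempty ↥(U ⊓ V) := ⟨⟨x, hx, hxV⟩⟩
    exact germ_injective_of_isIntegral Y (genericPoint Y) hne (h4.trans (map_zero _).symm)
  refine ⟨U ⊓ V, inf_le_left, ⟨hx, hxV⟩, ?_⟩
  rw [← ha, h3, map_zero, map_zero]

theorem eq_zero_of_generic [IsIntegral Y] {M E : Y.Modules} (hE : FlatMod.IsFinLocFree E) (ψ : M ⟶ E)
    (h : stalkLin ψ (genericPoint Y) = 0) : ψ = 0 := by
  apply Groth.Agent.Sga67.Sec.hom_ext
  intro U s
  rw [appS_zero]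
  by_cases hU : Nonempty U
  · have hne : genericPoint Y ∈ U :=
      ((genericPoint_spec Y).mem_open_set_iff U.2).2 (by
        obtain ⟨x⟩ := hU
        exact ⟨x.1, trivial, x.2⟩)
    refine sec_eq_zero hE hne _ ?_
    have h1 := stalkLin_germ ψ (genericPoint Y) hne s
    rw [h] at h1
    exact h1.symm
  · apply eq_of_locally
    intro x hx
    exact absurd ⟨⟨x, hx⟩⟩ hU

theorem stalkMap_eq_stalkLin {M E : Y.Modules} (ψ : M ⟶ E) (y : Y) (t : M.presheaf.stalk y) :
    Groth.Agent.Fdesc.Skyscraper.stalkMap ψ y t = stalkLin ψ y t :=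
  Groth.Agent.Fdesc.Skyscraper.stalkMap_eq ψ y t

theorem stalkLin_zero (M E : Y.Modules) (y : Y) : stalkLin (0 : M ⟶ E) y = 0 := by
  ext t
  obtain ⟨V, hV, s, rfl⟩ := TopCat.Presheaf.exists_germ_eq _ t
  refine (stalkLin_germ (0 : M ⟶ E) y hV s).trans ?_
  exact map_zero _

theorem stalkLin_eq_zero {Y' : Scheme.{u}} (g : Y' ⟶ Y) [Flat g] {M E : Y.Modules} (ψ : M ⟶ E)
    (h : (Scheme.Modules.pullback g).map ψ = 0) (y' : Y') : stalkLin ψ (g y') = 0 := by
  ext t
  apply Groth.Agent.Fdesc.StalkExt.canAdd_injective g E y'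
  have h1 := stalkMap_pullback_canAdd g ψ y' t
  rw [h, stalkMap_eq_stalkLin, stalkMap_eq_stalkLin, stalkLin_zero] at h1
  refine h1.symm.trans ?_
  rw [LinearMap.zero_apply, LinearMap.zero_apply, map_zero]

theorem eq_zero_of_pullback [IsIntegral Y] {Y' : Scheme.{u}} (g : Y' ⟶ Y) [Flat g]
    (y' : Y') (hy : g y' = genericPoint Y) {M E : Y.Modules} (hE : FlatMod.IsFinLocFree E) (ψ : M ⟶ E)
    (h : (Scheme.Modules.pullback g).map ψ = 0) : ψ = 0 := by
  apply eq_zero_of_generic hE
  rw [← hy]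
  exact stalkLin_eq_zero g ψ h y'

section Kills

open K795.OmQuot K795.OmegaGrp Groth.Agent.RedSub.H647.SubPt

variable {X : Scheme.{u}} {G : Over X} [GrpObj G] [QuasiSeparated G.hom]

/-- the composite `f^* N ⟶ f^* ω_G ⟶ ω_H` vanishes -/
def Kills {T : Scheme.{u}} {f : T ⟶ X} {H : Over T} [GrpObj H] [QuasiSeparated H.hom] (h : H ⟶ Red.bc f G)
    [IsMonHom h] {N : X.Modules} (k : N ⟶ cn G) : Prop :=
  (Scheme.Modules.pullback f).map k ≫ q h = 0

variable {T T' : Scheme.{u}} {f : T ⟶ X} {f' : T' ⟶ X} (a : T' ⟶ T) (ha : a ≫ f = f')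
  {H : Over T} {H' : Over T'} [GrpObj H] [GrpObj H'] (h : H ⟶ Red.bc f G) (h' : H' ⟶ Red.bc f' G)
  [IsMonHom h] [IsMonHom h'] [Mono h] [Mono h'] [QuasiSeparated H.hom] [QuasiSeparated H'.hom]
  (pts : ∀ (Z : Scheme.{u}) (y : Z ⟶ T') (g : Z ⟶ G.left), Pt h' y g ↔ Pt h (y ≫ a) g)
  {N : X.Modules} (k : N ⟶ cn G)

include ha pts

theorem kills_bc_iff : Kills h' k ↔
    (Scheme.Modules.pullback a).map ((Scheme.Modules.pullback f).map k ≫ q h) = 0 := by
  obtain ⟨κ, hκ⟩ := exists_q_bc a ha h h' pts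
  have e : (Scheme.Modules.pullback a).map ((Scheme.Modules.pullback f).map k ≫ q h) ≫ κ.hom =
      (cmp a f f' ha N).hom ≫ ((Scheme.Modules.pullback f').map k ≫ q h') := by
    rw [Functor.map_comp, Category.assoc, hκ, ← Category.assoc, cmp_naturality, Category.assoc]
  constructor
  · intro h1
    rw [Kills] at h1
    rw [h1, comp_zero] at e
    exact (cancel_mono κ.hom).1 (e.trans zero_comp.symm)
  · intro h1
    rw [h1, zero_comp] at e
    exact (cancel_epi (cmp a f f' ha N).hom).1 (e.symm.trans comp_zero.symm)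

theorem kills_bc (h1 : Kills h k) : Kills h' k := by
  rw [kills_bc_iff a ha h h' pts]
  rw [Kills] at h1
  rw [h1]
  exact Functor.map_zero _ _ _

theorem kills_of_bc [IsIntegral T] [Flat a] (t' : T') (ht : a t' = genericPoint T)
    (hE : FlatMod.IsFinLocFree (cn H)) (h1 : Kills h' k) : Kills h k := by
  rw [kills_bc_iff a ha h h' pts] at h1
  exact eq_zero_of_pullback a t' ht hE _ h1

end Kills

end K795.GenZero
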