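import Groth.Agent.CanPar.K795.TanBasis
import Groth.Agent.CycB.ModStalk

/-!
# The lattice of the conormal module at a closed point

`lattice_iff`: for the basis `β` of the generic stalk of the conormal module (functional of `mkL c`: `∑ β.coord j • c j`)
and `z ∈ Z`, `O ⊆ L`: the functional `∑ β.coord j • c j` has values in `O` on the stalk at `z` iff
`adM q • c` has values in `O`, where `h = g₀ q`, `g₀` a point over `O`, `h` the base change point.
-/

set_option autoImplicit false
set_option linter.unusedSectionVars false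
set_option linter.style.haveILetI false
universe u

open CategoryTheory CategoryTheory.Limits AlgebraicGeometry Opposite TopologicalSpace

namespace Groth.Agent.CanPar.K795.TanDict

open Groth.Agent.Sga67.Sec Groth.Agent.Dual.H366.ConSec
open Groth.Agent.CanPar.K795.Iface Groth.Agent.CanPar.K795.ConLin
open Groth.Agent.CanPar.K795.TanPt Groth.Agent.CanPar.K795.AdMat
open Groth.Agent.Sga3B Groth.Agent.Sga3B.Cell K929.LieDict

section spec

variable {Z : Scheme.{u}} {y z : Z} (hyz : y ⤳ z) {L : Type u} [CommRing L]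
  [Algebra (Z.presheaf.stalk y) L] [Algebra (Z.presheaf.stalk z) L]

/-- compatibility of the algebra structures over the local rings -/
def SpeCompat (L : Type u) [CommRing L] [Algebra (Z.presheaf.stalk y) L] [Algebra (Z.presheaf.stalk z) L] : Prop :=
  ∀ a : Z.presheaf.stalk z, algebraMap (Z.presheaf.stalk y) L (Z.presheaf.stalkSpecializes hyz a) =
    algebraMap (Z.presheaf.stalk z) L a

variable {hyz}

theorem ptS_spe (h : SpeCompat hyz L) : ptS z L = ptS y L := by
  have h1 : (CommRingCat.ofHom (algebraMap (Z.presheaf.stalk z) L) : Z.presheaf.stalk z ⟶ CommRingCat.of L) =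
      Z.presheaf.stalkSpecializes hyz ≫
        (CommRingCat.ofHom (algebraMap (Z.presheaf.stalk y) L) : Z.presheaf.stalk y ⟶ CommRingCat.of L) := by
    ext a
    exact (h a).symm
  have h2 : Spec.map (CommRingCat.ofHom (algebraMap (Z.presheaf.stalk z) L)) =
      Spec.map (CommRingCat.ofHom (algebraMap (Z.presheaf.stalk y) L)) ≫
        Spec.map (Z.presheaf.stalkSpecializes hyz) := (congrArg Spec.map h1).trans (Spec.map_comp _ _)
  rw [ptS, h2, Category.assoc, Scheme.SpecMap_stalkSpecializes_fromSpecStalk]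

variable {X : Scheme.{u}} {e : Z ⟶ X} [QuasiCompact e]

theorem spec_dl (W : X.Opens) (hx : z ∈ e ⁻¹ᵁ W) (c : Sec (ClSub.idealMod e.ker) W) :
    (Omega.conormal e).presheaf.stalkSpecializes hyz (dl e W z hx c) =
      dl e W y (hyz.mem_open (e ⁻¹ᵁ W).2 hx) c := by
  rw [dl_apply, dl_apply]
  exact TopCat.Presheaf.germ_stalkSpecializes_apply _ _ _ _

/-- the functional at `z` of a tangent point is the one at the generic point composed with the specialisation -/
theorem exists_isPhi_spe (h : SpeCompat hyz L) {w : Spec (CommRingCat.of (TrivSqZeroExt L L)) ⟶ X}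
    {hz : zr L ≫ w = ptS y L ≫ e}
    {φ : (Omega.conormal e).presheaf.stalk y →ₗ[Z.presheaf.stalk y] L}
    (hφ : IsPhi hz φ) : ∃ (hz' : zr L ≫ w = ptS z L ≫ e)
      (φ' : (Omega.conormal e).presheaf.stalk z →ₗ[Z.presheaf.stalk z] L), IsPhi hz' φ' ∧
        ∀ t, φ' t = φ ((Omega.conormal e).presheaf.stalkSpecializes hyz t) := by
  have hz' : zr L ≫ w = ptS z L ≫ e := by rw [ptS_spe h, hz]
  obtain ⟨φ', hφ'⟩ := exists_phi hz'
  refine ⟨hz', φ', hφ', ?_⟩
  obtain ⟨W, hW, hzW, -⟩ := exists_isAffineOpen_mem_and_subset (x := e z) (U := ⊤) trivial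
  have hzW' : z ∈ e ⁻¹ᵁ W := hzW
  intro t
  have ht : t ∈ Submodule.span (Z.presheaf.stalk z) (Set.range (dl e W z hzW')) := by
    rw [span_dl e hW z hzW']
    trivial
  induction ht using Submodule.span_induction with
  | mem t ht =>
    obtain ⟨c, rfl⟩ := ht
    rw [hφ' W hzW' c, spec_dl, hφ W]
  | zero => rw [map_zero, map_zero, map_zero]
  | add t t' _ _ ih ih' => rw [map_add, map_add, map_add, ih, ih']
  | smul r t _ ih =>
    rw [map_smul, Groth.Agent.CycB.ModStalk.stalkSpecializes_smul, map_smul, ih, Algebra.smul_def, Algebra.smul_def, h]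

end spec

section descent

variable {X Y : Scheme.{u}} {R₀ L : Type u} [CommRing R₀] [CommRing L] [Algebra R₀ L]

/-- a point over `O[ε]` of `Y` which is a point of the closed subscheme `X` over `L[ε]` is a point of `X` -/
theorem exists_factor {D D' : Type u} [CommRing D] [CommRing D'] (i : X ⟶ Y) [IsClosedImmersion i] (ρ : D →+* D')
    (hρ : Function.Injective ρ) {w' : Spec (CommRingCat.of D) ⟶ Y} {w : Spec (CommRingCat.of D') ⟶ X}
    (h : Spec.map (CommRingCat.ofHom ρ) ≫ w' = w ≫ i) : ∃ w'' : Spec (CommRingCat.of D) ⟶ X, w'' ≫ i = w' := by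
  let q := pullback.fst w' i
  have h1 : pullback.lift _ _ h ≫ q = Spec.map (CommRingCat.ofHom ρ) := pullback.lift_fst _ _ _
  have hinj : Function.Injective (Spec.map (CommRingCat.ofHom ρ)).appTop := by
    intro a b hab
    have h2 := Scheme.ΓSpecIso_naturality (CommRingCat.ofHom ρ)
    have h3 := congrArg (Scheme.ΓSpecIso (CommRingCat.of D')).hom hab
    have h4 : ∀ a, ρ ((Scheme.ΓSpecIso (CommRingCat.of D)).hom a) =
      (Scheme.ΓSpecIso (CommRingCat.of D')).hom ((Spec.map (CommRingCat.ofHom ρ)).appTop a) :=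
      fun a => congr($(h2) a).symm
    have h5 : (Scheme.ΓSpecIso (CommRingCat.of D)).hom a = (Scheme.ΓSpecIso (CommRingCat.of D)).hom b := by
      apply hρ
      rw [h4, h4]
      exact h3
    have h6 := congrArg (Scheme.ΓSpecIso (CommRingCat.of D)).inv h5
    have h7 : ∀ a, (Scheme.ΓSpecIso (CommRingCat.of D)).inv ((Scheme.ΓSpecIso (CommRingCat.of D)).hom a) = a :=
      fun a => congr($((Scheme.ΓSpecIso (CommRingCat.of D)).hom_inv_id) a)
    rw [h7, h7] at h6
    exact h6
  have hinj' : Function.Injective q.appTop := by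
    intro a b hab
    apply hinj
    rw [← h1, Scheme.Hom.comp_appTop]
    exact congrArg (pullback.lift _ _ h).appTop hab
  have : IsIso q := IsClosedImmersion.isIso_of_injective_of_isAffine hinj'
  refine ⟨inv q ≫ pullback.snd _ _, ?_⟩
  rw [Category.assoc, ← pullback.condition, IsIso.inv_hom_id_assoc]

end descent

section integral

variable {idx M : Type} [Fintype idx] [AddCommGroup M] [Module.Free ℤ M]
    [Module.Finite ℤ M] {P : RootPairing idx ℤ M (Module.Dual ℤ M)} {b : P.Base}
    {k A : Type u} [Field k] [CommRing A] [Algebra k A] [PtGrp k A] {E : PinCell P b k A}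
    [DecidableEq (J idx M)] {a : J idx M → A} (ha : DualSys E a)
    {R₀ L : Type u} [CommRing R₀] [CommRing L] [Algebra k R₀] [Algebra k L] (ι : R₀ →ₐ[k] L)

include ha in
/-- tangent points with integral coordinates are defined over `R₀` -/
theorem exists_map_iff {v : Pt k A (TrivSqZeroExt L L)} (hv : Pt.map (tfst k L) v = 1) :
    (∃ u : Pt k A (TrivSqZeroExt R₀ R₀), Pt.map (dmap ι) u = v) ↔ ∀ j, co a v j ∈ Set.range ι := by
  constructor
  · rintro ⟨u, rfl⟩ j
    exact ⟨co a u j, rfl⟩
  · intro h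
    choose c hc using h
    refine ⟨mkL E c, ?_⟩
    rw [mkL_map, ← mkL_co ha hv]
    congr 1
    funext j
    exact hc j

include ha in
/-- left multiplication by an integral point -/
theorem integral_iff (g₀ : Pt k A R₀) (q : Pt k A L) (c : J idx M → L) :
    (∀ j, ((adM E a (Pt.map ι g₀ * q)).mulVec c) j ∈ Set.range ι) ↔
      ∀ j, ((adM E a q).mulVec c) j ∈ Set.range ι := by
  have key : ∀ (g₀ : Pt k A R₀) (c : J idx M → L), (∀ j, c j ∈ Set.range ι) →
      ∀ j, ((adM E a (Pt.map ι g₀)).mulVec c) j ∈ Set.range ι := by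
    intro g₀ c hc j
    choose c' hc' using hc
    rw [adM_map]
    refine ⟨((adM E a g₀).mulVec c') j, ?_⟩
    rw [Matrix.mulVec, Matrix.mulVec, dotProduct, dotProduct, map_sum]
    apply Finset.sum_congr rfl
    intro i _
    rw [map_mul, hc']
    rfl
  constructor
  · intro h j
    have h1 := key g₀⁻¹ _ h j
    rw [Matrix.mulVec_mulVec, ← adM_mul ha, Pt.map_inv, ← mul_assoc, inv_mul_cancel, one_mul] at h1
    exact h1
  · intro h j
    rw [adM_mul ha, ← Matrix.mulVec_mulVec]
    exact key g₀ _ h j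

end integral

section final

variable {Z : Scheme.{u}} {y z : Z} {hyz : y ⤳ z} {k A : Type u} [Field k] [CommRing A] [Algebra k A] [PtGrp k A]
  [Algebra k (Z.presheaf.stalk y)] {X Y : Scheme.{u}} {π : X ⟶ Z} {πY : Y ⟶ Z} {e : Z ⟶ X} {eY : Z ⟶ Y}
  {F : FunPt y k A Y} {i : X ⟶ Y}
  {idx M : Type} [Fintype idx] [AddCommGroup M] [Module.Free ℤ M]
    [Module.Finite ℤ M] {P : RootPairing idx ℤ M (Module.Dual ℤ M)} {b : P.Base} {E : PinCell P b k A}
    [DecidableEq (J idx M)] (I : Finset (J idx M))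
  (hF : PF y πY eY F) (hπ : i ≫ πY = π) (he : e ≫ π = 𝟙 Z)
  {β : Module.Basis I (Z.presheaf.stalk y) ((Omega.conormal e).presheaf.stalk y)}
  {L O : Type u} [CommRing L] [Algebra k L] [Algebra (Z.presheaf.stalk y) L] [IsScalarTower k (Z.presheaf.stalk y) L]
  [Algebra (Z.presheaf.stalk z) L]
  [CommRing O] [Algebra k O] [Algebra (Z.presheaf.stalk z) O] [Algebra O L] [IsScalarTower k O L]
  [IsScalarTower (Z.presheaf.stalk z) O L]
  (hβ : ∀ (c : I → L), Ph e F i (mkL E (ex I c)) (fl (fun j => β.coord j) c))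
  (hL : SpeCompat hyz L) (hι : Function.Injective (algebraMap O L))
  {a : J idx M → A} (ha : DualSys E a)
  (Γ : ∀ (C : Type u) [CommRing C] [Algebra k C] [Algebra O C] [IsScalarTower k O C], Pt k A C →
    (Spec (CommRingCat.of C) ⟶ Y))
  (hnat : ∀ {C C' : Type u} [CommRing C] [Algebra k C] [Algebra O C] [IsScalarTower k O C]
    [CommRing C'] [Algebra k C'] [Algebra O C'] [IsScalarTower k O C'] (φ : C →ₐ[k] C')
    (_ : ∀ r, φ (algebraMap O C r) = algebraMap O C' r) (v : Pt k A C),
    Spec.map (CommRingCat.ofHom (φ : C →+* C')) ≫ Γ C v = Γ C' (Pt.map φ v))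
  (hov : ∀ {C : Type u} [CommRing C] [Algebra k C] [Algebra O C] [IsScalarTower k O C] (v : Pt k A C),
    Γ C v ≫ πY = Spec.map (CommRingCat.ofHom (algebraMap O C)) ≫ ptS z O)
  (hinj : ∀ {C : Type u} [CommRing C] [Algebra k C] [Algebra O C] [IsScalarTower k O C] (v v' : Pt k A C),
    Γ C v = Γ C v' → v = v')
  (hsurj : ∀ {C : Type u} [CommRing C] [Algebra k C] [Algebra O C] [IsScalarTower k O C]
    (w : Spec (CommRingCat.of C) ⟶ Y), w ≫ πY = Spec.map (CommRingCat.ofHom (algebraMap O C)) ≫ ptS z O →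
      ∃ v, Γ C v = w)
  (g₀ : Pt k A O) (q : Pt k A L)
  (hΓ : ∀ v : Pt k A (TrivSqZeroExt L L), F (TrivSqZeroExt L L) v =
    Γ (TrivSqZeroExt L L) (cj (Pt.map (IsScalarTower.toAlgHom k O L) g₀ * q) v))

include hF hπ he hβ hL hι ha hnat hov hinj hsurj hΓ in
/-- **the lattice at `z`** -/
theorem lattice_iff [IsClosedImmersion i] [IsAffineHom π] [QuasiCompact e] (c : I → L) :
    (∀ m : (Omega.conormal e).presheaf.stalk z, (∑ j, algebraMap (Z.presheaf.stalk y) L
      (β.repr ((Omega.conormal e).presheaf.stalkSpecializes hyz m) j) * c j) ∈ Set.range (algebraMap O L)) ↔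
    ∀ r : J idx M, (∑ j : I, adM E a q r j * c j) ∈ Set.range (algebraMap O L) := by
  obtain ⟨w, hz, hw, hφ⟩ := hβ c
  obtain ⟨hz', φ', hφ', hspe⟩ := exists_isPhi_spe hL hφ
  have hw1 : w ≫ π = pr L ≫ ptS z L := by rw [ptS_spe hL, over_eq hF hπ hw]
  have h1 := extends_iff he (IsScalarTower.toAlgHom (Z.presheaf.stalk z) O L) hι hz' hw1 hφ'
  have h2 : ∀ t, φ' t = ∑ j, algebraMap (Z.presheaf.stalk y) L
      (β.repr ((Omega.conormal e).presheaf.stalkSpecializes hyz t) j) * c j := by
    intro t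
    rw [hspe, fl_apply]
    rfl
  set h := Pt.map (IsScalarTower.toAlgHom k O L) g₀ * q with hh
  set v := mkL E (ex I c) with hv
  have hv1 : Pt.map (tfst k L) v = 1 := tfst_mkL E _
  -- the morphism `Spec L[ε] ⟶ Spec O[ε]`
  have hdm : dm (IsScalarTower.toAlgHom (Z.presheaf.stalk z) O L) =
      Spec.map (CommRingCat.ofHom (dmap (IsScalarTower.toAlgHom k O L) : TrivSqZeroExt O O →+* TrivSqZeroExt L L)) := by
    rw [dm]
    congr 2
  have hι' : Function.Injective (dmap (IsScalarTower.toAlgHom k O L) : TrivSqZeroExt O O →+* TrivSqZeroExt L L) := by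
    intro r s hrs
    apply TrivSqZeroExt.ext
    · exact hι (congrArg TrivSqZeroExt.fst hrs)
    · exact hι (congrArg TrivSqZeroExt.snd hrs)
  have hpr : Spec.map (CommRingCat.ofHom (algebraMap O (TrivSqZeroExt O O))) ≫ ptS z O = pr O ≫ ptS z O := rfl
  have h3 : (∃ w' : Spec (CommRingCat.of (TrivSqZeroExt O O)) ⟶ X,
      dm (IsScalarTower.toAlgHom (Z.presheaf.stalk z) O L) ≫ w' = w ∧ w' ≫ π = pr O ≫ ptS z O) ↔
      ∃ u : Pt k A (TrivSqZeroExt O O), Pt.map (dmap (IsScalarTower.toAlgHom k O L)) u = cj h v := by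
    constructor
    · rintro ⟨w', hw', hw''⟩
      obtain ⟨u, hu⟩ := hsurj (C := TrivSqZeroExt O O) (w' ≫ i) (by rw [Category.assoc, hπ, hw'', hpr])
      refine ⟨u, hinj (C := TrivSqZeroExt L L) _ _ ?_⟩
      rw [← hΓ v, ← hnat (dmap (IsScalarTower.toAlgHom k O L)) (fun r => ?_) u, hu, ← hw, ← hdm, ← hw',
        Category.assoc]
      exact TrivSqZeroExt.ext rfl (map_zero _)
    · rintro ⟨u, hu⟩
      have h4 : Spec.map (CommRingCat.ofHom (dmap (IsScalarTower.toAlgHom k O L) :
          TrivSqZeroExt O O →+* TrivSqZeroExt L L)) ≫ Γ (TrivSqZeroExt O O) u = w ≫ i := by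
        rw [hnat (dmap (IsScalarTower.toAlgHom k O L)) (fun r => ?_) u, hu, hw, hΓ v]
        exact TrivSqZeroExt.ext rfl (map_zero _)
      obtain ⟨w'', hw''⟩ := exists_factor i _ hι' h4
      refine ⟨w'', ?_, ?_⟩
      · rw [← cancel_mono i, Category.assoc, hw'', hdm]
        exact h4
      · rw [← hπ, ← Category.assoc, hw'', hov, hpr]
  have h5 := exists_map_iff ha (IsScalarTower.toAlgHom k O L) (tfst_cj hv1 h) 
  have h6 : co a (cj h v) = (adM E a h).mulVec (ex I c) := by
    rw [co_cj ha h hv1, hv, co_mkL ha]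
  have h7 := integral_iff ha (IsScalarTower.toAlgHom k O L) g₀ q (ex I c)
  have h8 : ∀ r, ((adM E a q).mulVec (ex I c)) r = ∑ j : I, adM E a q r j * c j := by
    intro r
    rw [Matrix.mulVec, dotProduct, ← Finset.sum_subset (Finset.subset_univ I)]
    · rw [← Finset.sum_coe_sort]
      apply Finset.sum_congr rfl
      intro j _
      rw [ex_mem]
    · intro j _ hj
      rw [ex_not_mem I c hj, mul_zero]
  rw [h6] at h5
  have h9 : (∀ m : (Omega.conormal e).presheaf.stalk z, (∑ j, algebraMap (Z.presheaf.stalk y) L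
      (β.repr ((Omega.conormal e).presheaf.stalkSpecializes hyz m) j) * c j) ∈ Set.range (algebraMap O L)) ↔
      ∀ t, φ' t ∈ Set.range (IsScalarTower.toAlgHom (Z.presheaf.stalk z) O L) := by
    constructor
    · intro h t
      rw [h2]
      exact h t
    · intro h t
      rw [← h2]
      exact h t
  rw [h9, ← h1, h3, h5]
  refine h7.trans ?_
  constructor
  · intro h r
    rw [← h8]
    exact h r
  · intro h r
    rw [h8]
    exact h r

end final

end Groth.Agent.CanPar.K795.TanDict
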