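import Groth.Agent.CanPar.K795.PtFun

/-!
# The local statement at a closed point

`exists_hL`: `F(v) = Γ(h v h⁻¹)`; `local_at`: the matrix `q` and the torus point `χ` at a closed point.
-/

set_option autoImplicit false
set_option linter.unusedSectionVars false
universe u

open CategoryTheory CategoryTheory.Limits MonoidalCategory CartesianMonoidalCategory MonObj GrpObj AlgebraicGeometry

namespace Groth.Agent.CanPar.K795.PtFun

open Groth.Agent.CanPar.K795.Iface Groth.Agent.CanPar.K795.TanDict Groth.Agent.CanPar.K795.TanPt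
open Groth.Agent.CanPar.K795.AdMat Groth.Agent.RedSub.H660.Iwasawa Groth.Agent.Sga3B.Word
open Groth.Agent.Sga3B Groth.Agent.Sga3B.Cell K929.LieDict

section congr

variable {S Z X : Scheme.{u}} {a : Z ⟶ S} {c : X ⟶ Z} {G₀ : Over S} [GrpObj G₀] {G : Over Z} [GrpObj G]

theorem tr_left_congr (e : Red.bc (c ≫ a) G₀ ≅ Red.bc c G) (he : IsMonHom e.hom) {T : Scheme.{u}} {t t' : T ⟶ X}
    {z z' : T ⟶ Z} (ht : t = t') (hzz : z = z') (s : T ⟶ S) (hz : z = t ≫ c) (hs : s = z ≫ a) (hz' : z' = t' ≫ c)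
    (hs' : s = z' ≫ a) (v : Over.mk s ⟶ G₀) : (tr e he t z s hz hs v).left = (tr e he t' z' s hz' hs' v).left := by
  subst ht hzz
  rfl

end congr

/-- `Spec O_y ⟶ Z` -/
noncomputable abbrev fs {Z : Scheme.{u}} (y : Z) : Spec (CommRingCat.of (Z.presheaf.stalk y)) ⟶ Z := Z.fromSpecStalk y

section pf

variable {Z : Scheme.{u}} {y : Z} {k A : Type u} [Field k] [CommRing A] [Algebra k A] [PtGrp k A]
  [Algebra k (Z.presheaf.stalk y)]
  (a : Z ⟶ Spec (CommRingCat.of k))
  (hc : Spec.map (CommRingCat.ofHom (algebraMap k (Z.presheaf.stalk y))) = fs y ≫ a)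
  {G₀ : Over (Spec (CommRingCat.of k))} [GrpObj G₀] {G : Over Z} [GrpObj G]
  (f : Red.bc (fs y ≫ a) G₀ ≅ Red.bc (fs y) G) (hf : IsMonHom f.hom)
  (pts : ∀ (B : Type u) [CommRing B] [Algebra k B],
    Pt k A B ≃* (Over.mk (Spec.map (CommRingCat.ofHom (algebraMap k B))) ⟶ G₀))
  (hnat : ∀ {B C : Type u} [CommRing B] [Algebra k B] [CommRing C] [Algebra k C] (φ : B →ₐ[k] C)
    (hφ : Spec.map (CommRingCat.ofHom (φ : B →+* C)) ≫ Spec.map (CommRingCat.ofHom (algebraMap k B)) =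
      Spec.map (CommRingCat.ofHom (algebraMap k C))) (g : Pt k A B),
    (Over.homMk (Spec.map (CommRingCat.ofHom (φ : B →+* C))) hφ :
      Over.mk (Spec.map (CommRingCat.ofHom (algebraMap k C))) ⟶
        Over.mk (Spec.map (CommRingCat.ofHom (algebraMap k B)))) ≫ pts B g = pts C (Pt.map φ g))

/-- the points over the algebras over the local ring of `y` -/
noncomputable def Fy : FunPt y k A G.left := fun C _ _ _ _ v =>
  fl' (R₁ := Z.presheaf.stalk y) a (fs y) hc f hf pts C v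

include hnat in
theorem pf : PF y G.hom (K795.OmegaGrp.un G) (Fy a hc f hf pts) where
  nat φ hφ v := fl'_nat a (fs y) hc f hf pts hnat φ hφ v
  ov v := fl'_ov a (fs y) hc f hf pts v
  inj _ _ h := fl'_inj a (fs y) hc f hf pts h
  surj w hw := fl'_surj a (fs y) hc f hf pts w hw
  one := fl'_one a (fs y) hc f hf pts

variable {z : Z} {hyz : y ⤳ z} {L : Type u} [Field L] [Algebra k L] [Algebra (Z.presheaf.stalk y) L]
  [IsScalarTower k (Z.presheaf.stalk y) L] [Algebra (Z.presheaf.stalk z) L] (hL : SpeCompat hyz L)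
  {O : ValuationSubring L} [Algebra k O] [Algebra (Z.presheaf.stalk z) O] [IsScalarTower k O L]
  [IsScalarTower (Z.presheaf.stalk z) O L]
  (hcO : Spec.map (CommRingCat.ofHom (algebraMap k O)) = ptS z O ≫ a)
  (g : Red.bc (ptS z O ≫ a) G₀ ≅ Red.bc (ptS z O) G) (hg : IsMonHom g.hom)
  (h : Over.mk (Spec.map (CommRingCat.ofHom (algebraMap (Z.presheaf.stalk y) L)) ≫ fs y ≫ a) ⟶ G₀)
  (hin : ∀ (T : Scheme.{u}) (t : T ⟶ Spec (CommRingCat.of L)) (z' : T ⟶ Z) (s : T ⟶ Spec (CommRingCat.of k))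
    (hz : z' = (t ≫ Spec.map (CommRingCat.ofHom (algebraMap (Z.presheaf.stalk y) L))) ≫ fs y)
    (hz' : z' = (t ≫ genO O) ≫ ptS z O) (hs : s = z' ≫ a)
    (hs' : t ≫ Spec.map (CommRingCat.ofHom (algebraMap (Z.presheaf.stalk y) L)) ≫ fs y ≫ a = s)
    (v : Over.mk s ⟶ G₀),
    tr f hf (t ≫ Spec.map (CommRingCat.ofHom (algebraMap (Z.presheaf.stalk y) L))) z' s hz hs v =
      tr g hg (t ≫ genO O) z' s hz' hs
        (((Over.homMk t hs' : Over.mk s ⟶ Over.mk (Spec.map (CommRingCat.ofHom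
          (algebraMap (Z.presheaf.stalk y) L)) ≫ fs y ≫ a)) ≫ h) * v *
        ((Over.homMk t hs' : Over.mk s ⟶ Over.mk (Spec.map (CommRingCat.ofHom
          (algebraMap (Z.presheaf.stalk y) L)) ≫ fs y ≫ a)) ≫ h)⁻¹))

include hL in
theorem compat_pt : Spec.map (CommRingCat.ofHom (algebraMap (Z.presheaf.stalk y) L)) ≫ fs y =
    genO O ≫ ptS z O := by
  have h1 : genO O ≫ ptS z O = ptS z L := by
    rw [genO, ptS, ptS, ← Category.assoc, ← Spec.map_comp, ← CommRingCat.ofHom_comp,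
      ← IsScalarTower.algebraMap_eq]
  rw [h1, ptS_spe hL]

include hnat hL hin in
theorem exists_hL : ∃ h₀ : Pt k A L, ∀ v : Pt k A (TrivSqZeroExt L L),
    Fy a hc f hf pts (TrivSqZeroExt L L) v =
      fl' a (ptS z O) hcO g hg pts (TrivSqZeroExt L L) (cj h₀ v) := by
  have hk : Spec.map (CommRingCat.ofHom (algebraMap (Z.presheaf.stalk y) L)) ≫ fs y ≫ a =
      Spec.map (CommRingCat.ofHom (algebraMap k L)) := by
    rw [← hc, ← Spec.map_comp]
    congr 1
    ext r
    exact (IsScalarTower.algebraMap_apply k (Z.presheaf.stalk y) L r).symm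
  obtain ⟨h₀, hh₀⟩ := (pts L).surjective (Over.homMk h.left ((Over.w h).trans hk))
  refine ⟨h₀, fun v => ?_⟩
  let t : Spec (CommRingCat.of (TrivSqZeroExt L L)) ⟶ Spec (CommRingCat.of L) :=
    Spec.map (CommRingCat.ofHom (algebraMap L (TrivSqZeroExt L L)))
  have ht1 : Spec.map (CommRingCat.ofHom (algebraMap (Z.presheaf.stalk y) (TrivSqZeroExt L L))) =
      t ≫ Spec.map (CommRingCat.ofHom (algebraMap (Z.presheaf.stalk y) L)) := by
    rw [← Spec.map_comp, ← CommRingCat.ofHom_comp]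
  have ht2 : Spec.map (CommRingCat.ofHom (algebraMap O (TrivSqZeroExt L L))) = t ≫ genO O := by
    rw [← Spec.map_comp, ← CommRingCat.ofHom_comp]
  have hcomp := compat_pt (O := O) hL
  have hz2 : Spec.map (CommRingCat.ofHom (algebraMap (Z.presheaf.stalk y) (TrivSqZeroExt L L))) ≫
      fs y = Spec.map (CommRingCat.ofHom (algebraMap O (TrivSqZeroExt L L))) ≫ ptS z O := by
    rw [ht1, ht2, Category.assoc, hcomp, Category.assoc]
  have hs := str_eq (R₁ := Z.presheaf.stalk y) a (fs y) hc (TrivSqZeroExt L L)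
  have hs2 : t ≫ Spec.map (CommRingCat.ofHom (algebraMap (Z.presheaf.stalk y) L)) ≫ fs y ≫ a =
      Spec.map (CommRingCat.ofHom (algebraMap k (TrivSqZeroExt L L))) := by
    rw [hs, ht1]
    simp only [Category.assoc]
  have h1 := hin _ t (Spec.map (CommRingCat.ofHom (algebraMap (Z.presheaf.stalk y) (TrivSqZeroExt L L))) ≫
      fs y) (Spec.map (CommRingCat.ofHom (algebraMap k (TrivSqZeroExt L L))))
      (by rw [ht1]) (by rw [hz2, ht2]) hs hs2 (pts _ v)
  have h2 : ((Over.homMk t hs2 : Over.mk (Spec.map (CommRingCat.ofHom (algebraMap k (TrivSqZeroExt L L)))) ⟶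
      Over.mk (Spec.map (CommRingCat.ofHom (algebraMap (Z.presheaf.stalk y) L)) ≫ fs y ≫ a)) ≫ h) =
      pts (TrivSqZeroExt L L) (Pt.map (tinl k L) h₀) := by
    rw [← hnat (tinl k L) (specMap_alg (tinl k L)), hh₀]
    ext1
    rfl
  rw [h2, ← map_mul, ← map_inv, ← map_mul] at h1
  have e1 : Fy a hc f hf pts (TrivSqZeroExt L L) v =
      (tr f hf (t ≫ Spec.map (CommRingCat.ofHom (algebraMap (Z.presheaf.stalk y) L)))
        (Spec.map (CommRingCat.ofHom (algebraMap (Z.presheaf.stalk y) (TrivSqZeroExt L L))) ≫ fs y)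
        (Spec.map (CommRingCat.ofHom (algebraMap k (TrivSqZeroExt L L)))) (by rw [ht1]) hs (pts _ v)).left :=
    tr_left_congr f hf ht1 rfl _ rfl hs _ hs _
  have e2 := congrArg (fun g => g.left) h1
  refine e1.trans (e2.trans ?_)
  exact tr_left_congr g hg ht2.symm hz2 _ (by rw [hz2, ht2]) hs rfl
    (str_eq (R₁ := O) a (ptS z O) hcO (TrivSqZeroExt L L)) _

end pf

section local_at

variable {Z : Scheme.{u}} {y : Z} {k A : Type u} [Field k] [CommRing A] [Algebra k A] [PtGrp k A]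
  [Algebra k (Z.presheaf.stalk y)]
  (a : Z ⟶ Spec (CommRingCat.of k))
  (hc : Spec.map (CommRingCat.ofHom (algebraMap k (Z.presheaf.stalk y))) = fs y ≫ a)
  {G₀ : Over (Spec (CommRingCat.of k))} [GrpObj G₀] {G : Over Z} [GrpObj G]
  (f : Red.bc (fs y ≫ a) G₀ ≅ Red.bc (fs y) G) (hf : IsMonHom f.hom)
  (pts : ∀ (B : Type u) [CommRing B] [Algebra k B],
    Pt k A B ≃* (Over.mk (Spec.map (CommRingCat.ofHom (algebraMap k B))) ⟶ G₀))
  (hnat : ∀ {B C : Type u} [CommRing B] [Algebra k B] [CommRing C] [Algebra k C] (φ : B →ₐ[k] C)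
    (hφ : Spec.map (CommRingCat.ofHom (φ : B →+* C)) ≫ Spec.map (CommRingCat.ofHom (algebraMap k B)) =
      Spec.map (CommRingCat.ofHom (algebraMap k C))) (g : Pt k A B),
    (Over.homMk (Spec.map (CommRingCat.ofHom (φ : B →+* C))) hφ :
      Over.mk (Spec.map (CommRingCat.ofHom (algebraMap k C))) ⟶
        Over.mk (Spec.map (CommRingCat.ofHom (algebraMap k B)))) ≫ pts B g = pts C (Pt.map φ g))
  {idx M : Type} [Fintype idx] [AddCommGroup M] [Module.Free ℤ M]
    [Module.Finite ℤ M] {R : RootPairing idx ℤ M (Module.Dual ℤ M)} {b : R.Base} {E : PinCell R b k A}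
    [DecidableEq (J idx M)] {d : J idx M → A} (hd : DualSys E d)
  {z : Z} {hyz : y ⤳ z} {L : Type u} [Field L] [IsAlgClosed L] [Algebra k L] [Algebra (Z.presheaf.stalk y) L]
  [IsScalarTower k (Z.presheaf.stalk y) L] [Algebra (Z.presheaf.stalk z) L] (hL : SpeCompat hyz L)
  {O : ValuationSubring L} [Algebra k O] [Algebra (Z.presheaf.stalk z) O] [IsScalarTower k O L]
  [IsScalarTower (Z.presheaf.stalk z) O L]
  (hcO : Spec.map (CommRingCat.ofHom (algebraMap k O)) = ptS z O ≫ a)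
  (g : Red.bc (ptS z O ≫ a) G₀ ≅ Red.bc (ptS z O) G) (hg : IsMonHom g.hom) (h₀ : Pt k A L)
  (hh : ∀ v : Pt k A (TrivSqZeroExt L L), Fy a hc f hf pts (TrivSqZeroExt L L) v =
      fl' a (ptS z O) hcO g hg pts (TrivSqZeroExt L L) (cj h₀ v))

include hnat hd hL hh in
/-- **the local statement at `z`** -/
theorem local_at : ∃ (q : Matrix (J idx M) (J idx M) L) (χ : Multiplicative M →* Lˣ),
    (∀ (I : Type) [Fintype I] [DecidableEq I] (s : I → J idx M), Function.Injective s →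
      (q.submatrix s s).det = ∏ j, (χ (Multiplicative.ofAdd (wt R (s j))) : L)) ∧
    (∀ x : M →+ ℤ, (∀ r, b.IsPos r → 0 ≤ x (R.root r)) → ∀ i j, x (wt R i) < x (wt R j) → q i j = 0) ∧
    ∀ (P : Over Z) [GrpObj P] (i : P ⟶ G) [IsMonHom i] [IsClosedImmersion i.left] [IsAffineHom P.hom]
      (I : Finset (J idx M))
      (β : Module.Basis I (Z.presheaf.stalk y) ((Omega.conormal (K795.OmegaGrp.un P)).presheaf.stalk y))
      (_ : ∀ (c : I → L), Ph (K795.OmegaGrp.un P) (Fy a hc f hf pts) i.left (mkL E (ex I c))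
        (fl (fun j => β.coord j) c)) (c : I → L),
      (∀ m : (Omega.conormal (K795.OmegaGrp.un P)).presheaf.stalk z, (∑ j, algebraMap (Z.presheaf.stalk y) L
        (β.repr ((Omega.conormal (K795.OmegaGrp.un P)).presheaf.stalkSpecializes hyz m) j) * c j) ∈ O) ↔
      ∀ r : J idx M, (∑ j : I, q r j * c j) ∈ O := by
  obtain ⟨g₀, x, t, hgt⟩ := iwasawa E O h₀
  refine ⟨adM E d (posP E x * E.i L t), t, fun I _ _ s hs => det_adM_bor hd x t s hs,
    fun x' hx' i j hij => adM_bor_eq_zero hd hx' x t hij, ?_⟩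
  intro P _ i _ _ _ I β hβ c
  have : QuasiCompact (K795.OmegaGrp.un P) :=
    Groth.Agent.Grpsch.ConormalIso.quasiCompact_of_section (K795.OmegaGrp.un_hom P)
  have hrange : ∀ r : L, r ∈ O ↔ r ∈ Set.range (algebraMap O L) := by
    intro r
    constructor
    · intro hr
      exact ⟨⟨r, hr⟩, rfl⟩
    · rintro ⟨r', rfl⟩
      exact r'.2
  have key := lattice_iff (hyz := hyz) (O := O) I (pf a hc f hf pts hnat) (i := i.left) (π := P.hom) (Over.w i)
    (K795.OmegaGrp.un_hom P) hβ hL (FaithfulSMul.algebraMap_injective O L) hd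
    (fun C _ _ _ _ v => fl' a (ptS z O) hcO g hg pts C v)
    (fun φ hφ v => fl'_nat a (ptS z O) hcO g hg pts hnat φ hφ v)
    (fun v => fl'_ov a (ptS z O) hcO g hg pts v)
    (fun v v' hv => fl'_inj a (ptS z O) hcO g hg pts hv)
    (fun w hw => fl'_surj a (ptS z O) hcO g hg pts w hw) g₀ (posP E x * E.i L t)
    (fun v => by
      rw [hh v, hgt]
      rfl) c
  simp only [hrange]
  exact key

end local_at

end Groth.Agent.CanPar.K795.PtFun
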