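import Groth.Agent.CanPar.K795.ExtSection
import Groth.Agent.RedSub.H647.SubPt
import Groth.Agent.RedSub.H660.Classes
import Groth.Agent.RedSub.H650.ParClosed
import Groth.Agent.RedSub.H672.ParProper
import Groth.Agent.S3978

/-!
# Parabolic subgroups and the scheme of parabolic subgroups

* `exists_par_of_hom`, `exists_hom_of_par`: dictionary between parabolic subgroups of `G_T` and morphisms
  `T ⟶ Par(G)`;
* `exists_ext`: over an integral separated scheme whose local rings are valuation rings, parabolic subgroups of the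
  generic fibre extend.
-/

set_option autoImplicit false
universe u

open CategoryTheory CategoryTheory.Limits AlgebraicGeometry MonoidalCategory CartesianMonoidalCategory
  MonObj GrpObj

namespace K795.ParExt

open Groth.Agent Groth.Agent.Sga3B Groth.Agent.Sga3B.MT Groth.Agent.RedSub.H647.SubPt
  Groth.Agent.RedSub.H660.Classes

variable {X : Scheme.{u}} {G : Over X} [GrpObj G]

section Pts

variable {P Q : Over X}

/-- points of a subscheme -/
def PtG (i : P ⟶ G) {Z : Scheme.{u}} (g : Z ⟶ G.left) : Prop := ∃ p : Z ⟶ P.left, p ≫ i.left = g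

omit [GrpObj G] in
theorem PtG.comp {i : P ⟶ G} {Z Z' : Scheme.{u}} {g : Z ⟶ G.left} (h : PtG i g) (z : Z' ⟶ Z) :
    PtG i (z ≫ g) := by
  obtain ⟨p, rfl⟩ := h
  exact ⟨z ≫ p, Category.assoc _ _ _⟩

omit [GrpObj G] in
theorem exists_fac_of_ptG {i : P ⟶ G} {j : Q ⟶ G}
    (h : ∀ (Z : Scheme.{u}) (g : Z ⟶ G.left), PtG i g → PtG j g) : ∃ u : P ⟶ Q, u ≫ j = i := by
  obtain ⟨p, hp⟩ := h _ _ ⟨𝟙 _, Category.id_comp _⟩
  refine ⟨Over.homMk p ?_, ?_⟩
  · rw [← Over.w j, ← Category.assoc, hp, Over.w]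
  · ext
    exact hp

omit [GrpObj G] in
/-- points of a base change -/
theorem pt_pullback {T : Scheme.{u}} (f : T ⟶ X) (i : P ⟶ G) {Z : Scheme.{u}} (y : Z ⟶ T) (g : Z ⟶ G.left) :
    Pt ((Over.pullback f).map i) y g ↔ PtG i g ∧ y ≫ f = g ≫ G.hom := by
  have h0 : ((Over.pullback f).map i).left ≫ pullback.fst G.hom f = pullback.fst P.hom f ≫ i.left :=
    pullback.lift_fst _ _ _
  constructor
  · intro h
    refine ⟨?_, h.w⟩
    obtain ⟨p, rfl, rfl⟩ := h
    refine ⟨p ≫ pullback.fst P.hom f, ?_⟩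
    rw [Category.assoc, ← h0]
  · rintro ⟨⟨p, rfl⟩, h⟩
    rw [Category.assoc, Over.w] at h
    refine ⟨pullback.lift p y h.symm, pullback.lift_snd _ _ _, ?_⟩
    rw [h0]
    exact (pullback.lift_fst_assoc _ _ _ _)

omit [GrpObj G] in
theorem exists_fac_of_pt {T : Scheme.{u}} {f : T ⟶ X} {H H' : Over T} (h : H ⟶ Red.bc f G) (h' : H' ⟶ Red.bc f G)
    (hh : ∀ (Z : Scheme.{u}) (y : Z ⟶ T) (g : Z ⟶ G.left), Pt h y g → Pt h' y g) : ∃ u : H ⟶ H', u ≫ h' = h := by
  obtain ⟨p, h1, h2⟩ := hh _ _ _ (pt_self h)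
  refine ⟨Over.homMk p h1, ?_⟩
  apply Over.OverMorphism.ext
  apply pullback.hom_ext
  · exact (Category.assoc _ _ _).trans h2
  · refine (Category.assoc _ _ _).trans ((congrArg (p ≫ ·) (left_snd h')).trans (h1.trans (left_snd h).symm))

omit [GrpObj G] in
theorem pt_of_fac {T : Scheme.{u}} {f : T ⟶ X} {H H' : Over T} {h : H ⟶ Red.bc f G} {h' : H' ⟶ Red.bc f G}
    (u : H ⟶ H') (hu : u ≫ h' = h) {Z : Scheme.{u}} {y : Z ⟶ T} {g : Z ⟶ G.left} (hp : Pt h y g) :
    Pt h' y g := by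
  obtain ⟨p, rfl, rfl⟩ := hp
  refine ⟨p ≫ u.left, by rw [Category.assoc, Over.w], ?_⟩
  rw [← hu, Over.comp_left, Category.assoc, Category.assoc]

omit [GrpObj G] in
theorem pt_iff_of_iso {T : Scheme.{u}} {f : T ⟶ X} {H H' : Over T} {h : H ⟶ Red.bc f G} {h' : H' ⟶ Red.bc f G}
    (e : H ≅ H') (he : e.hom ≫ h' = h) {Z : Scheme.{u}} {y : Z ⟶ T} {g : Z ⟶ G.left} :
    Pt h y g ↔ Pt h' y g :=
  ⟨pt_of_fac e.hom he, pt_of_fac e.inv (by rw [← he, Iso.inv_hom_id_assoc])⟩

end Pts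

section Dictionary

variable {M : Over X} {H : Over M.left} [GrpObj H] {h : H ⟶ Red.bc M.hom G}

/-- a morphism to the scheme of parabolic subgroups gives a parabolic subgroup -/
theorem exists_par_of_hom (hG : Red.IsReductive G) (hh : Red.IsParabolic h)
    {T : Scheme.{u}} (f : T ⟶ X) (φ : T ⟶ M.left) (hφ : φ ≫ M.hom = f) :
    ∃ (P : Over T) (_ : GrpObj P) (i : P ⟶ Red.bc f G), Red.IsParabolic i ∧
      ∀ (Z : Scheme.{u}) (y : Z ⟶ T) (g : Z ⟶ G.left), Pt i y g ↔ Pt h (y ≫ φ) g := by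
  subst hφ
  refine ⟨Red.bc φ H, inferInstance, bcSub φ h, ?_, fun Z y g => pt_bcSub φ h y g⟩
  rw [good_isParabolic.bcSub_iff]
  exact RedSub.H648.BorBc.isParabolic_bc φ (RedBcAny636.isReductive_bc M.hom hG) hh

/-- parabolic subgroups are classified by morphisms to the scheme of parabolic subgroups -/
theorem existsUnique_hom_of_par (hM : RedSub.RepresentsPar G M H h)
    {T : Scheme.{u}} (f : T ⟶ X) {P : Over T} [GrpObj P] (i : P ⟶ Red.bc f G) (hi : Red.IsParabolic i) :
    ∃! φ : T ⟶ M.left, φ ≫ M.hom = f ∧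
      ∀ (Z : Scheme.{u}) (y : Z ⟶ T) (g : Z ⟶ G.left), Pt i y g ↔ Pt h (y ≫ φ) g :=
  hM.2 T f P i (RedSub.H672.ParProper.isParabolicSub hi)

end Dictionary

theorem pullbackId_hom_left (Y : Over X) :
    ((Over.pullbackId (X := X)).hom.app Y).left = pullback.fst Y.hom (𝟙 X) := by
  have h := conjugateEquiv_counit (Over.mapPullbackAdj (𝟙 X)) (Adjunction.id (C := Over X))
    (Over.mapId X).inv Y
  have h2 := congrArg (fun z => z.left) h
  have h3 : ((Adjunction.id (C := Over X)).counit.app Y) = 𝟙 Y := rfl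
  rw [h3] at h2
  simp only [Category.comp_id, Functor.id_obj, Over.comp_left] at h2
  have h4 : ((Over.mapId X).inv.app ((Over.pullback (𝟙 X)).obj Y)).left = 𝟙 _ := by
    simp [Over.mapId]
  have h5 : ((Over.mapPullbackAdj (𝟙 X)).counit.app Y).left = pullback.fst Y.hom (𝟙 X) := by
    simp
  rw [h5] at h2
  refine h2.trans ?_
  refine (congrArg (· ≫ pullback.fst Y.hom (𝟙 X)) h4).trans ?_
  exact Category.id_comp _

/-- A parabolic subgroup of `G_T`, `T ⟶ X` the identity, as a parabolic subgroup of `G`. -/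
theorem exists_par_of_id {f : X ⟶ X} (hf : f = 𝟙 X) {P : Over X} [GrpObj P] (i : P ⟶ Red.bc f G)
    (hi : Red.IsParabolic i) :
    ∃ i' : P ⟶ G, Red.IsParabolic i' ∧ ∀ (Z : Scheme.{u}) (g : Z ⟶ G.left), PtG i' g ↔ Pt i (g ≫ G.hom) g := by
  subst hf
  let ψ := BcIso.bcIdIso G
  have hψ : ψ.hom.hom.hom.left = pullback.fst G.hom (𝟙 X) := by
    rw [← pullbackId_hom_left]
    exact congrArg (fun z => z.left) (BcNat.und_bcIdIso G)
  refine ⟨i ≫ ψ.hom.hom.hom, ?_, ?_⟩
  · exact good_isParabolic.of_arrow (Iso.refl _) ψ (Category.id_comp _).symm hi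
  · intro Z g
    have h1 : (i ≫ ψ.hom.hom.hom).left = i.left ≫ pullback.fst G.hom (𝟙 X) := by
      rw [Over.comp_left, hψ]
    constructor
    · rintro ⟨p, hp⟩
      rw [h1] at hp
      refine ⟨p, ?_, hp⟩
      rw [← hp, Category.assoc, Category.assoc, pullback.condition, Category.comp_id,
        ← left_snd i]
    · rintro ⟨p, _, hp⟩
      refine ⟨p, ?_⟩
      rw [h1]
      exact hp

/-- **Extension of parabolic subgroups** over an integral separated scheme whose local rings are valuation rings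
(for instance a smooth curve over a field). -/
theorem exists_ext [IsIntegral X] [X.IsSeparated] (hX : ∀ x : X, ValuationRing (X.presheaf.stalk x))
    (hG : Red.IsReductive G) {PK : Over (Spec X.functionField)} [GrpObj PK]
    (iK : PK ⟶ Red.bc (X.fromSpecStalk (genericPoint X)) G) (hiK : Red.IsParabolic iK) :
    ∃ (P : Over X) (_ : GrpObj P) (i : P ⟶ G), Red.IsParabolic i ∧
      ∃ e : Red.bc (X.fromSpecStalk (genericPoint X)) P ≅ PK,
        e.hom ≫ iK = (Over.pullback (X.fromSpecStalk (genericPoint X))).map i := by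
  obtain ⟨M, H, _, h, hM, _, _, _⟩ := S3978.result G hG
  have hh : Red.IsParabolic h :=
    RedSub.H650.ParClosed.isParabolic (RedBcAny636.isReductive_bc M.hom hG) h hM.1
  obtain ⟨φ, ⟨hφ1, hφ2⟩, -⟩ := existsUnique_hom_of_par hM _ iK hiK
  obtain ⟨s, hs1, hs2⟩ := ExtSection.exists_section hX M.hom φ hφ1
  obtain ⟨P, _, i, hi1, hi2⟩ := exists_par_of_hom hG hh (𝟙 X) s hs1
  obtain ⟨i', hi', hi'2⟩ := exists_par_of_id rfl i hi1
  refine ⟨P, inferInstance, i', hi', ?_⟩
  have hm : Mono iK := by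
    have := hiK.2.1
    exact Over.mono_of_mono_left _
  have hm2 : Mono ((Over.pullback (X.fromSpecStalk (genericPoint X))).map i') := by
    have := hi'.2.1
    have : Mono i' := Over.mono_of_mono_left _
    infer_instance
  refine exists_iso_of_pt _ _ ?_
  intro Z y g
  rw [pt_pullback, hi'2, hi2, hφ2]
  constructor
  · rintro ⟨h1, h2⟩
    rw [← hs2, ← Category.assoc, h2]
    exact h1
  · intro h1
    have h2 := h1.w
    rw [Category.assoc, hφ1] at h2
    rw [← hs2, ← Category.assoc, h2] at h1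
    exact ⟨h1, h2⟩

end K795.ParExt
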