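import Groth.Agent.CanPar.K795.LatIff
import Groth.Agent.CanPar.K795.Iface2
import Groth.Agent.CanPar.K795.OmegaGrp

/-!
# The points of a group in terms of the points of the pinned model

`c : Spec R₁ ⟶ Z`, `e : Red.bc (c ≫ a) G₀ ≅ Red.bc c G`: `fo C : Pt k A C ≃* (Spec C ⟶ G over Z)` for the
`R₁`-algebras `C`.
-/

set_option autoImplicit false
set_option linter.unusedSectionVars false
universe u

open CategoryTheory CategoryTheory.Limits MonoidalCategory CartesianMonoidalCategory MonObj GrpObj AlgebraicGeometry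

namespace Groth.Agent.CanPar.K795.PtFun

open Groth.Agent.CanPar.K795.Iface Groth.Agent.CanPar.K795.TanDict Groth.Agent.CanPar.K795.TanPt
open Groth.Agent.CanPar.K795.AdMat
open Groth.Agent.Sga3B Groth.Agent.Sga3B.Cell K929.LieDict

section fo

variable {Z : Scheme.{u}} {k A R₁ : Type u} [Field k] [CommRing A] [Algebra k A] [PtGrp k A] [CommRing R₁] [Algebra k R₁]
  (a : Z ⟶ Spec (CommRingCat.of k)) (c : Spec (CommRingCat.of R₁) ⟶ Z)
  (hc : Spec.map (CommRingCat.ofHom (algebraMap k R₁)) = c ≫ a)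
  {G₀ : Over (Spec (CommRingCat.of k))} [GrpObj G₀] {G : Over Z} [GrpObj G]
  (e : Red.bc (c ≫ a) G₀ ≅ Red.bc c G) (he : IsMonHom e.hom)
  (pts : ∀ (B : Type u) [CommRing B] [Algebra k B],
    Pt k A B ≃* (Over.mk (Spec.map (CommRingCat.ofHom (algebraMap k B))) ⟶ G₀))

include hc in
theorem str_eq (C : Type u) [CommRing C] [Algebra k C] [Algebra R₁ C] [IsScalarTower k R₁ C] :
    Spec.map (CommRingCat.ofHom (algebraMap k C)) =
      (Spec.map (CommRingCat.ofHom (algebraMap R₁ C)) ≫ c) ≫ a := by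
  rw [Category.assoc, ← hc, ← Spec.map_comp, ← CommRingCat.ofHom_comp, ← IsScalarTower.algebraMap_eq]

/-- the points of `G` over `R₁`-algebras -/
noncomputable def fo (C : Type u) [CommRing C] [Algebra k C] [Algebra R₁ C] [IsScalarTower k R₁ C] :
    Pt k A C ≃* (Over.mk (Spec.map (CommRingCat.ofHom (algebraMap R₁ C)) ≫ c) ⟶ G) :=
  (pts C).trans (tr e he (Spec.map (CommRingCat.ofHom (algebraMap R₁ C)))
    (Spec.map (CommRingCat.ofHom (algebraMap R₁ C)) ≫ c) (Spec.map (CommRingCat.ofHom (algebraMap k C))) rfl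
    (str_eq a c hc C))

/-- the underlying morphisms -/
noncomputable def fl' (C : Type u) [CommRing C] [Algebra k C] [Algebra R₁ C] [IsScalarTower k R₁ C]
    (v : Pt k A C) : Spec (CommRingCat.of C) ⟶ G.left := (fo a c hc e he pts C v).left

variable (hnat : ∀ {B C : Type u} [CommRing B] [Algebra k B] [CommRing C] [Algebra k C] (φ : B →ₐ[k] C)
    (hφ : Spec.map (CommRingCat.ofHom (φ : B →+* C)) ≫ Spec.map (CommRingCat.ofHom (algebraMap k B)) =
      Spec.map (CommRingCat.ofHom (algebraMap k C))) (g : Pt k A B),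
    (Over.homMk (Spec.map (CommRingCat.ofHom (φ : B →+* C))) hφ :
      Over.mk (Spec.map (CommRingCat.ofHom (algebraMap k C))) ⟶
        Over.mk (Spec.map (CommRingCat.ofHom (algebraMap k B)))) ≫ pts B g = pts C (Pt.map φ g))

variable {C C' : Type u} [CommRing C] [Algebra k C] [Algebra R₁ C] [IsScalarTower k R₁ C]
  [CommRing C'] [Algebra k C'] [Algebra R₁ C'] [IsScalarTower k R₁ C']

theorem specMap_alg (φ : C →ₐ[k] C') : Spec.map (CommRingCat.ofHom (φ : C →+* C')) ≫
    Spec.map (CommRingCat.ofHom (algebraMap k C)) = Spec.map (CommRingCat.ofHom (algebraMap k C')) := by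
  rw [← Spec.map_comp, ← CommRingCat.ofHom_comp, AlgHom.comp_algebraMap]

theorem specMap_alg' (φ : C →ₐ[k] C') (hφ : ∀ r, φ (algebraMap R₁ C r) = algebraMap R₁ C' r) :
    Spec.map (CommRingCat.ofHom (φ : C →+* C')) ≫
    Spec.map (CommRingCat.ofHom (algebraMap R₁ C)) = Spec.map (CommRingCat.ofHom (algebraMap R₁ C')) := by
  rw [← Spec.map_comp, ← CommRingCat.ofHom_comp]
  congr 2
  exact RingHom.ext hφ

include hnat in
theorem fl'_nat (φ : C →ₐ[k] C') (hφ : ∀ r, φ (algebraMap R₁ C r) = algebraMap R₁ C' r) (v : Pt k A C) :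
    Spec.map (CommRingCat.ofHom (φ : C →+* C')) ≫ fl' a c hc e he pts C v = fl' a c hc e he pts C' (Pt.map φ v) := by
  have h1 := tr_nat e he (Spec.map (CommRingCat.ofHom (algebraMap R₁ C)))
    (Spec.map (CommRingCat.ofHom (algebraMap R₁ C)) ≫ c) (Spec.map (CommRingCat.ofHom (algebraMap k C))) rfl
    (str_eq a c hc C) (Spec.map (CommRingCat.ofHom (φ : C →+* C'))) (Spec.map (CommRingCat.ofHom (algebraMap R₁ C')))
    (Spec.map (CommRingCat.ofHom (algebraMap R₁ C')) ≫ c) (Spec.map (CommRingCat.ofHom (algebraMap k C')))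
    (specMap_alg' φ hφ) (by rw [← Category.assoc, specMap_alg' φ hφ]) (specMap_alg φ) rfl (str_eq a c hc C')
    (pts C v)
  rw [hnat] at h1
  exact (congrArg (fun g => g.left) h1).symm

theorem fl'_ov (v : Pt k A C) : fl' a c hc e he pts C v ≫ G.hom =
    Spec.map (CommRingCat.ofHom (algebraMap R₁ C)) ≫ c := Over.w (fo a c hc e he pts C v)

theorem fl'_inj {v v' : Pt k A C} (h : fl' a c hc e he pts C v = fl' a c hc e he pts C v') : v = v' :=
  (fo a c hc e he pts C).injective (by ext1; exact h)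

theorem fl'_surj (w : Spec (CommRingCat.of C) ⟶ G.left)
    (hw : w ≫ G.hom = Spec.map (CommRingCat.ofHom (algebraMap R₁ C)) ≫ c) :
    ∃ v, fl' a c hc e he pts C v = w := by
  obtain ⟨v, hv⟩ := (fo a c hc e he pts C).surjective (Over.homMk w hw)
  exact ⟨v, congrArg (fun g => g.left) hv⟩

theorem fl'_one : fl' a c hc e he pts C 1 =
    (Spec.map (CommRingCat.ofHom (algebraMap R₁ C)) ≫ c) ≫ K795.OmegaGrp.un G := by
  rw [fl', map_one]
  have h1 : (1 : Over.mk (Spec.map (CommRingCat.ofHom (algebraMap R₁ C)) ≫ c) ⟶ G) =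
      toUnit _ ≫ η[G] := rfl
  rw [h1]
  rfl

variable {P : Over Z} [GrpObj P] (i : P ⟶ G) [IsMonHom i]

/-- points of a subgroup are stable under products -/
theorem fl'_mul (v v' : Pt k A C) (h : ∃ w, w ≫ i.left = fl' a c hc e he pts C v)
    (h' : ∃ w, w ≫ i.left = fl' a c hc e he pts C v') : ∃ w, w ≫ i.left = fl' a c hc e he pts C (v * v') := by
  obtain ⟨w, hw⟩ := h
  obtain ⟨w', hw'⟩ := h'
  have h1 : w ≫ P.hom = Spec.map (CommRingCat.ofHom (algebraMap R₁ C)) ≫ c := by
    rw [← fl'_ov a c hc e he pts v, ← hw, Category.assoc, Over.w]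
  have h2 : w' ≫ P.hom = Spec.map (CommRingCat.ofHom (algebraMap R₁ C)) ≫ c := by
    rw [← fl'_ov a c hc e he pts v', ← hw', Category.assoc, Over.w]
  let u : Over.mk (Spec.map (CommRingCat.ofHom (algebraMap R₁ C)) ≫ c) ⟶ P := Over.homMk w h1
  let u' : Over.mk (Spec.map (CommRingCat.ofHom (algebraMap R₁ C)) ≫ c) ⟶ P := Over.homMk w' h2
  have h3 : u ≫ i = fo a c hc e he pts C v := by
    ext1
    exact hw
  have h4 : u' ≫ i = fo a c hc e he pts C v' := by
    ext1
    exact hw'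
  refine ⟨(u * u').left, ?_⟩
  rw [fl', map_mul, ← h3, ← h4, ← MonObj.mul_comp]
  rfl

end fo

end Groth.Agent.CanPar.K795.PtFun
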