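import Groth.Agent.CanPar.K795.TanDict
import Mathlib.LinearAlgebra.Dual.Basis

/-!
# The basis of the conormal module dual to the standard tangent vectors

`exists_basis`: if the tangent vectors of `X` are the vectors with coordinates in `I ⊆ J`, then the stalk of the
conormal module has a basis indexed by `I` such that the functional of `mkL c` is `t ↦ ∑ j, repr t j • c j`.
-/

set_option autoImplicit false
set_option linter.unusedSectionVars false
set_option linter.style.haveILetI false
universe u

open CategoryTheory CategoryTheory.Limits AlgebraicGeometry Opposite TopologicalSpace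

namespace Groth.Agent.CanPar.K795.TanDict

open Groth.Agent.Sga67.Sec Groth.Agent.Dual.H366.ConSec
open Groth.Agent.CanPar.K795.Iface Groth.Agent.CanPar.K795.ConLin
open Groth.Agent.CanPar.K795.TanPt Groth.Agent.CanPar.K795.AdMat
open Groth.Agent.Sga3B Groth.Agent.Sga3B.Cell K929.LieDict

section

variable {idx M : Type} [Fintype idx] [AddCommGroup M] [Module.Free ℤ M]
    [Module.Finite ℤ M] {P : RootPairing idx ℤ M (Module.Dual ℤ M)} {b : P.Base}
    {k A : Type u} [Field k] [CommRing A] [Algebra k A] [PtGrp k A] (E : PinCell P b k A)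
    {B : Type u} [CommRing B] [Algebra k B]

lemma mkL_add (c c' : J idx M → B) : mkL E (c + c') = mkL E c * mkL E c' := by
  apply ext_dv (tfst_mkL E _) (tfst_mul (tfst_mkL E _) (tfst_mkL E _))
  intro f
  rw [dv_mul (tfst_mkL E _) (tfst_mkL E _), dv_mkL_add]

lemma mkL_smul (y : B) (c : J idx M → B) : mkL E (fun j => y * c j) = Pt.map (dscale k y) (mkL E c) := by
  apply ext_dv (tfst_mkL E _) (tfst_dscale (tfst_mkL E _) y)
  intro f
  rw [dv_dscale, dv_mkL_smul]

end

section lin

variable {R N I : Type u} [CommRing R] [AddCommGroup N] [Module R N]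

end lin

/-- extension by zero -/
def ex {J : Type} (I : Finset J) [DecidableEq J] {C : Type u} [CommRing C] (c : I → C) : J → C :=
  fun j => if h : j ∈ I then c ⟨j, h⟩ else 0

section ex

variable {J : Type} (I : Finset J) [DecidableEq J] {C C' : Type u} [CommRing C] [CommRing C']

lemma ex_mem (c : I → C) (j : I) : ex I c j = c j := by
  rw [ex, dif_pos j.2]

lemma ex_not_mem (c : I → C) {j : J} (h : j ∉ I) : ex I c j = 0 := by
  rw [ex, dif_neg h]

lemma ex_single [DecidableEq I] (j : I) (y : C) : ex I (Pi.single j y) = Pi.single (j : J) y := by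
  funext i
  by_cases h : i ∈ I
  · rw [ex_mem I _ ⟨i, h⟩]
    by_cases h2 : i = j
    · have h3 : (⟨i, h⟩ : I) = j := Subtype.ext h2
      rw [h3, h2, Pi.single_eq_same, Pi.single_eq_same]
    · rw [Pi.single_eq_of_ne (fun h3 => h2 (congrArg Subtype.val h3)), Pi.single_eq_of_ne h2]
  · rw [ex_not_mem I _ h, Pi.single_eq_of_ne]
    rintro rfl
    exact h j.2

lemma ex_add (c c' : I → C) : ex I (c + c') = ex I c + ex I c' := by
  funext i
  by_cases h : i ∈ I
  · rw [ex_mem I _ ⟨i, h⟩, Pi.add_apply, Pi.add_apply, ex_mem I _ ⟨i, h⟩, ex_mem I _ ⟨i, h⟩]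
  · rw [Pi.add_apply, ex_not_mem I _ h, ex_not_mem I _ h, ex_not_mem I _ h, add_zero]

lemma ex_sum {ι : Type*} (s : Finset ι) (c : ι → I → C) : ex I (∑ a ∈ s, c a) = ∑ a ∈ s, ex I (c a) := by
  classical
  induction s using Finset.induction with
  | empty =>
    funext i
    by_cases h : i ∈ I
    · rw [ex_mem I _ ⟨i, h⟩]
      rfl
    · rw [ex_not_mem I _ h]
      rfl
  | insert a s ha ih => rw [Finset.sum_insert ha, Finset.sum_insert ha, ex_add, ih]

lemma ex_injective {c c' : I → C} (h : ex I c = ex I c') : c = c' := by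
  funext j
  rw [← ex_mem I c j, h, ex_mem]

lemma exists_ex {c : J → C} (h : ∀ j, j ∉ I → c j = 0) : ∃ c', c = ex I c' := by
  refine ⟨fun j => c j, ?_⟩
  funext j
  by_cases hj : j ∈ I
  · rw [ex_mem I _ ⟨j, hj⟩]
  · rw [ex_not_mem I _ hj, h j hj]

end ex

section main

variable {Z : Scheme.{u}} {x : Z} {k A : Type u} [Field k] [CommRing A] [Algebra k A] [PtGrp k A]
  [Algebra k (Z.presheaf.stalk x)] {X Y : Scheme.{u}} {π : X ⟶ Z} {πY : Y ⟶ Z} {e : Z ⟶ X} {eY : Z ⟶ Y}
  {F : FunPt x k A Y} {i : X ⟶ Y}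
  {idx M : Type} [Fintype idx] [AddCommGroup M] [Module.Free ℤ M]
    [Module.Finite ℤ M] {P : RootPairing idx ℤ M (Module.Dual ℤ M)} {b : P.Base} (E : PinCell P b k A)
    [DecidableEq (J idx M)] (I : Finset (J idx M))
  (hF : PF x πY eY F) (hπ : i ≫ πY = π) (hie : e ≫ i = eY)
  (hmul : ∀ {B : Type u} [CommRing B] [Algebra k B]
      [Algebra (Z.presheaf.stalk x) B] [IsScalarTower k (Z.presheaf.stalk x) B] (v v' : Pt k A B),
      (∃ w, w ≫ i = F B v) → (∃ w, w ≫ i = F B v') → ∃ w, w ≫ i = F B (v * v'))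
  (hI : ∀ {C : Type u} [CommRing C] [Algebra k C] [Algebra (Z.presheaf.stalk x) C]
    [IsScalarTower k (Z.presheaf.stalk x) C] (c : J idx M → C),
    (∃ w, w ≫ i = F (TrivSqZeroExt C C) (mkL E c)) ↔ ∀ j, j ∉ I → c j = 0)

/-- the functional with coordinates `c` -/
noncomputable def fl {R N : Type u} [CommRing R] [AddCommGroup N] [Module R N] {ι : Type} [Fintype ι]
    (ψ : ι → N →ₗ[R] R) {C : Type u} [CommRing C] [Algebra R C] (c : ι → C) : N →ₗ[R] C :=
  ∑ j, (LinearMap.toSpanSingleton R C (c j)).comp (ψ j)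

lemma fl_apply {R N : Type u} [CommRing R] [AddCommGroup N] [Module R N] {ι : Type} [Fintype ι]
    (ψ : ι → N →ₗ[R] R) {C : Type u} [CommRing C] [Algebra R C] (c : ι → C) (t : N) :
    fl ψ c t = ∑ j, algebraMap R C (ψ j t) * c j := by
  rw [fl, LinearMap.sum_apply]
  apply Finset.sum_congr rfl
  intro j _
  rw [LinearMap.comp_apply, LinearMap.toSpanSingleton_apply, Algebra.smul_def]

include hF hie hmul hI in
/-- the functional of `mkL c` -/
theorem exists_psi [Mono i] [QuasiCompact e] :
    ∃ ψ : I → (Omega.conormal e).presheaf.stalk x →ₗ[Z.presheaf.stalk x] Z.presheaf.stalk x,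
      ∀ {C : Type u} [CommRing C] [Algebra k C] [Algebra (Z.presheaf.stalk x) C]
        [IsScalarTower k (Z.presheaf.stalk x) C] (c : I → C), Ph e F i (mkL E (ex I c)) (fl ψ c) := by
  classical
  have h1 : ∀ j : I, ∃ φ, Ph (C := Z.presheaf.stalk x) e F i
      (mkL E (Pi.single (j : J idx M) (1 : Z.presheaf.stalk x))) φ := by
    intro j
    apply exists_phi' hF hie (tfst_mkL E _)
    rw [hI]
    intro j' hj'
    rw [Pi.single_eq_of_ne]
    rintro rfl
    exact hj' j.2
  choose ψ hψ using h1
  refine ⟨ψ, ?_⟩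
  intro C _ _ _ _ c
  have h2 : ∀ (j : I) (y : C), Ph e F i (mkL E (Pi.single (j : J idx M) y))
      ((LinearMap.toSpanSingleton (Z.presheaf.stalk x) C y).comp (ψ j)) := by
    intro j y
    have h3 := ((hψ j).map hF (IsScalarTower.toAlgHom k (Z.presheaf.stalk x) C)
      (Algebra.ofId (Z.presheaf.stalk x) C) (fun a => rfl)).scale hF y
    rw [mkL_map, ← mkL_smul] at h3
    have h4 : (fun j_1 => y * (IsScalarTower.toAlgHom k (Z.presheaf.stalk x) C)
        ((Pi.single (j : J idx M) (1 : Z.presheaf.stalk x) : J idx M → Z.presheaf.stalk x) j_1)) =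
        Pi.single (j : J idx M) y := by
      funext j'
      by_cases h : j' = j
      · rw [h, Pi.single_eq_same, Pi.single_eq_same, map_one, mul_one]
      · rw [Pi.single_eq_of_ne h, Pi.single_eq_of_ne h, map_zero, mul_zero]
    rw [h4] at h3
    convert h3 using 1
    ext t
    change ψ j t • y = y * algebraMap _ C (ψ j t)
    rw [Algebra.smul_def, mul_comm]
  have h0 : Ph e F i (mkL E (0 : J idx M → C)) 0 := by
    obtain ⟨φ, hφ⟩ := exists_phi' hF hie (tfst_mkL E (0 : J idx M → C)) ((hI 0).2 fun _ _ => rfl)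
    have h3 := hφ.scale hF 0
    rw [← mkL_smul] at h3
    have h4 : (fun j => (0 : C) * (0 : J idx M → C) j) = 0 := by
      funext j
      exact zero_mul _
    rw [h4] at h3
    convert h3 using 1
    ext t
    change (0 : C) = 0 * _
    rw [zero_mul]
  have h5 : ∀ s : Finset I, Ph e F i (mkL E (∑ j ∈ s, Pi.single (j : J idx M) (c j)))
      (∑ j ∈ s, (LinearMap.toSpanSingleton (Z.presheaf.stalk x) C (c j)).comp (ψ j)) := by
    intro s
    induction s using Finset.induction with
    | empty =>
      rw [Finset.sum_empty, Finset.sum_empty]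
      exact h0
    | insert j s hj ih =>
      rw [Finset.sum_insert hj, Finset.sum_insert hj, mkL_add]
      exact (h2 j (c j)).add hF hie hmul ih
  have h6 := h5 Finset.univ
  have h7 : ex I c = ∑ j : I, Pi.single (j : J idx M) (c j) := by
    have h8 : c = ∑ j : I, Pi.single j (c j) := (Finset.univ_sum_single c).symm
    conv_lhs => rw [h8, ex_sum]
    apply Finset.sum_congr rfl
    intro j _
    rw [ex_single]
  rw [h7]
  exact h6

include hF hπ hie hmul hI in
/-- **the dual basis** -/
theorem exists_basis [Mono i] [IsAffineHom π] (he : e ≫ π = 𝟙 Z) [QuasiCompact e]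
    [Module.Free (Z.presheaf.stalk x) ((Omega.conormal e).presheaf.stalk x)]
    [Module.Finite (Z.presheaf.stalk x) ((Omega.conormal e).presheaf.stalk x)] :
    ∃ β : Module.Basis I (Z.presheaf.stalk x) ((Omega.conormal e).presheaf.stalk x),
      ∀ {C : Type u} [CommRing C] [Algebra k C] [Algebra (Z.presheaf.stalk x) C]
        [IsScalarTower k (Z.presheaf.stalk x) C] (c : I → C),
        Ph e F i (mkL E (ex I c)) (fl (fun j => β.coord j) c) := by
  classical
  obtain ⟨ψ, hψ⟩ := exists_psi E I hF hie hmul hI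
  let Θ : (I → Z.presheaf.stalk x) →ₗ[Z.presheaf.stalk x]
      Module.Dual (Z.presheaf.stalk x) ((Omega.conormal e).presheaf.stalk x) :=
    { toFun := fun c => ∑ j, c j • ψ j
      map_add' := fun c c' => by simp [add_smul, Finset.sum_add_distrib]
      map_smul' := fun r c => by simp [mul_smul, Finset.smul_sum] }
  have hΘ : ∀ c, Θ c = fl ψ c := by
    intro c
    ext t
    rw [fl_apply]
    change (∑ j, c j • ψ j) t = _
    rw [LinearMap.sum_apply]
    apply Finset.sum_congr rfl
    intro j _
    change c j * ψ j t = ψ j t * c j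
    rw [mul_comm]
  have hbij : Function.Bijective Θ := by
    constructor
    · intro c c' h
      rw [hΘ, hΘ] at h
      have h1 := hψ c
      rw [h] at h1
      exact ex_injective I (mkL_injective E (Ph.inj hF hπ hie he h1 (hψ c')))
    · intro φ
      obtain ⟨v, hv, hφ⟩ := exists_ph hF hπ hie he φ
      obtain ⟨c, rfl⟩ := exists_mkL E v hv
      obtain ⟨w, -, hw, -⟩ := id hφ
      obtain ⟨c', rfl⟩ := exists_ex I ((hI c).1 ⟨w, hw⟩)
      refine ⟨c', ?_⟩
      rw [hΘ]
      exact (hψ c').unique hφ
  let Θe := LinearEquiv.ofBijective Θ hbij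
  let B : Module.Basis I (Z.presheaf.stalk x) (Module.Dual (Z.presheaf.stalk x)
      ((Omega.conormal e).presheaf.stalk x)) := Module.Basis.ofEquivFun Θe.symm
  have hB : ∀ j, B j = ψ j := by
    intro j
    have h0 : B j = Θ (Pi.single j 1) := by
      change Module.Basis.ofEquivFun Θe.symm j = _
      rw [Module.Basis.coe_ofEquivFun]
      rfl
    rw [h0]
    change (∑ j', (Pi.single j (1 : Z.presheaf.stalk x) : I → Z.presheaf.stalk x) j' • ψ j') = ψ j
    rw [Finset.sum_eq_single j]
    · rw [Pi.single_eq_same, one_smul]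
    · intro j' _ h
      rw [Pi.single_eq_of_ne h, zero_smul]
    · intro h
      exact absurd (Finset.mem_univ _) h
  let β := B.dualBasis.map (Module.evalEquiv (Z.presheaf.stalk x) ((Omega.conormal e).presheaf.stalk x)).symm
  have hβ : ∀ j, β.coord j = ψ j := by
    intro j
    ext t
    change β.repr t j = ψ j t
    have h1 : β.repr t j = B.dualBasis.repr (Module.evalEquiv (Z.presheaf.stalk x) _ t) j := rfl
    rw [h1, Module.Basis.dualBasis_repr, hB]
    rfl
  refine ⟨β, ?_⟩
  intro C _ _ _ _ c
  have h1 : (fun j => β.coord j) = ψ := funext hβ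
  rw [h1]
  exact hψ c

end main

end Groth.Agent.CanPar.K795.TanDict
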