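import Groth.Agent.CanPar.K795.TanPt
import Groth.Agent.CanPar.K795.AdBor

/-!
# The tangent dictionary

`F` computes the points of `Y / Z` over the algebras over the local ring of `x ∈ Z` by the points of the pinned group.
`i : X ⟶ Y` is a monomorphism stable under products, `X` affine over `Z`.

* `Ph`: `φ` is the functional of the tangent point `v` of `X`; `Ph.add`, `Ph.scale`, `Ph.map`, `Ph.inj`, `exists_ph`.
* `exists_basis`: the basis of the stalk of the conormal module dual to the standard tangent vectors.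
-/

set_option autoImplicit false
set_option linter.unusedSectionVars false
set_option linter.style.haveILetI false
universe u

open CategoryTheory CategoryTheory.Limits AlgebraicGeometry Opposite TopologicalSpace

namespace Groth.Agent.CanPar.K795.TanDict

open Groth.Agent.Sga67.Sec Groth.Agent.Dual.H366.ConSec
open Groth.Agent.CanPar.K795.Iface Groth.Agent.CanPar.K795.ConLin
open Groth.Agent.CanPar.K795.TanPt Groth.Agent.CanPar.K795.AdMat
open Groth.Agent.Sga3B Groth.Agent.Sga3B.Cell K929.LieDict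

section

variable {Z : Scheme.{u}} (x : Z) (k A : Type u) [Field k] [CommRing A] [Algebra k A] [PtGrp k A]
  [Algebra k (Z.presheaf.stalk x)]

/-- points of `Y` over algebras over the local ring of `x`, given by points of the pinned group -/
abbrev FunPt (Y : Scheme.{u}) : Type (u + 1) :=
  ∀ (C : Type u) [CommRing C] [Algebra k C] [Algebra (Z.presheaf.stalk x) C]
    [IsScalarTower k (Z.presheaf.stalk x) C], Pt k A C → (Spec (CommRingCat.of C) ⟶ Y)

variable {k A} {Y : Scheme.{u}}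

/-- the properties of `F` -/
structure PF (πY : Y ⟶ Z) (eY : Z ⟶ Y) (F : FunPt x k A Y) : Prop where
  nat : ∀ {C C' : Type u} [CommRing C] [Algebra k C] [Algebra (Z.presheaf.stalk x) C]
    [IsScalarTower k (Z.presheaf.stalk x) C] [CommRing C'] [Algebra k C'] [Algebra (Z.presheaf.stalk x) C']
    [IsScalarTower k (Z.presheaf.stalk x) C'] (φ : C →ₐ[k] C')
    (_ : ∀ a, φ (algebraMap (Z.presheaf.stalk x) C a) = algebraMap (Z.presheaf.stalk x) C' a) (v : Pt k A C),
    Spec.map (CommRingCat.ofHom (φ : C →+* C')) ≫ F C v = F C' (Pt.map φ v)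
  ov : ∀ {C : Type u} [CommRing C] [Algebra k C] [Algebra (Z.presheaf.stalk x) C]
    [IsScalarTower k (Z.presheaf.stalk x) C] (v : Pt k A C), F C v ≫ πY = ptS x C
  inj : ∀ {C : Type u} [CommRing C] [Algebra k C] [Algebra (Z.presheaf.stalk x) C]
    [IsScalarTower k (Z.presheaf.stalk x) C] (v v' : Pt k A C), F C v = F C v' → v = v'
  surj : ∀ {C : Type u} [CommRing C] [Algebra k C] [Algebra (Z.presheaf.stalk x) C]
    [IsScalarTower k (Z.presheaf.stalk x) C] (w : Spec (CommRingCat.of C) ⟶ Y), w ≫ πY = ptS x C → ∃ v, F C v = w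
  one : ∀ {C : Type u} [CommRing C] [Algebra k C] [Algebra (Z.presheaf.stalk x) C]
    [IsScalarTower k (Z.presheaf.stalk x) C], F C 1 = ptS x C ≫ eY

end

section ph

variable {Z : Scheme.{u}} {x : Z} {k A : Type u} [Field k] [CommRing A] [Algebra k A] [PtGrp k A]
  [Algebra k (Z.presheaf.stalk x)] {X Y : Scheme.{u}} {π : X ⟶ Z} {πY : Y ⟶ Z} {e : Z ⟶ X} {eY : Z ⟶ Y}
  {F : FunPt x k A Y} {i : X ⟶ Y}
  {C C' : Type u} [CommRing C] [Algebra k C] [Algebra (Z.presheaf.stalk x) C]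
    [IsScalarTower k (Z.presheaf.stalk x) C] [CommRing C'] [Algebra k C'] [Algebra (Z.presheaf.stalk x) C']
    [IsScalarTower k (Z.presheaf.stalk x) C']

theorem ptS_eps : ptS x (TrivSqZeroExt C C) = pr C ≫ ptS x C := by
  rw [ptS, ptS, pr, ← Category.assoc, ← Spec.map_comp, ← CommRingCat.ofHom_comp]

variable (F i e) in
/-- `φ` is the functional of the tangent point `v` of `X` -/
def Ph (v : Pt k A (TrivSqZeroExt C C))
    (φ : (Omega.conormal e).presheaf.stalk x →ₗ[Z.presheaf.stalk x] C) : Prop :=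
  ∃ (w : Spec (CommRingCat.of (TrivSqZeroExt C C)) ⟶ X) (hz : zr C ≫ w = ptS x C ≫ e),
    w ≫ i = F (TrivSqZeroExt C C) v ∧ IsPhi hz φ

theorem Ph.unique [Mono i] {v : Pt k A (TrivSqZeroExt C C)}
    {φ φ' : (Omega.conormal e).presheaf.stalk x →ₗ[Z.presheaf.stalk x] C} (h : Ph e F i v φ) (h' : Ph e F i v φ') :
    φ = φ' := by
  obtain ⟨w, hz, hw, hφ⟩ := h
  obtain ⟨w', hz', hw', hφ'⟩ := h'
  have h1 : w = w' := by rw [← cancel_mono i, hw, hw']
  subst h1
  exact hφ.unique hφ'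

variable (hF : PF x πY eY F) (hπ : i ≫ πY = π) (hie : e ≫ i = eY)

include hF hie in
theorem zr_eq [Mono i] {v : Pt k A (TrivSqZeroExt C C)} (hv : Pt.map (tfst k C) v = 1)
    {w : Spec (CommRingCat.of (TrivSqZeroExt C C)) ⟶ X} (hw : w ≫ i = F (TrivSqZeroExt C C) v) :
    zr C ≫ w = ptS x C ≫ e := by
  have h1 := hF.nat (tfst k C) (fun a => rfl) v
  rw [← cancel_mono i, Category.assoc, Category.assoc, hw, hie, ← hF.one, ← hv]
  exact h1

include hF hπ in
theorem over_eq {v : Pt k A (TrivSqZeroExt C C)} {w : Spec (CommRingCat.of (TrivSqZeroExt C C)) ⟶ X}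
    (hw : w ≫ i = F (TrivSqZeroExt C C) v) : w ≫ π = pr C ≫ ptS x C := by
  rw [← hπ, ← Category.assoc, hw, hF.ov, ptS_eps]

include hF hie in
/-- tangent points of `X` have functionals -/
theorem exists_phi' [Mono i] [QuasiCompact e] {v : Pt k A (TrivSqZeroExt C C)} (hv : Pt.map (tfst k C) v = 1)
    (h : ∃ w, w ≫ i = F (TrivSqZeroExt C C) v) : ∃ φ, Ph e F i v φ := by
  obtain ⟨w, hw⟩ := h
  obtain ⟨φ, hφ⟩ := exists_phi (zr_eq hF hie hv hw)
  exact ⟨φ, w, zr_eq hF hie hv hw, hw, hφ⟩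

include hF in
theorem Ph.map_tfst [Mono i] {v : Pt k A (TrivSqZeroExt C C)} (hie : e ≫ i = eY)
    {φ : (Omega.conormal e).presheaf.stalk x →ₗ[Z.presheaf.stalk x] C} (h : Ph e F i v φ) :
    Pt.map (tfst k C) v = 1 := by
  obtain ⟨w, hz, hw, hφ⟩ := h
  apply hF.inj
  rw [hF.one, ← hie, ← Category.assoc, ← hz, Category.assoc, hw]
  exact (hF.nat (tfst k C) (fun a => rfl) v).symm

include hF hπ hie in
/-- tangent points are determined by their functionals -/
theorem Ph.inj [Mono i] [IsAffineHom π] (he : e ≫ π = 𝟙 Z) [QuasiCompact e] {v v' : Pt k A (TrivSqZeroExt C C)}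
    {φ : (Omega.conormal e).presheaf.stalk x →ₗ[Z.presheaf.stalk x] C} (h : Ph e F i v φ) (h' : Ph e F i v' φ) :
    v = v' := by
  obtain ⟨w, hz, hw, hφ⟩ := h
  obtain ⟨w', hz', hw', hφ'⟩ := h'
  apply hF.inj
  rw [← hw, ← hw', tan_ext he hz hz' (over_eq hF hπ hw) (over_eq hF hπ hw') hφ hφ']

include hF hπ hie in
/-- every functional is one of a tangent point -/
theorem exists_ph [Mono i] [IsAffineHom π] (he : e ≫ π = 𝟙 Z) [QuasiCompact e]
    (φ : (Omega.conormal e).presheaf.stalk x →ₗ[Z.presheaf.stalk x] C) :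
    ∃ v : Pt k A (TrivSqZeroExt C C), Pt.map (tfst k C) v = 1 ∧ Ph e F i v φ := by
  obtain ⟨w, hz, hw, hφ⟩ := exists_tan he φ
  obtain ⟨v, hv⟩ := hF.surj (w ≫ i) (by rw [Category.assoc, hπ, hw, ptS_eps])
  have h1 : Ph e F i v φ := ⟨w, hz, hv.symm, hφ⟩
  exact ⟨v, h1.map_tfst hF hie, h1⟩

include hF in
/-- functoriality -/
theorem Ph.map (j : C →ₐ[k] C') (j' : C →ₐ[Z.presheaf.stalk x] C') (hj : ∀ a, j a = j' a)
    {v : Pt k A (TrivSqZeroExt C C)}
    {φ : (Omega.conormal e).presheaf.stalk x →ₗ[Z.presheaf.stalk x] C} (h : Ph e F i v φ) :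
    Ph e F i (Pt.map (dmap j) v) (j'.toLinearMap.comp φ) := by
  obtain ⟨w, hz, hw, hφ⟩ := h
  have h1 := hF.nat (dmap j) (fun a => TrivSqZeroExt.ext ((hj _).trans (j'.commutes a)) (map_zero j)) v
  have h2 : (dmap j').toRingHom = (dmap j : TrivSqZeroExt C C →+* TrivSqZeroExt C' C') :=
    RingHom.ext fun z => TrivSqZeroExt.ext (hj z.fst).symm (hj z.snd).symm
  have h3 : dm j' = Spec.map (CommRingCat.ofHom (dmap j : TrivSqZeroExt C C →+* TrivSqZeroExt C' C')) := by
    rw [dm, h2]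
  refine ⟨dm j' ≫ w, tan_dm j' hz, ?_, hφ.dm j'⟩
  rw [Category.assoc, hw, h3]
  exact h1

include hF in
/-- homogeneity -/
theorem Ph.scale (y : C) {v : Pt k A (TrivSqZeroExt C C)}
    {φ : (Omega.conormal e).presheaf.stalk x →ₗ[Z.presheaf.stalk x] C} (h : Ph e F i v φ) :
    Ph e F i (Pt.map (dscale k y) v) ((LinearMap.mulLeft (Z.presheaf.stalk x) y).comp φ) := by
  obtain ⟨w, hz, hw, hφ⟩ := h
  have h1 := hF.nat (dscale k y) (fun a => TrivSqZeroExt.ext rfl (mul_zero y)) v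
  have h2 : zr C ≫ Spec.map (CommRingCat.ofHom (dscale k y : TrivSqZeroExt C C →+* TrivSqZeroExt C C)) = zr C := by
    rw [zr, ← Spec.map_comp, ← CommRingCat.ofHom_comp]
    rfl
  have h3 : zr C ≫ Spec.map (CommRingCat.ofHom (dscale k y : TrivSqZeroExt C C →+* TrivSqZeroExt C C)) ≫ w =
      ptS x C ≫ e := by rw [← Category.assoc, h2, hz]
  refine ⟨Spec.map (CommRingCat.ofHom (dscale k y : TrivSqZeroExt C C →+* TrivSqZeroExt C C)) ≫ w, h3, ?_, ?_⟩
  · rw [Category.assoc, hw]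
    exact h1
  · intro W hx c
    have h4 := ev_comp (dscale k y : TrivSqZeroExt C C →+* TrivSqZeroExt C C) w W (le_of_tan hz hx)
      (le_of_tan h3 hx) (valS e W c)
    refine Eq.trans ?_ (congrArg TrivSqZeroExt.snd h4).symm
    exact congrArg (fun z => y * z) (hφ W hx c)

include hF in
/-- additivity -/
theorem Ph.add [Mono i] (hie : e ≫ i = eY) (hmul : ∀ {B : Type u} [CommRing B] [Algebra k B]
      [Algebra (Z.presheaf.stalk x) B] [IsScalarTower k (Z.presheaf.stalk x) B] (v v' : Pt k A B),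
      (∃ w, w ≫ i = F B v) → (∃ w, w ≫ i = F B v') → ∃ w, w ≫ i = F B (v * v'))
    {v v' : Pt k A (TrivSqZeroExt C C)}
    {φ φ' : (Omega.conormal e).presheaf.stalk x →ₗ[Z.presheaf.stalk x] C} (h : Ph e F i v φ) (h' : Ph e F i v' φ') :
    Ph e F i (v * v') (φ + φ') := by
  have hv := h.map_tfst hF hie
  have hv' := h'.map_tfst hF hie
  obtain ⟨w, hz, hw, hφ⟩ := h
  obtain ⟨w', hz', hw', hφ'⟩ := h'
  let i₁ : TrivSqZeroExt C C →ₐ[k] TrivSqZeroExt C (C × C) :=
    tsmap (AlgHom.id k C) (AddMonoidHom.inl C C) (fun b m => by simp)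
  let i₂ : TrivSqZeroExt C C →ₐ[k] TrivSqZeroExt C (C × C) :=
    tsmap (AlgHom.id k C) (AddMonoidHom.inr C C) (fun b m => by simp)
  let p₁ : TrivSqZeroExt C (C × C) →ₐ[k] TrivSqZeroExt C C :=
    tsmap (AlgHom.id k C) (AddMonoidHom.fst C C) (fun b m => by simp)
  let p₂ : TrivSqZeroExt C (C × C) →ₐ[k] TrivSqZeroExt C C :=
    tsmap (AlgHom.id k C) (AddMonoidHom.snd C C) (fun b m => by simp)
  let s : TrivSqZeroExt C (C × C) →ₐ[k] TrivSqZeroExt C C :=
    tsmap (AlgHom.id k C) (AddMonoidHom.fst C C + AddMonoidHom.snd C C)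
      (fun b m => by simp [mul_add])
  have e11 : p₁.comp i₁ = AlgHom.id k _ := by
    exact AlgHom.ext fun x => TrivSqZeroExt.ext rfl rfl
  have e12 : p₁.comp i₂ = (tinl k C).comp (tfst k C) := by
    exact AlgHom.ext fun x => TrivSqZeroExt.ext rfl rfl
  have e21 : p₂.comp i₁ = (tinl k C).comp (tfst k C) := by
    exact AlgHom.ext fun x => TrivSqZeroExt.ext rfl rfl
  have e22 : p₂.comp i₂ = AlgHom.id k _ := by
    exact AlgHom.ext fun x => TrivSqZeroExt.ext rfl rfl
  have es1 : s.comp i₁ = AlgHom.id k _ := by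
    exact AlgHom.ext fun x => TrivSqZeroExt.ext rfl (add_zero _)
  have es2 : s.comp i₂ = AlgHom.id k _ := by
    exact AlgHom.ext fun x => TrivSqZeroExt.ext rfl (zero_add _)
  set G := Pt.map i₁ v * Pt.map i₂ v' with hG
  have h1 : Pt.map p₁ G = v := by
    rw [hG, Pt.map_mul, Pt.map_map, Pt.map_map, e11, e12, ← Pt.map_map, hv', Pt.map_one, mul_one,
      Pt.map_id]
  have h2 : Pt.map p₂ G = v' := by
    rw [hG, Pt.map_mul, Pt.map_map, Pt.map_map, e21, e22, ← Pt.map_map, hv, Pt.map_one, one_mul,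
      Pt.map_id]
  have h3 : Pt.map s G = v * v' := by
    rw [hG, Pt.map_mul, Pt.map_map, Pt.map_map, es1, es2, Pt.map_id, Pt.map_id]
  obtain ⟨W₂, hW₂⟩ : ∃ w, w ≫ i = F (TrivSqZeroExt C (C × C)) G := by
    apply hmul
    · exact ⟨Spec.map (CommRingCat.ofHom (i₁ : TrivSqZeroExt C C →+* TrivSqZeroExt C (C × C))) ≫ w, by
        rw [Category.assoc, hw]
        exact hF.nat i₁ (fun a => TrivSqZeroExt.ext rfl rfl) v⟩
    · exact ⟨Spec.map (CommRingCat.ofHom (i₂ : TrivSqZeroExt C C →+* TrivSqZeroExt C (C × C))) ≫ w', by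
        rw [Category.assoc, hw']
        exact hF.nat i₂ (fun a => TrivSqZeroExt.ext rfl rfl) v'⟩
  have k1 : Spec.map (CommRingCat.ofHom (p₁ : TrivSqZeroExt C (C × C) →+* TrivSqZeroExt C C)) ≫ W₂ = w := by
    rw [← cancel_mono i, Category.assoc, hW₂, hw, ← h1]
    exact hF.nat p₁ (fun a => TrivSqZeroExt.ext rfl rfl) G
  have k2 : Spec.map (CommRingCat.ofHom (p₂ : TrivSqZeroExt C (C × C) →+* TrivSqZeroExt C C)) ≫ W₂ = w' := by
    rw [← cancel_mono i, Category.assoc, hW₂, hw', ← h2]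
    exact hF.nat p₂ (fun a => TrivSqZeroExt.ext rfl rfl) G
  have k3 : (Spec.map (CommRingCat.ofHom (s : TrivSqZeroExt C (C × C) →+* TrivSqZeroExt C C)) ≫ W₂) ≫ i =
      F (TrivSqZeroExt C C) (v * v') := by
    rw [Category.assoc, hW₂, ← h3]
    exact hF.nat s (fun a => TrivSqZeroExt.ext rfl (add_zero (0 : C))) G
  have hz3 := zr_eq hF hie (by rw [tfst_mul hv hv']) k3
  refine ⟨_, hz3, k3, ?_⟩
  -- the image of `W₂`
  have htop : ∀ (W : X.Opens) (_ : x ∈ e ⁻¹ᵁ W), ⊤ ≤ W₂ ⁻¹ᵁ W := by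
    intro W hx y _
    have hy : Spec.map (CommRingCat.ofHom (p₁ : TrivSqZeroExt C (C × C) →+* TrivSqZeroExt C C))
        (Spec.map (CommRingCat.ofHom (i₁ : TrivSqZeroExt C C →+* TrivSqZeroExt C (C × C))) y) = y := by
      apply PrimeSpectrum.ext
      ext z
      change i₁ (p₁ z) ∈ y.asIdeal ↔ z ∈ y.asIdeal
      have h : (TrivSqZeroExt.inr (z.snd - (z.snd.1, 0)) : TrivSqZeroExt C (C × C)) ∈ y.asIdeal := by
        apply y.2.mem_of_pow_mem 2
        rw [pow_two, TrivSqZeroExt.inr_mul_inr]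
        exact Ideal.zero_mem _
      have h2 : z = i₁ (p₁ z) + TrivSqZeroExt.inr (z.snd - (z.snd.1, 0)) := by
        apply TrivSqZeroExt.ext
        · change z.fst = z.fst + 0
          rw [add_zero]
        · change z.snd = (z.snd.1, 0) + (z.snd - (z.snd.1, 0))
          rw [add_sub_cancel]
      constructor
      · intro h3
        rw [h2]
        exact Ideal.add_mem _ h3 h
      · intro h3
        rw [h2] at h3
        exact (Ideal.add_mem_iff_left _ h).1 h3
    change W₂ y ∈ W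
    rw [← hy]
    change (Spec.map (CommRingCat.ofHom (p₁ : TrivSqZeroExt C (C × C) →+* TrivSqZeroExt C C)) ≫ W₂) _ ∈ W
    rw [k1]
    exact le_of_tan hz hx trivial
  intro W hx c
  have m1 := ev_comp (p₁ : TrivSqZeroExt C (C × C) →+* TrivSqZeroExt C C) W₂ W (htop W hx)
    (by rw [k1]; exact le_of_tan hz hx) (valS e W c)
  have m2 := ev_comp (p₂ : TrivSqZeroExt C (C × C) →+* TrivSqZeroExt C C) W₂ W (htop W hx)
    (by rw [k2]; exact le_of_tan hz' hx) (valS e W c)
  have m3 := ev_comp (s : TrivSqZeroExt C (C × C) →+* TrivSqZeroExt C C) W₂ W (htop W hx)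
    (le_of_tan hz3 hx) (valS e W c)
  rw [ev_congr k1 W _ (le_of_tan hz hx)] at m1
  rw [ev_congr k2 W _ (le_of_tan hz' hx)] at m2
  have n1 : φ (dl e W x hx c) = (ev W₂ W (htop W hx) (valS e W c)).snd.1 :=
    (hφ W hx c).trans (congrArg (fun z : TrivSqZeroExt C C => z.snd) m1)
  have n2 : φ' (dl e W x hx c) = (ev W₂ W (htop W hx) (valS e W c)).snd.2 :=
    by
    have m2' := congrArg (fun z : TrivSqZeroExt C C => z.snd) m2
    exact (hφ' W hx c).trans m2'
  refine Eq.trans ?_ (congrArg TrivSqZeroExt.snd m3).symm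
  change φ (dl e W x hx c) + φ' (dl e W x hx c) = (ev W₂ W (htop W hx) (valS e W c)).snd.1 +
    (ev W₂ W (htop W hx) (valS e W c)).snd.2
  rw [n1, n2]

end ph

end Groth.Agent.CanPar.K795.TanDict
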