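import Groth.Agent.CanPar.K795.ConLin
import Groth.Agent.LieWt.K929.LieDict

/-!
# Tangent points at a section and functionals on the stalks of the conormal module

`π : X ⟶ Z` affine with section `e`, `x ∈ Z`, `C` an `O_{Z,x}`-algebra, `ptS x C : Spec C ⟶ Z`.
* `ev w W hw : Γ(X, W) →+* D` evaluation of functions at `w : Spec D ⟶ X`;
* `IsTan π e x w`: `w : Spec C[ε] ⟶ X` is a tangent point at `e`;
* `exists_phi`: the functional of a tangent point; `exists_tan`, `tan_ext`: bijectivity;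
* `extends_iff`: a tangent point over `C` comes from `O ⊆ C` iff its functional has values in `O`.
-/

set_option autoImplicit false
set_option linter.unusedSectionVars false
set_option linter.style.haveILetI false
universe u

open CategoryTheory CategoryTheory.Limits AlgebraicGeometry Opposite TopologicalSpace

namespace Groth.Agent.CanPar.K795.TanPt

open Groth.Agent.Sga67.Sec Groth.Agent.Sga67.LocBasis Groth.Agent.Sga67.LocBasisStalk
open Groth.Agent.Krr.H487.LocBasisPull Groth.Agent.Dual.H366.ConSec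
open Groth.Agent.VarietyB Groth.Agent.CanPar.K795.Iface Groth.Agent.CanPar.K795.ConLin
open Groth.Agent.Sga3B.Cell K929.LieDict

section ev

variable {X Z : Scheme.{u}} {D D' : Type u} [CommRing D] [CommRing D']

/-- evaluation of functions at a point -/
noncomputable def ev (w : Spec (CommRingCat.of D) ⟶ X) (W : X.Opens) (hw : ⊤ ≤ w ⁻¹ᵁ W) : Γ(X, W) →+* D :=
  ((w.appLE W ⊤ hw) ≫ (Scheme.ΓSpecIso (CommRingCat.of D)).hom).hom

theorem ev_apply (w : Spec (CommRingCat.of D) ⟶ X) (W : X.Opens) (hw : ⊤ ≤ w ⁻¹ᵁ W) (a : Γ(X, W)) :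
    ev w W hw a = (Scheme.ΓSpecIso (CommRingCat.of D)).hom (w.appLE W ⊤ hw a) := rfl

theorem ev_comp (ρ : D →+* D') (w : Spec (CommRingCat.of D) ⟶ X) (W : X.Opens) (hw : ⊤ ≤ w ⁻¹ᵁ W)
    (hw' : ⊤ ≤ (Spec.map (CommRingCat.ofHom ρ) ≫ w) ⁻¹ᵁ W) (a : Γ(X, W)) :
    ev (Spec.map (CommRingCat.ofHom ρ) ≫ w) W hw' a = ρ (ev w W hw a) := by
  have h1 : (Spec.map (CommRingCat.ofHom ρ) ≫ w).appLE W ⊤ hw' =
      w.appLE W ⊤ hw ≫ (Spec.map (CommRingCat.ofHom ρ)).appTop := by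
    rw [← Scheme.Hom.appLE_comp_appLE (Spec.map (CommRingCat.ofHom ρ)) w W ⊤ ⊤ hw le_top]
    congr 1
  have h2 := Scheme.ΓSpecIso_naturality (CommRingCat.ofHom ρ)
  rw [ev_apply, ev_apply, h1]
  exact congr($(h2) (w.appLE W ⊤ hw a))

theorem ev_res (w : Spec (CommRingCat.of D) ⟶ X) {W W' : X.Opens} (h : W' ≤ W) (hw : ⊤ ≤ w ⁻¹ᵁ W')
    (hw' : ⊤ ≤ w ⁻¹ᵁ W) (a : Γ(X, W)) : ev w W' hw (resO X h a) = ev w W hw' a := by
  rw [ev_apply, ev_apply]
  congr 1
  have h1 := Scheme.Hom.map_appLE w hw (homOfLE h).op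
  exact congr($(h1) a)

theorem ev_comp_right (w : Spec (CommRingCat.of D) ⟶ X) (π : X ⟶ Z) (V : Z.Opens)
    (hw : ⊤ ≤ w ⁻¹ᵁ (π ⁻¹ᵁ V)) (hw' : ⊤ ≤ (w ≫ π) ⁻¹ᵁ V) (a : Γ(Z, V)) :
    ev (w ≫ π) V hw' a = ev w (π ⁻¹ᵁ V) hw (π.app V a) := by
  rw [ev_apply, ev_apply]
  congr 1

theorem ev_congr {w w' : Spec (CommRingCat.of D) ⟶ X} (h : w = w') (W : X.Opens) (hw : ⊤ ≤ w ⁻¹ᵁ W)
    (hw' : ⊤ ≤ w' ⁻¹ᵁ W) (a : Γ(X, W)) : ev w W hw a = ev w' W hw' a := by
  subst h
  rfl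

/-- a point in an affine open is determined by its values -/
theorem ext_ev {w w' : Spec (CommRingCat.of D) ⟶ X} {W : X.Opens} (hW : IsAffineOpen W) (hw : ⊤ ≤ w ⁻¹ᵁ W)
    (hw' : ⊤ ≤ w' ⁻¹ᵁ W) (h : ∀ a, ev w W hw a = ev w' W hw' a) : w = w' := by
  have key : ∀ (v : Spec (CommRingCat.of D) ⟶ X) (hv : ⊤ ≤ v ⁻¹ᵁ W),
      v = Spec.map (CommRingCat.ofHom (ev v W hv)) ≫ hW.fromSpec := by
    intro v hv
    have h1 : Set.range v ⊆ Set.range hW.fromSpec := by
      rintro _ ⟨y, rfl⟩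
      rw [hW.range_fromSpec]
      exact hv (show y ∈ (⊤ : (Spec (CommRingCat.of D)).Opens) from trivial)
    have h2 := IsOpenImmersion.lift_fac hW.fromSpec v h1
    set l := IsOpenImmersion.lift hW.fromSpec v h1 with hl
    have h3 : l = Spec.map (CommRingCat.ofHom (ev v W hv)) := by
      obtain ⟨ρ, hρ⟩ := Spec.map_surjective l
      rw [← hρ]
      congr 1
      have hv' : ⊤ ≤ (l ≫ hW.fromSpec) ⁻¹ᵁ W := by rw [h2]; exact hv
      ext a
      change ρ a = ev v W hv a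
      rw [ev_congr h2.symm W hv hv' a, ev_apply]
      have h4 := Scheme.Hom.appLE_comp_appLE l hW.fromSpec W ⊤ ⊤ (by
        rw [hW.fromSpec_preimage_self]) le_top
      rw [← h4]
      have h5 : hW.fromSpec.appLE W ⊤ (by rw [hW.fromSpec_preimage_self]) = (Scheme.ΓSpecIso Γ(X, W)).inv := by
        rw [Scheme.Hom.appLE, hW.fromSpec_app_self, Category.assoc, ← Functor.map_comp]
        exact Category.comp_id _
      rw [h5]
      have h6 := Scheme.ΓSpecIso_inv_naturality ρ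
      have h7 : l.appLE ⊤ ⊤ le_top = (Spec.map ρ).appTop := by
        rw [hρ]
        exact (Scheme.Hom.app_eq_appLE _).symm
      rw [h7, ← h6]
      exact (congr($((Scheme.ΓSpecIso (CommRingCat.of D)).inv_hom_id) (ρ a))).symm
    rw [← h3, h2]
  rw [key w hw, key w' hw']
  congr 3
  exact RingHom.ext h

/-- the point given by values -/
theorem ev_mk {W : X.Opens} (hW : IsAffineOpen W) (ρ : Γ(X, W) →+* D)
    (hw : ⊤ ≤ (Spec.map (CommRingCat.ofHom ρ) ≫ hW.fromSpec) ⁻¹ᵁ W) (a : Γ(X, W)) :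
    ev (Spec.map (CommRingCat.ofHom ρ) ≫ hW.fromSpec) W hw a = ρ a := by
  have h4 := Scheme.Hom.appLE_comp_appLE (Spec.map (CommRingCat.ofHom ρ)) hW.fromSpec W ⊤ ⊤ (by
        rw [hW.fromSpec_preimage_self]) le_top
  rw [ev_apply, ← h4]
  have h5 : hW.fromSpec.appLE W ⊤ (by rw [hW.fromSpec_preimage_self]) = (Scheme.ΓSpecIso Γ(X, W)).inv := by
    rw [Scheme.Hom.appLE, hW.fromSpec_app_self, Category.assoc, ← Functor.map_comp]
    exact Category.comp_id _
  rw [h5]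
  have h6 : (CommRingCat.ofHom ρ : Γ(X, W) ⟶ CommRingCat.of D) ≫ (Scheme.ΓSpecIso (CommRingCat.of D)).inv =
      (Scheme.ΓSpecIso Γ(X, W)).inv ≫ (Spec.map (CommRingCat.ofHom ρ)).appTop :=
    Scheme.ΓSpecIso_inv_naturality _
  have h7 : (Spec.map (CommRingCat.ofHom ρ)).appLE ⊤ ⊤ le_top = (Spec.map (CommRingCat.ofHom ρ)).appTop :=
    (Scheme.Hom.app_eq_appLE _).symm
  rw [h7, ← h6]
  exact congr($((Scheme.ΓSpecIso (CommRingCat.of D)).inv_hom_id) (ρ a))

end ev

section tan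

variable {Z X : Scheme.{u}} (π : X ⟶ Z) (e : Z ⟶ X) (x : Z) (C : Type u) [CommRing C]
  [Algebra (Z.presheaf.stalk x) C]

/-- `Spec C ⟶ Z` -/
noncomputable abbrev ptS : Spec (CommRingCat.of C) ⟶ Z :=
  Spec.map (CommRingCat.ofHom (algebraMap (Z.presheaf.stalk x) C)) ≫ Z.fromSpecStalk x

variable {C} in
/-- `Spec C ⟶ Spec C[ε]` -/
noncomputable abbrev zr (C : Type u) [CommRing C] : Spec (CommRingCat.of C) ⟶ Spec (CommRingCat.of (TrivSqZeroExt C C)) :=
  Spec.map (CommRingCat.ofHom (TrivSqZeroExt.fstHom C C C).toRingHom)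

variable {C} in
/-- `Spec C[ε] ⟶ Spec C` -/
noncomputable abbrev pr (C : Type u) [CommRing C] : Spec (CommRingCat.of (TrivSqZeroExt C C)) ⟶ Spec (CommRingCat.of C) :=
  Spec.map (CommRingCat.ofHom (algebraMap C (TrivSqZeroExt C C)))

theorem range_ptS (y : Spec (CommRingCat.of C)) : ptS x C y ⤳ x := by
  have h : ptS x C y ∈ Set.range (Z.fromSpecStalk x) := ⟨_, rfl⟩
  rw [Scheme.range_fromSpecStalk] at h
  exact h

theorem le_ptS {V : Z.Opens} (hx : x ∈ V) : ⊤ ≤ (ptS x C) ⁻¹ᵁ V := fun y _ =>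
  (range_ptS x C y).mem_open V.2 hx

theorem ev_fromSpecStalk {V : Z.Opens} (hx : x ∈ V) (h1 : ⊤ ≤ (Z.fromSpecStalk x) ⁻¹ᵁ V) (s : Γ(Z, V)) :
    ev (D := Z.presheaf.stalk x) (Z.fromSpecStalk x) V h1 s = gerO x hx s := by
  have h2 : (Z.fromSpecStalk x).appLE V ⊤ h1 = Z.presheaf.germ V x hx ≫ (Scheme.ΓSpecIso (Z.presheaf.stalk x)).inv := by
    rw [Scheme.Hom.appLE, Scheme.fromSpecStalk_app hx, Category.assoc, Category.assoc, ← Functor.map_comp]
    congr 1
  refine (congrArg (fun f : Γ(Z, V) ⟶ Γ(Spec (Z.presheaf.stalk x), ⊤) =>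
    (Scheme.ΓSpecIso (Z.presheaf.stalk x)).hom (f s)) h2).trans ?_
  exact congr($((Scheme.ΓSpecIso (Z.presheaf.stalk x)).inv_hom_id) (Z.presheaf.germ V x hx s))

theorem ev_ptS {V : Z.Opens} (hx : x ∈ V) (s : Γ(Z, V)) :
    ev (ptS x C) V (le_ptS x C hx) s = algebraMap (Z.presheaf.stalk x) C (gerO x hx s) := by
  have h1 : ⊤ ≤ (Z.fromSpecStalk x) ⁻¹ᵁ V := by
    intro y _
    have h : Z.fromSpecStalk x y ∈ Set.range (Z.fromSpecStalk x) := ⟨_, rfl⟩
    rw [Scheme.range_fromSpecStalk] at h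
    exact (show Z.fromSpecStalk x y ⤳ x from h).mem_open V.2 hx
  have h2 := ev_comp (algebraMap (Z.presheaf.stalk x) C) (Z.fromSpecStalk x) V h1 (le_ptS x C hx) s
  exact h2.trans (congrArg _ (ev_fromSpecStalk x hx h1 s))

theorem zr_pr (y : Spec (CommRingCat.of (TrivSqZeroExt C C))) : zr C (pr C y) = y := by
  change PrimeSpectrum.comap _ (PrimeSpectrum.comap _ y) = y
  apply PrimeSpectrum.ext
  ext z
  change (TrivSqZeroExt.inl z.fst : TrivSqZeroExt C C) ∈ y.asIdeal ↔ z ∈ y.asIdeal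
  have h : (TrivSqZeroExt.inr z.snd : TrivSqZeroExt C C) ∈ y.asIdeal := by
    apply y.2.mem_of_pow_mem 2
    rw [pow_two, TrivSqZeroExt.inr_mul_inr]
    exact Ideal.zero_mem _
  have h2 : z = TrivSqZeroExt.inl z.fst + TrivSqZeroExt.inr z.snd := (TrivSqZeroExt.inl_fst_add_inr_snd_eq z).symm
  constructor
  · intro h3
    rw [h2]
    exact Ideal.add_mem _ h3 h
  · intro h3
    rw [h2] at h3
    exact (Ideal.add_mem_iff_left _ h).1 h3

theorem zr_comp_pr : zr C ≫ pr C = 𝟙 _ := by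
  rw [zr, pr, ← Spec.map_comp, ← CommRingCat.ofHom_comp, ← Spec.map_id]
  congr 1

variable {π e x C}

/-- the image of the zero section determines the topological image -/
theorem le_of_tan {w : Spec (CommRingCat.of (TrivSqZeroExt C C)) ⟶ X} (hz : zr C ≫ w = ptS x C ≫ e)
    {W : X.Opens} (hx : x ∈ e ⁻¹ᵁ W) : ⊤ ≤ w ⁻¹ᵁ W := by
  intro y _
  have h1 : w y = e (ptS x C (pr C y)) := by
    conv_lhs => rw [← zr_pr C y]
    change (zr C ≫ w) (pr C y) = (ptS x C ≫ e) (pr C y)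
    rw [hz]
  change w y ∈ W
  rw [h1]
  exact (range_ptS x C (pr C y)).mem_open (e ⁻¹ᵁ W).2 hx

/-- the constant part of the values of a tangent point -/
theorem fst_ev {w : Spec (CommRingCat.of (TrivSqZeroExt C C)) ⟶ X} (hz : zr C ≫ w = ptS x C ≫ e)
    {W : X.Opens} (hx : x ∈ e ⁻¹ᵁ W) (a : Γ(X, W)) : (ev w W (le_of_tan hz hx) a).fst =
      algebraMap (Z.presheaf.stalk x) C (gerO x hx (e.app W a)) := by
  have hw : ⊤ ≤ (zr C ≫ w) ⁻¹ᵁ W := fun y _ => le_of_tan hz hx (show zr C y ∈ (⊤ : (Spec _).Opens) from trivial)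
  have hw' : ⊤ ≤ (ptS x C ≫ e) ⁻¹ᵁ W := by rw [← hz]; exact hw
  have h1 := ev_comp (TrivSqZeroExt.fstHom C C C).toRingHom w W (le_of_tan hz hx) hw a
  have h2 := ev_comp_right (ptS x C) e W (le_ptS x C hx) hw' a
  rw [ev_ptS x C hx] at h2
  exact h1.symm.trans ((ev_congr hz W hw hw' a).trans h2)

/-- **the functional of a tangent point** -/
theorem exists_phi [QuasiCompact e] {w : Spec (CommRingCat.of (TrivSqZeroExt C C)) ⟶ X}
    (hz : zr C ≫ w = ptS x C ≫ e) :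
    ∃ φ : (Omega.conormal e).presheaf.stalk x →ₗ[Z.presheaf.stalk x] C,
      ∀ (W : X.Opens) (hx : x ∈ e ⁻¹ᵁ W) (c : Sec (ClSub.idealMod e.ker) W),
        φ (dl e W x hx c) = (ev w W (le_of_tan hz hx) (valS e W c)).snd := by
  -- on affine opens
  have key : ∀ {W : X.Opens} (_ : IsAffineOpen W) (hx : x ∈ e ⁻¹ᵁ W),
      ∃ φ : (Omega.conormal e).presheaf.stalk x →ₗ[Z.presheaf.stalk x] C,
        ∀ c, φ (dl e W x hx c) = (ev w W (le_of_tan hz hx) (valS e W c)).snd := by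
    intro W hW hx
    refine exists_lift_dl e hW x hx
      { toFun := fun c => (ev w W (le_of_tan hz hx) (valS e W c)).snd
        map_zero' := by rw [map_zero, map_zero, TrivSqZeroExt.snd_zero]
        map_add' := fun c c' => by rw [map_add, map_add, TrivSqZeroExt.snd_add] } ?_
    intro r c
    change (ev w W (le_of_tan hz hx) (valS e W (r • c))).snd =
      gerO x hx (e.app W r) • (ev w W (le_of_tan hz hx) (valS e W c)).snd
    have h0 : (ev w W (le_of_tan hz hx) (valS e W c)).fst = 0 := by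
      rw [fst_ev hz hx, (app_eq_zero_iffS e W _).2 ⟨c, rfl⟩]
      have : gerO x hx (0 : Γ(Z, e ⁻¹ᵁ W)) = 0 := map_zero _
      rw [this, map_zero]
    rw [map_smul, smul_eq_mul, map_mul, TrivSqZeroExt.snd_mul, h0, fst_ev hz hx, MulOpposite.op_zero, zero_smul,
      add_zero, smul_eq_mul]
    exact (Algebra.smul_def _ _).symm
  obtain ⟨W₀, hW₀, hxW₀, -⟩ := exists_isAffineOpen_mem_and_subset (x := e x) (U := ⊤) trivial
  obtain ⟨φ, hφ⟩ := key hW₀ hxW₀
  refine ⟨φ, fun W hx c => ?_⟩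
  obtain ⟨W', hW', hxW', hle⟩ := exists_isAffineOpen_mem_and_subset (x := e x) (U := W ⊓ W₀) ⟨hx, hxW₀⟩
  obtain ⟨φ', hφ'⟩ := key hW' hxW'
  have hle0 : W' ≤ W₀ := fun y hy => (hle hy).2
  have hle1 : W' ≤ W := fun y hy => (hle hy).1
  have hgen : ∀ {W : X.Opens} (h : W' ≤ W) (hx : x ∈ e ⁻¹ᵁ W) (c : Sec (ClSub.idealMod e.ker) W),
      φ' (dl e W x hx c) = (ev w W (le_of_tan hz hx) (valS e W c)).snd := by
    intro W h hx c
    have h1 := dl_res e h x hxW' c
    have h2 := hφ' (res _ h c)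
    rw [h1, valS_res] at h2
    rw [h2, ev_res w h _ (le_of_tan hz hx)]
  have heq : φ' = φ := by
    apply LinearMap.ext_on (span_dl e hW₀ x hxW₀)
    rintro _ ⟨c, rfl⟩
    exact (hgen hle0 hxW₀ c).trans (hφ c).symm
  rw [← heq]
  exact hgen hle1 hx c

/-- `φ` is the functional of the tangent point `w` -/
def IsPhi {w : Spec (CommRingCat.of (TrivSqZeroExt C C)) ⟶ X} (hz : zr C ≫ w = ptS x C ≫ e)
    (φ : (Omega.conormal e).presheaf.stalk x →ₗ[Z.presheaf.stalk x] C) : Prop :=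
  ∀ (W : X.Opens) (hx : x ∈ e ⁻¹ᵁ W) (c : Sec (ClSub.idealMod e.ker) W),
    φ (dl e W x hx c) = (ev w W (le_of_tan hz hx) (valS e W c)).snd

theorem IsPhi.unique {w : Spec (CommRingCat.of (TrivSqZeroExt C C)) ⟶ X} {hz : zr C ≫ w = ptS x C ≫ e}
    {φ φ' : (Omega.conormal e).presheaf.stalk x →ₗ[Z.presheaf.stalk x] C} (h : IsPhi hz φ) (h' : IsPhi hz φ') :
    φ = φ' := by
  obtain ⟨W₀, hW₀, hxW₀, -⟩ := exists_isAffineOpen_mem_and_subset (x := e x) (U := ⊤) trivial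
  apply LinearMap.ext_on (span_dl e hW₀ x hxW₀)
  rintro _ ⟨c, rfl⟩
  exact (h W₀ hxW₀ c).trans (h' W₀ hxW₀ c).symm

/-- it suffices to check the functional on one affine open -/
theorem IsPhi.of_affine [QuasiCompact e] {w : Spec (CommRingCat.of (TrivSqZeroExt C C)) ⟶ X}
    (hz : zr C ≫ w = ptS x C ≫ e) (φ : (Omega.conormal e).presheaf.stalk x →ₗ[Z.presheaf.stalk x] C)
    {W : X.Opens} (hW : IsAffineOpen W) (hx : x ∈ e ⁻¹ᵁ W)
    (h : ∀ c, φ (dl e W x hx c) = (ev w W (le_of_tan hz hx) (valS e W c)).snd) : IsPhi hz φ := by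
  obtain ⟨φ', hφ'⟩ := exists_phi hz
  have : φ' = φ := by
    apply LinearMap.ext_on (span_dl e hW x hx)
    rintro _ ⟨c, rfl⟩
    exact (hφ' W hx c).trans (h c).symm
  rw [← this]
  exact hφ'

end tan

section funct

variable {Z X : Scheme.{u}} {e : Z ⟶ X} {x : Z} {C C' : Type u} [CommRing C] [CommRing C']
  [Algebra (Z.presheaf.stalk x) C] [Algebra (Z.presheaf.stalk x) C']

/-- `Spec C'[ε] ⟶ Spec C[ε]` -/
noncomputable abbrev dm (ι : C →ₐ[Z.presheaf.stalk x] C') :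
    Spec (CommRingCat.of (TrivSqZeroExt C' C')) ⟶ Spec (CommRingCat.of (TrivSqZeroExt C C)) :=
  Spec.map (CommRingCat.ofHom (dmap ι).toRingHom)

theorem zr_dm (ι : C →ₐ[Z.presheaf.stalk x] C') : zr C' ≫ dm ι = Spec.map (CommRingCat.ofHom ι.toRingHom) ≫ zr C := by
  rw [zr, dm, zr, ← Spec.map_comp, ← Spec.map_comp, ← CommRingCat.ofHom_comp, ← CommRingCat.ofHom_comp]
  rfl

theorem dm_pr (ι : C →ₐ[Z.presheaf.stalk x] C') : dm ι ≫ pr C = pr C' ≫ Spec.map (CommRingCat.ofHom ι.toRingHom) := by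
  rw [pr, dm, pr, ← Spec.map_comp, ← Spec.map_comp, ← CommRingCat.ofHom_comp, ← CommRingCat.ofHom_comp]
  congr 2
  apply RingHom.ext
  intro c
  apply TrivSqZeroExt.ext
  · rfl
  · exact map_zero ι

theorem map_ptS (ι : C →ₐ[Z.presheaf.stalk x] C') : Spec.map (CommRingCat.ofHom ι.toRingHom) ≫ ptS x C = ptS x C' := by
  rw [ptS, ptS, ← Category.assoc, ← Spec.map_comp, ← CommRingCat.ofHom_comp]
  congr 3
  apply RingHom.ext
  intro c
  exact ι.commutes c

theorem tan_dm (ι : C →ₐ[Z.presheaf.stalk x] C') {w : Spec (CommRingCat.of (TrivSqZeroExt C C)) ⟶ X}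
    (hz : zr C ≫ w = ptS x C ≫ e) : zr C' ≫ dm ι ≫ w = ptS x C' ≫ e := by
  rw [← Category.assoc, zr_dm, Category.assoc, hz, ← Category.assoc, map_ptS]

theorem IsPhi.dm (ι : C →ₐ[Z.presheaf.stalk x] C') {w : Spec (CommRingCat.of (TrivSqZeroExt C C)) ⟶ X}
    {hz : zr C ≫ w = ptS x C ≫ e} {φ : (Omega.conormal e).presheaf.stalk x →ₗ[Z.presheaf.stalk x] C}
    (h : IsPhi hz φ) : IsPhi (tan_dm ι hz) (ι.toLinearMap.comp φ) := by
  intro W hx c
  have h1 := ev_comp (dmap ι).toRingHom w W (le_of_tan hz hx) (le_of_tan (tan_dm ι hz) hx) (valS e W c)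
  have h2 := congrArg TrivSqZeroExt.snd h1
  refine Eq.trans ?_ h2.symm
  exact congrArg ι (h W hx c)

variable {π : X ⟶ Z}

theorem over_dm (ι : C →ₐ[Z.presheaf.stalk x] C') {w : Spec (CommRingCat.of (TrivSqZeroExt C C)) ⟶ X}
    (hw : w ≫ π = pr C ≫ ptS x C) : (dm ι ≫ w) ≫ π = pr C' ≫ ptS x C' := by
  rw [Category.assoc, hw, ← Category.assoc, dm_pr, Category.assoc, map_ptS]

end funct

section bij

variable {Z X : Scheme.{u}} {π : X ⟶ Z} [IsAffineHom π] {e : Z ⟶ X} (he : e ≫ π = 𝟙 Z) {x : Z} {C : Type u}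
  [CommRing C] [Algebra (Z.presheaf.stalk x) C]

include he in
theorem preimage_eq (V : Z.Opens) : e ⁻¹ᵁ (π ⁻¹ᵁ V) = V := by
  have h : (e ≫ π) ⁻¹ᵁ V = V := by rw [he]; rfl
  exact h

include he in
/-- functions on `π⁻¹ V` split -/
theorem exists_split [QuasiCompact e] (V : Z.Opens) (a : Γ(X, π ⁻¹ᵁ V)) :
    ∃ (s : Γ(Z, V)) (c : Sec (ClSub.idealMod e.ker) (π ⁻¹ᵁ V)), a = π.app V s + valS e (π ⁻¹ᵁ V) c ∧
      ∀ (x : Z) (hx : x ∈ e ⁻¹ᵁ (π ⁻¹ᵁ V)) (hx' : x ∈ V), gerO x hx' s = gerO x hx (e.app (π ⁻¹ᵁ V) a) := by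
  have hV := preimage_eq he V
  set s : Γ(Z, V) := resO Z hV.ge (e.app (π ⁻¹ᵁ V) a) with hs
  have h1 : ∀ s : Γ(Z, V), resO Z hV.ge (e.app (π ⁻¹ᵁ V) (π.app V s)) = s := by
    intro s
    have h2 : (e ≫ π).appLE V V (by rw [he]; exact le_rfl) = 𝟙 _ := by
      have : ∀ (f : Z ⟶ Z) (hf : f = 𝟙 Z) (h : V ≤ f ⁻¹ᵁ V), f.appLE V V h = 𝟙 _ := by
        rintro f rfl h
        rw [Scheme.Hom.appLE, Scheme.Hom.id_app]
        exact (Category.id_comp _).trans (Z.presheaf.map_id _)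
      exact this _ he _
    have h3 : (e ≫ π).appLE V V (by rw [he]; exact le_rfl) =
        π.app V ≫ e.app (π ⁻¹ᵁ V) ≫ Z.presheaf.map (homOfLE hV.ge).op := by
      rw [Scheme.Hom.appLE, Scheme.Hom.comp_app]
      exact Category.assoc _ _ _
    rw [h3] at h2
    exact congr($(h2) s)
  have h2 : e.app (π ⁻¹ᵁ V) (a - π.app V s) = 0 := by
    have h3 : resO Z hV.ge (e.app (π ⁻¹ᵁ V) (a - π.app V s)) = 0 := by
      rw [map_sub, map_sub, h1, hs, sub_self]
    have h4 := congrArg (resO Z hV.le) h3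
    rw [resO_resO, map_zero] at h4
    rwa [resO_self] at h4
  obtain ⟨c, hc⟩ := (app_eq_zero_iffS e _ _).1 h2
  refine ⟨s, c, ?_, ?_⟩
  · rw [hc, add_sub_cancel]
  · intro x hx hx'
    rw [hs, gerO_res]

include he in
theorem ev_app_base {w : Spec (CommRingCat.of (TrivSqZeroExt C C)) ⟶ X} (hw : w ≫ π = pr C ≫ ptS x C)
    {V : Z.Opens} (hx : x ∈ V) (h : ⊤ ≤ w ⁻¹ᵁ (π ⁻¹ᵁ V)) (s : Γ(Z, V)) :
    ev w (π ⁻¹ᵁ V) h (π.app V s) = TrivSqZeroExt.inl (algebraMap (Z.presheaf.stalk x) C (gerO x hx s)) := by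
  have h1 : ⊤ ≤ (w ≫ π) ⁻¹ᵁ V := h
  have h2 : ⊤ ≤ (pr C ≫ ptS x C) ⁻¹ᵁ V := by rw [← hw]; exact h1
  rw [← ev_comp_right w π V h h1, ev_congr hw V h1 h2]
  refine (ev_comp (algebraMap C (TrivSqZeroExt C C)) (ptS x C) V (le_ptS x C hx) h2 s).trans ?_
  rw [ev_ptS x C hx]
  rfl

include he in
/-- **tangent points are determined by their functionals** -/
theorem tan_ext [QuasiCompact e] {w w' : Spec (CommRingCat.of (TrivSqZeroExt C C)) ⟶ X}
    (hz : zr C ≫ w = ptS x C ≫ e) (hz' : zr C ≫ w' = ptS x C ≫ e) (hw : w ≫ π = pr C ≫ ptS x C)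
    (hw' : w' ≫ π = pr C ≫ ptS x C) {φ : (Omega.conormal e).presheaf.stalk x →ₗ[Z.presheaf.stalk x] C}
    (h : IsPhi hz φ) (h' : IsPhi hz' φ) : w = w' := by
  obtain ⟨V, hV, hxV, -⟩ := exists_isAffineOpen_mem_and_subset (x := x) (U := ⊤) trivial
  have hx : x ∈ e ⁻¹ᵁ (π ⁻¹ᵁ V) := by rw [preimage_eq he]; exact hxV
  apply ext_ev (hV.preimage π) (le_of_tan hz hx) (le_of_tan hz' hx)
  intro a
  obtain ⟨s, c, rfl, -⟩ := exists_split he V a
  rw [map_add, map_add, ev_app_base he hw hxV, ev_app_base he hw' hxV]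
  congr 1
  apply TrivSqZeroExt.ext
  · rw [fst_ev hz hx, fst_ev hz' hx]
  · rw [← h _ hx, ← h' _ hx]

include he in
/-- **every functional comes from a tangent point** -/
theorem exists_tan [QuasiCompact e] (φ : (Omega.conormal e).presheaf.stalk x →ₗ[Z.presheaf.stalk x] C) :
    ∃ (w : Spec (CommRingCat.of (TrivSqZeroExt C C)) ⟶ X) (hz : zr C ≫ w = ptS x C ≫ e),
      w ≫ π = pr C ≫ ptS x C ∧ IsPhi hz φ := by
  obtain ⟨V, hV, hxV, -⟩ := exists_isAffineOpen_mem_and_subset (x := x) (U := ⊤) trivial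
  have hx : x ∈ e ⁻¹ᵁ (π ⁻¹ᵁ V) := by rw [preimage_eq he]; exact hxV
  have hW : IsAffineOpen (π ⁻¹ᵁ V) := hV.preimage π
  set W := π ⁻¹ᵁ V with hWdef
  choose s c hsc hger using exists_split he V
  -- uniqueness of the splitting
  have huniq : ∀ (a : Γ(X, W)) (s' : Γ(Z, V)) (c' : Sec (ClSub.idealMod e.ker) W),
      a = π.app V s' + valS e W c' → c a = c' := by
    intro a s' c' h
    have hk : ∀ (c : Sec (ClSub.idealMod e.ker) W), e.app W (valS e W c) = 0 :=
      fun c => (app_eq_zero_iffS e W _).2 ⟨c, rfl⟩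
    have h1 : e.app W (π.app V (s a)) = e.app W (π.app V s') := by
      have h2 := congrArg (e.app W) ((hsc a).symm.trans h)
      rw [map_add, map_add, hk, hk, add_zero, add_zero] at h2
      exact h2
    have h2 : π.app V (s a) = π.app V s' := by
      have hinj : Function.Injective (e.app W ∘ π.app V) := by
        have h3 : Function.Injective ((e ≫ π).app V) := by
          have : ∀ (f : Z ⟶ Z) (hf : f = 𝟙 Z), Function.Injective (f.app V) := by
            rintro f rfl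
            rw [Scheme.Hom.id_app]
            exact fun _ _ h => h
          exact this _ he
        rw [Scheme.Hom.comp_app] at h3
        exact h3
      rw [hinj h1]
    apply valS_injective e W
    have h3 := (hsc a).symm.trans h
    rw [h2] at h3
    exact add_left_cancel h3
  have hmul : ∀ a a' : Γ(X, W), c (a * a') = a • c a' + π.app V (s a') • c a := by
    intro a a'
    apply huniq (a * a') (s a * s a')
    rw [map_add, map_smul, map_smul, smul_eq_mul, smul_eq_mul, map_mul]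
    have h1 := hsc a
    have h2 := hsc a'
    linear_combination (a : Γ(X, W)) * h2 + (π.app V (s a')) * h1
  have hadd : ∀ a a' : Γ(X, W), c (a + a') = c a + c a' := by
    intro a a'
    apply huniq (a + a') (s a + s a')
    rw [map_add, map_add]
    linear_combination hsc a + hsc a'
  have hone : c 1 = 0 := huniq 1 1 0 (by rw [map_one, map_zero, add_zero])
  have hzero : c 0 = 0 := huniq 0 0 0 (by rw [map_zero, map_zero, add_zero])
  have hbase : ∀ t : Γ(Z, V), c (π.app V t) = 0 := fun t => huniq _ t 0 (by rw [map_zero, add_zero])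
  have hval : ∀ c' : Sec (ClSub.idealMod e.ker) W, c (valS e W c') = c' :=
    fun c' => huniq _ 0 c' (by rw [map_zero, zero_add])
  have hdl : ∀ (r : Γ(X, W)) (c' : Sec (ClSub.idealMod e.ker) W), φ (dl e W x hx (r • c')) =
      algebraMap _ C (gerO x hx (e.app W r)) * φ (dl e W x hx c') := by
    intro r c'
    rw [dl_smul, map_smul, Algebra.smul_def]
  have hes : ∀ a : Γ(X, W), gerO x hx (e.app W (π.app V (s a))) = gerO x hx (e.app W a) := by
    intro a
    have h1 : e.app W (valS e W (c a)) = 0 := (app_eq_zero_iffS e W _).2 ⟨c a, rfl⟩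
    conv_rhs => rw [hsc a]
    rw [map_add, h1, add_zero]
  let gx : Γ(X, W) →+* C := (algebraMap (Z.presheaf.stalk x) C).comp
    ((Z.presheaf.germ (e ⁻¹ᵁ W) x hx).hom.comp (e.app W).hom)
  have hgx : ∀ a, gx a = algebraMap (Z.presheaf.stalk x) C (gerO x hx (e.app W a)) := fun a => rfl
  let ρ : Γ(X, W) →+* TrivSqZeroExt C C :=
    { toFun := fun a => (gx a, φ (dl e W x hx (c a)))
      map_one' := by
        apply TrivSqZeroExt.ext
        · exact map_one gx
        · change φ (dl e W x hx (c 1)) = 0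
          rw [hone, map_zero, map_zero]
      map_mul' := fun a a' => by
        apply TrivSqZeroExt.ext
        · exact map_mul gx a a'
        · change φ (dl e W x hx (c (a * a'))) = gx a • φ (dl e W x hx (c a')) +
            MulOpposite.op (gx a') • φ (dl e W x hx (c a))
          rw [hmul, map_add, map_add, hdl, hdl, hes, hgx, hgx, op_smul_eq_smul, smul_eq_mul, smul_eq_mul]
      map_zero' := by
        apply TrivSqZeroExt.ext
        · exact map_zero gx
        · change φ (dl e W x hx (c 0)) = 0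
          rw [hzero, map_zero, map_zero]
      map_add' := fun a a' => by
        apply TrivSqZeroExt.ext
        · exact map_add gx a a'
        · change φ (dl e W x hx (c (a + a'))) = _
          rw [hadd, map_add, map_add]
          rfl }
  set w : Spec (CommRingCat.of (TrivSqZeroExt C C)) ⟶ X := Spec.map (CommRingCat.ofHom ρ) ≫ hW.fromSpec with hwdef
  have hww : ⊤ ≤ w ⁻¹ᵁ W := by
    intro y _
    have : w y ∈ Set.range hW.fromSpec := ⟨_, rfl⟩
    rw [hW.range_fromSpec] at this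
    exact this
  have hev : ∀ a, ev w W hww a = ρ a := fun a => ev_mk hW ρ hww a
  have hz : zr C ≫ w = ptS x C ≫ e := by
    have h1 : ⊤ ≤ (zr C ≫ w) ⁻¹ᵁ W := fun y _ => hww (show zr C y ∈ (⊤ : (Spec _).Opens) from trivial)
    have h2 : ⊤ ≤ (ptS x C ≫ e) ⁻¹ᵁ W := fun y _ => le_ptS x C hx (show y ∈ (⊤ : (Spec _).Opens) from trivial)
    apply ext_ev hW h1 h2
    intro a
    rw [ev_comp (TrivSqZeroExt.fstHom C C C).toRingHom w W hww h1 a, hev,
      ev_comp_right (ptS x C) e W (le_ptS x C hx) h2 a, ev_ptS x C hx]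
    rfl
  have hwπ : w ≫ π = pr C ≫ ptS x C := by
    have h1 : ⊤ ≤ (w ≫ π) ⁻¹ᵁ V := hww
    have h2 : ⊤ ≤ (pr C ≫ ptS x C) ⁻¹ᵁ V :=
      fun y _ => le_ptS x C hxV (show pr C y ∈ (⊤ : (Spec _).Opens) from trivial)
    apply ext_ev hV h1 h2
    intro t
    rw [ev_comp_right w π V hww h1, ev_comp (algebraMap C (TrivSqZeroExt C C)) (ptS x C) V (le_ptS x C hxV) h2 t,
      ev_ptS x C hxV]
    refine (hev _).trans ?_
    apply TrivSqZeroExt.ext
    · change gx (π.app V t) = algebraMap _ C (gerO x hxV t)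
      rw [hgx]
      congr 1
      have h3 := hger (π.app V t) x hx hxV
      have h4 : s (π.app V t) = t := by
        have hinj : Function.Injective (π.app V) := by
          have h3 : Function.Injective ((e ≫ π).app V) := by
            have : ∀ (f : Z ⟶ Z) (hf : f = 𝟙 Z), Function.Injective (f.app V) := by
              rintro f rfl
              rw [Scheme.Hom.id_app]
              exact fun _ _ h => h
            exact this _ he
          rw [Scheme.Hom.comp_app] at h3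
          exact Function.Injective.of_comp (f := e.app (π ⁻¹ᵁ V)) h3
        apply hinj
        have h5 := hsc (π.app V t)
        rw [hbase, map_zero, add_zero] at h5
        exact h5.symm
      rw [h4] at h3
      exact h3.symm
    · change φ (dl e W x hx (c (π.app V t))) = 0
      rw [hbase, map_zero, map_zero]
  refine ⟨w, hz, hwπ, IsPhi.of_affine hz φ hW hx fun c' => ?_⟩
  have h1 := congrArg TrivSqZeroExt.snd (hev (valS e W c'))
  refine Eq.trans ?_ h1.symm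
  change _ = φ (dl e W x hx (c (valS e W c')))
  rw [hval]

include he in
/-- **extension of tangent points** along `O ⊆ C` -/
theorem extends_iff [QuasiCompact e] {O : Type u} [CommRing O] [Algebra (Z.presheaf.stalk x) O]
    (ι : O →ₐ[Z.presheaf.stalk x] C) (hι : Function.Injective ι)
    {w : Spec (CommRingCat.of (TrivSqZeroExt C C)) ⟶ X} (hz : zr C ≫ w = ptS x C ≫ e)
    (hw : w ≫ π = pr C ≫ ptS x C) {φ : (Omega.conormal e).presheaf.stalk x →ₗ[Z.presheaf.stalk x] C}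
    (h : IsPhi hz φ) :
    (∃ w' : Spec (CommRingCat.of (TrivSqZeroExt O O)) ⟶ X, dm ι ≫ w' = w ∧ w' ≫ π = pr O ≫ ptS x O) ↔
      ∀ t, φ t ∈ Set.range ι := by
  constructor
  · rintro ⟨w', rfl, hw'⟩
    obtain ⟨V, hV, hxV, -⟩ := exists_isAffineOpen_mem_and_subset (x := x) (U := ⊤) trivial
    have hx : x ∈ e ⁻¹ᵁ (π ⁻¹ᵁ V) := by rw [preimage_eq he]; exact hxV
    have hW : IsAffineOpen (π ⁻¹ᵁ V) := hV.preimage π
    have h1 : ⊤ ≤ w' ⁻¹ᵁ (π ⁻¹ᵁ V) := by
      have h2 : ⊤ ≤ (w' ≫ π) ⁻¹ᵁ V := by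
        rw [hw']
        exact fun y _ => le_ptS x O hxV (show pr O y ∈ (⊤ : (Spec _).Opens) from trivial)
      exact h2
    intro t
    have ht : t ∈ Submodule.span (Z.presheaf.stalk x) (Set.range (dl e (π ⁻¹ᵁ V) x hx)) := by
      rw [span_dl e hW]
      trivial
    have h3 : Submodule.span (Z.presheaf.stalk x) (Set.range (dl e (π ⁻¹ᵁ V) x hx)) ≤
        (LinearMap.range ι.toLinearMap).comap φ := by
      rw [Submodule.span_le]
      rintro _ ⟨c, rfl⟩
      change φ _ ∈ LinearMap.range ι.toLinearMap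
      rw [h _ hx]
      refine ⟨(ev w' (π ⁻¹ᵁ V) h1 (valS e (π ⁻¹ᵁ V) c)).snd, ?_⟩
      have h4 := ev_comp (dmap ι).toRingHom w' (π ⁻¹ᵁ V) h1 (le_of_tan hz hx) (valS e (π ⁻¹ᵁ V) c)
      exact (congrArg TrivSqZeroExt.snd h4).symm
    obtain ⟨o, ho⟩ := h3 ht
    exact ⟨o, ho⟩
  · intro hφ
    choose o ho using hφ
    let φ' : (Omega.conormal e).presheaf.stalk x →ₗ[Z.presheaf.stalk x] O :=
      { toFun := o
        map_add' := fun a b => hι (by rw [map_add, ho, ho, ho, map_add])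
        map_smul' := fun r a => hι (by rw [map_smul, ho, ho, map_smul]; rfl) }
    obtain ⟨w', hz', hw', h'⟩ := exists_tan he φ'
    refine ⟨w', ?_, hw'⟩
    have h1 := h'.dm ι
    have h2 : ι.toLinearMap.comp φ' = φ := by
      ext t
      exact ho t
    rw [h2] at h1
    exact tan_ext he (tan_dm ι hz') hz (over_dm ι hw') hw h1 h

end bij

end Groth.Agent.CanPar.K795.TanPt
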