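import Groth.Agent.CanPar.K795.FibreRank
import Groth.Agent.CanPar.K795.CurveBound
import Groth.Agent.CurvesB.VABaseChange
import Groth.Agent.S1025
import Groth.Agent.S0018
import Groth.Agent.S1535
import Groth.Agent.PerfB.StructFlat
import Groth.Agent.S0558
import Groth.Agent.Ega1.GenPts
import Groth.Agent.Sga3B.DimFib
import Groth.Agent.PerfA.CohSerre
import Mathlib.AlgebraicGeometry.Geometrically.Connected

/-!
# Uniform bounds for degrees of quotients on the fibres of a family of curves
-/

set_option autoImplicit false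
universe u

open CategoryTheory CategoryTheory.Limits AlgebraicGeometry TopologicalSpace

namespace K795.UnifBound

open Groth.Agent K795.CurveBound Groth.Agent.VarietyA.DegRank

variable {S X : Scheme.{u}}

/-- Betti numbers of a finite locally free module in a proper flat family are bounded. -/
theorem exists_betti_bound [IsNoetherian S] (p : X ⟶ S) [IsProper p] [Flat p]
    {F : X.Modules} (hF : FlatMod.IsFinLocFree F) (i : ℕ) : ∃ N : ℕ, ∀ s : S, PerfAux.betti p F s i ≤ N := by
  have hfp : LocallyOfFinitePresentation p := by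
    have := LocallyOfFiniteType.isLocallyNoetherian p
    infer_instance
  have hX : IsLocallyNoetherian X := LocallyOfFiniteType.isLocallyNoetherian p
  have hFP : CohB1.IsFP F := (S0018.result X F).1 (PerfA.CohSerre.isCoh_of_isFinLocFree hF)
  have hfl := K795.FibreRank.isFlatOver_of_isFinLocFree p hF
  have ho := fun n => S1025.result p F hFP hfl i n
  obtain ⟨t, ht⟩ := (isCompact_univ (X := S)).elim_finite_subcover
    (fun n : ℕ => {s : S | PerfAux.betti p F s i < n}) ho
    (fun s _ => Set.mem_iUnion.2 ⟨PerfAux.betti p F s i + 1, Nat.lt_succ_self _⟩)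
  refine ⟨t.sup id, fun s => ?_⟩
  obtain ⟨n, hn⟩ := Set.mem_iUnion.1 (ht (Set.mem_univ s))
  obtain ⟨hnt, hn⟩ := Set.mem_iUnion.1 hn
  exact (le_of_lt hn).trans (Finset.le_sup (f := id) hnt)

section Pt

variable (p : X ⟶ S) {K : Type u} [Field K] (x : Spec (CommRingCat.of K) ⟶ S)

/-- the point of `S` under a `K`-valued point -/
noncomputable abbrev pt : S := x (IsLocalRing.closedPoint K)

/-- the field extension of a `K`-valued point -/
noncomputable abbrev ext : S.residueField (pt x) ⟶ CommRingCat.of K :=
  Scheme.descResidueField (Scheme.stalkClosedPointTo x)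

theorem ext_comp : Spec.map (ext x) ≫ S.fromSpecResidueField (pt x) = x :=
  Scheme.descResidueField_stalkClosedPointTo_fromSpecResidueField K S x

/-- `X_K ⟶ X_s` -/
noncomputable def toFib : pullback p x ⟶ p.fiber (pt x) :=
  pullback.lift (pullback.fst p x) (pullback.snd p x ≫ Spec.map (ext x))
    (by rw [Category.assoc, ext_comp, pullback.condition])

theorem toFib_fst : toFib p x ≫ p.fiberι (pt x) = pullback.fst p x := pullback.lift_fst _ _ _

theorem isPullback_toFib : IsPullback (toFib p x) (pullback.snd p x)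
    (p.fiberToSpecResidueField (pt x)) (Spec.map (ext x)) := by
  refine IsPullback.of_right (h₁₂ := p.fiberι (pt x)) (v₁₃ := p) (h₂₂ := S.fromSpecResidueField (pt x)) ?_
    (pullback.lift_snd _ _ _) (IsPullback.of_hasPullback _ _)
  rw [toFib_fst, ext_comp]
  exact IsPullback.of_hasPullback _ _

/-- Cohomology of the fibre at a `K`-valued point. -/
theorem finrank_HH_pullback [IsProper p] (F : X.Modules) (hF : Coh.IsQCoh F) (i : ℕ) :
    letI : (pullback p x).Over (Spec (CommRingCat.of K)) := ⟨pullback.snd p x⟩
    Module.finrank K (Coh.HH (pullback p x) ((Scheme.Modules.pullback (pullback.fst p x)).obj F) i) =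
      PerfAux.betti p F (pt x) i := by
  letI : (pullback p x).Over (Spec (CommRingCat.of K)) := ⟨pullback.snd p x⟩
  letI : (p.fiber (pt x)).Over (Spec (CommRingCat.of (S.residueField (pt x)))) :=
    ⟨p.fiberToSpecResidueField (pt x)⟩
  letI : Algebra (S.residueField (pt x)) K := (ext x).hom.toAlgebra
  have hpr : IsProper ((p.fiber (pt x)) ↘ (Spec (CommRingCat.of (S.residueField (pt x))))) :=
    MorphismProperty.of_isPullback (IsPullback.of_hasPullback p (S.fromSpecResidueField (pt x))) inferInstance
  have h := CurvesB.VABaseChange.finrank_eq (k := S.residueField (pt x)) (K := K) (X := p.fiber (pt x))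
    (X' := pullback p x) (p := toFib p x) (isPullback_toFib p x)
    ((Scheme.Modules.pullback (p.fiberι (pt x))).obj F) (VarietyB.PullSec.isQCoh_pullback _ _ hF) i
  let e : (Scheme.Modules.pullback (pullback.fst p x)).obj F ≅
      (Scheme.Modules.pullback (toFib p x)).obj ((Scheme.Modules.pullback (p.fiberι (pt x))).obj F) :=
    (Scheme.Modules.pullbackCongr (toFib_fst p x).symm).app F ≪≫
      ((Scheme.Modules.pullbackComp (toFib p x) (p.fiberι (pt x))).app F).symm
  have h2 := (VarietyA.EulerLES.equivA K e i).finrank_eq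
  exact h2.trans h

theorem isProper_snd [IsProper p] : IsProper (pullback.snd p x) := inferInstance

theorem topologicalKrullDim_pullback [IsProper p] (hdim : ∀ s : S, topologicalKrullDim (p.fiber s) = 1) :
    topologicalKrullDim ↥(pullback p x : Scheme.{u}) = 1 := by
  have h : LocallyOfFiniteType (p.fiberToSpecResidueField (pt x)) :=
    MorphismProperty.of_isPullback (IsPullback.of_hasPullback p (S.fromSpecResidueField (pt x))) inferInstance
  rw [← hdim (pt x)]
  exact Sga3B.DimFib.topologicalKrullDim_baseChange_eq (k := S.residueField (pt x)) (Ω := CommRingCat.of K)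
    (Field.toIsField _) (Field.toIsField _) (p.fiberToSpecResidueField (pt x)) (Spec.map (ext x))
    (toFib p x) (pullback.snd p x) (isPullback_toFib p x)

theorem isIntegral_pullback [IsProper p] [Smooth p] [GeometricallyConnected p] :
    IsIntegral (pullback p x) := by
  letI : (pullback p x).Over (Spec (CommRingCat.of K)) := ⟨pullback.snd p x⟩
  haveI : Smooth ((pullback p x) ↘ (Spec (CommRingCat.of K))) :=
    inferInstanceAs (Smooth (pullback.snd p x))
  haveI : IsProper ((pullback p x) ↘ (Spec (CommRingCat.of K))) :=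
    inferInstanceAs (IsProper (pullback.snd p x))
  haveI : IsNoetherian (pullback p x) := CurvesB.CurveRR.isNoetherian_of_proper K (pullback p x)
  rw [Ega1.GenPts.isIntegral_iff]
  refine ⟨?_, fun z => ?_⟩
  · exact GeometricallyConnected.geometrically_connectedSpace (f := p) _ _ _ (.of_hasPullback _ _)
  · have := S1535.result K (pullback p x) z
    exact S0558.result _

/-- Degrees of quotients of a finite locally free module on the fibres are bounded below. -/
theorem neg_dg_le' [IsProper p] (hdim : ∀ s : S, topologicalKrullDim (p.fiber s) = 1)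
    {F : X.Modules} (hF : FlatMod.IsFinLocFree F) {N₁ M₀ M₁ r : ℕ}
    (h1 : ∀ s : S, PerfAux.betti p F s 1 ≤ N₁)
    (h2 : ∀ s : S, PerfAux.betti p (Coh.structureModule X) s 0 ≤ M₀)
    (h3 : ∀ s : S, PerfAux.betti p (Coh.structureModule X) s 1 ≤ M₁)
    (h4 : ∀ (Y : Scheme.{u}) (g : Y ⟶ X) (y : Y),
      Module.finrank (Y.presheaf.stalk y) (((Scheme.Modules.pullback g).obj F).presheaf.stalk y) ≤ r)
    [IsIntegral (pullback p x)] {E : (pullback p x).Modules}
    (φ : (Scheme.Modules.pullback (pullback.fst p x)).obj F ⟶ E) [Epi φ] :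
    -@dg K _ (pullback p x) ⟨pullback.snd p x⟩ _ E ≤ (N₁ : ℤ) + r * (M₀ + M₁) := by
  letI : (pullback p x).Over (Spec (CommRingCat.of K)) := ⟨pullback.snd p x⟩
  haveI : IsProper ((pullback p x) ↘ (Spec (CommRingCat.of K))) :=
    inferInstanceAs (IsProper (pullback.snd p x))
  haveI : IsNoetherian (pullback p x) := CurvesB.CurveRR.isNoetherian_of_proper K (pullback p x)
  have hd := (topologicalKrullDim_pullback p x hdim).le
  have hFK : Coh.IsCoh ((Scheme.Modules.pullback (pullback.fst p x)).obj F) :=
    PerfA.CohSerre.isCoh_of_isFinLocFree (PerfC.PullRestrict.isFinLocFree_pullback _ hF)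
  refine (neg_dg_le K hd hFK φ).trans ?_
  have hq : Coh.IsQCoh F := PerfA.QCohEpi.isQCoh_of_isFinLocFree hF
  have a1 := finrank_HH_pullback p x F hq 1
  have a2 : ∀ i, Module.finrank K (Coh.HH (pullback p x) (Coh.structureModule (pullback p x)) i) =
      PerfAux.betti p (Coh.structureModule X) (pt x) i := by
    intro i
    rw [← finrank_HH_pullback p x (Coh.structureModule X)
      (PerfA.QCohEpi.isQCoh_of_isFinLocFree PerfB.StructFlat.isFinLocFree_structure) i]
    exact ((VarietyA.EulerLES.equivA K (PerfC.PullRestrict.pullbackUnit (pullback.fst p x)) i).finrank_eq).symm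
  rw [a1, CurvesB.CurveRR.euler_eq K (pullback p x) hd, a2 0, a2 1]
  have b1 : (PerfAux.betti p F (pt x) 1 : ℤ) ≤ N₁ := by exact_mod_cast h1 _
  have b2 : (PerfAux.betti p (Coh.structureModule X) (pt x) 0 : ℤ) ≤ M₀ := by exact_mod_cast h2 _
  have b3 : (PerfAux.betti p (Coh.structureModule X) (pt x) 1 : ℤ) ≤ M₁ := by exact_mod_cast h3 _
  have b4 : (rk ((Scheme.Modules.pullback (pullback.fst p x)).obj F) : ℤ) ≤ r := by
    exact_mod_cast h4 _ (pullback.fst p x) (genericPoint ↥(pullback p x : Scheme.{u}))
  have b5 : |(PerfAux.betti p (Coh.structureModule X) (pt x) 0 : ℤ) -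
      PerfAux.betti p (Coh.structureModule X) (pt x) 1| ≤ (M₀ + M₁ : ℤ) := by
    rw [abs_le]
    constructor <;> linarith [Int.natCast_nonneg (PerfAux.betti p (Coh.structureModule X) (pt x) 0),
      Int.natCast_nonneg (PerfAux.betti p (Coh.structureModule X) (pt x) 1)]
  have b6 : (rk ((Scheme.Modules.pullback (pullback.fst p x)).obj F) : ℤ) *
      |(PerfAux.betti p (Coh.structureModule X) (pt x) 0 : ℤ) -
      PerfAux.betti p (Coh.structureModule X) (pt x) 1| ≤ r * (M₀ + M₁ : ℤ) :=
    mul_le_mul b4 b5 (abs_nonneg _) (by positivity)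
  linarith

end Pt

end K795.UnifBound
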